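import Mathlib

/-!
Fixed-point-free groups through a rational functional, and the orders of products of two elements of order three.
-/

set_option autoImplicit false

namespace CfsgLib.ZasFC

open Polynomial

universe u

variable {G : Type u} [Group G]

/-- A rational functional, not zero at `1`, with vanishing sums over every coset of a subgroup of prime order. -/
def HasFunctional (G : Type*) [Group G] : Prop :=
  ∃ ψ : G → ℚ, ψ 1 ≠ 0 ∧ ∀ g z : G, (orderOf z).Prime → ∑ i ∈ Finset.range (orderOf z), ψ (g * z ^ i) = 0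

theorem HasFunctional.comap {H : Type*} [Group H] (f : H →* G) (hf : Function.Injective f)
    (hG : HasFunctional G) : HasFunctional H := by
  obtain ⟨ψ, h1, hs⟩ := hG
  refine ⟨fun h => ψ (f h), by simpa using h1, fun g z hz => ?_⟩
  rw [← orderOf_injective f hf z] at hz ⊢
  simpa using hs (f g) (f z) hz

theorem HasFunctional.subgroup (hG : HasFunctional G) (H : Subgroup G) : HasFunctional H :=
  hG.comap H.subtype H.subtype_injective

/-- The functions with vanishing sums over cosets of subgroups of prime order. -/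
def van (K : Type*) [Field K] (G : Type u) [Group G] : Submodule K (G → K) where
  carrier := {f | ∀ g z : G, (orderOf z).Prime → ∑ i ∈ Finset.range (orderOf z), f (g * z ^ i) = 0}
  add_mem' {a b} ha hb g z hz := by simp [Finset.sum_add_distrib, ha g z hz, hb g z hz]
  zero_mem' g z hz := by simp
  smul_mem' c a ha g z hz := by simp [← Finset.mul_sum, ha g z hz]

/-- Left translation. -/
def shift (K : Type*) [Field K] (g : G) : Module.End K (van K G) where
  toFun f := ⟨fun h => f.1 (g⁻¹ * h), fun g' z hz => by simpa [mul_assoc] using f.2 (g⁻¹ * g') z hz⟩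
  map_add' a b := rfl
  map_smul' c a := rfl

/-- Left translation as a homomorphism. -/
def lt (K : Type*) [Field K] : G →* Module.End K (van K G) where
  toFun := shift K
  map_one' := LinearMap.ext fun f => Subtype.ext (funext fun h => by
    show f.1 (1⁻¹ * h) = f.1 h
    rw [inv_one, one_mul])
  map_mul' a b := LinearMap.ext fun f => Subtype.ext (funext fun h => by
    show f.1 ((a * b)⁻¹ * h) = f.1 (b⁻¹ * (a⁻¹ * h))
    rw [mul_inv_rev, mul_assoc])

theorem lt_apply (K : Type*) [Field K] (g : G) (f : van K G) (h : G) : (lt K g f).1 h = f.1 (g⁻¹ * h) := rfl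

theorem van_left_sum {K : Type*} [Field K] {f : G → K} (hf : f ∈ van K G) {z : G} (hz : (orderOf z).Prime)
    (h : G) : ∑ i ∈ Finset.range (orderOf z), f ((z ^ i)⁻¹ * h) = 0 := by
  have e : orderOf (h⁻¹ * z⁻¹ * h) = orderOf z := by
    rw [show h⁻¹ * z⁻¹ * h = MulAut.conj h⁻¹ z⁻¹ by simp, (MulAut.conj h⁻¹).orderOf_eq, orderOf_inv]
  have h1 := hf h (h⁻¹ * z⁻¹ * h) (e.symm ▸ hz)
  rw [e] at h1
  refine (Finset.sum_congr rfl fun i _ => ?_).trans h1
  rw [show h⁻¹ * z⁻¹ * h = h⁻¹ * z⁻¹ * h⁻¹⁻¹ by rw [inv_inv], conj_pow, inv_inv, inv_pow]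
  congr 1
  group

theorem lt_sum (K : Type*) [Field K] {z : G} (hz : (orderOf z).Prime) :
    ∑ i ∈ Finset.range (orderOf z), lt K z ^ i = 0 := by
  refine LinearMap.ext fun f => Subtype.ext (funext fun h => ?_)
  rw [LinearMap.sum_apply, Submodule.coe_sum, Finset.sum_apply]
  refine (Finset.sum_congr rfl fun i _ => ?_).trans (van_left_sum f.2 hz h)
  rw [← map_pow, lt_apply]

/-- The abstract form of fixed-point-freeness in an algebra over the rationals. -/
theorem exists_rep (hG : HasFunctional G) :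
    ∃ (R : Type u) (_ : Ring R) (_ : Algebra ℚ R) (_ : Nontrivial R) (ρ : G →* R),
      ∀ z : G, (orderOf z).Prime → ∑ i ∈ Finset.range (orderOf z), ρ z ^ i = 0 := by
  obtain ⟨ψ, h1, hs⟩ := hG
  refine ⟨Module.End ℚ (van ℚ G), inferInstance, inferInstance, ⟨0, 1, fun e => ?_⟩, lt ℚ, fun z hz => lt_sum ℚ hz⟩
  have h2 := congrArg (fun F : Module.End ℚ (van ℚ G) => (F ⟨ψ, hs⟩).1 1) e
  exact h1 (by simpa using h2.symm)

variable {R : Type*} [Ring R] [Algebra ℚ R] {ρ : G →* R}

theorem nat_smul_eq_zero {n : ℕ} (hn : n ≠ 0) {X : R} (h : n • X = 0) : X = 0 := by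
  rw [← Nat.cast_smul_eq_nsmul ℚ] at h
  have h1 := congrArg (fun Y => (n : ℚ)⁻¹ • Y) h
  simpa [smul_smul, inv_mul_cancel₀ (Nat.cast_ne_zero.mpr hn : (n : ℚ) ≠ 0)] using h1

/-- `ρ w - 1` is not a left zero divisor for `w ≠ 1`. -/
theorem eq_zero_of_fixed [Finite G] (hsum : ∀ z : G, (orderOf z).Prime → ∑ i ∈ Finset.range (orderOf z), ρ z ^ i = 0)
    {w : G} (hw : w ≠ 1) {X : R} (hX : ρ w * X = X) : X = 0 := by
  obtain ⟨q, hq, hqd⟩ := Nat.exists_prime_and_dvd (n := orderOf w) fun h => hw (orderOf_eq_one_iff.mp h)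
  have hzo : orderOf (w ^ (orderOf w / q)) = q := orderOf_pow_orderOf_div (orderOf_pos w).ne' hqd
  have hpow : ∀ i : ℕ, ρ (w ^ i) * X = X := by
    intro i
    induction i with
    | zero => simp
    | succ i ih => rw [pow_succ, map_mul, mul_assoc, hX, ih]
  have h1 := congrArg (· * X) (hsum _ (hzo.symm ▸ hq))
  simp only [zero_mul, Finset.sum_mul, ← map_pow, ← pow_mul, hpow, Finset.sum_const, Finset.card_range] at h1
  exact nat_smul_eq_zero (by rw [hzo]; exact hq.ne_zero) h1

theorem rho_injective [Finite G] [Nontrivial R]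
    (hsum : ∀ z : G, (orderOf z).Prime → ∑ i ∈ Finset.range (orderOf z), ρ z ^ i = 0) : Function.Injective ρ := by
  intro a b hab
  by_contra hne
  have h : a⁻¹ * b ≠ 1 := fun e => hne (inv_mul_eq_one.mp e)
  refine one_ne_zero (α := R) (eq_zero_of_fixed hsum h ?_)
  rw [mul_one, map_mul, ← hab, ← map_mul, inv_mul_cancel, map_one]

theorem cyclotomic_eq_zero [Finite G]
    (hsum : ∀ z : G, (orderOf z).Prime → ∑ i ∈ Finset.range (orderOf z), ρ z ^ i = 0) (w : G) :
    aeval (ρ w) (cyclotomic (orderOf w) ℚ) = 0 := by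
  have hn : 0 < orderOf w := orderOf_pos w
  have hreg : ∀ s : Finset ℕ, (∀ d ∈ s, d ∈ (orderOf w).properDivisors) →
      ∀ X : R, aeval (ρ w) (∏ d ∈ s, cyclotomic d ℚ) * X = 0 → X = 0 := by
    intro s
    induction s using Finset.induction_on with
    | empty => intro _ X h; simpa using h
    | insert d s hd ih =>
      intro hs X h
      rw [Finset.prod_insert hd, map_mul, mul_assoc] at h
      refine ih (fun e he => hs e (Finset.mem_insert_of_mem he)) X ?_
      obtain ⟨c, hc⟩ := cyclotomic.dvd_X_pow_sub_one d ℚ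
      obtain ⟨hdd, hdlt⟩ := Nat.mem_properDivisors.mp (hs d (Finset.mem_insert_self d s))
      have hwd : w ^ d ≠ 1 := pow_ne_one_of_lt_orderOf (fun e => by subst e; exact hn.ne' (Nat.eq_zero_of_zero_dvd hdd)) hdlt
      refine eq_zero_of_fixed hsum hwd ?_
      rw [← sub_eq_zero, map_pow, ← sub_one_mul,
        show ρ w ^ d - 1 = aeval (ρ w) ((Polynomial.X : ℚ[X]) ^ d - 1) by simp,
        hc, mul_comm (cyclotomic d ℚ) c, map_mul, mul_assoc, h, mul_zero]
  refine hreg _ (fun d hd => hd) _ ?_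
  rw [← map_mul]
  have h3 : (∏ d ∈ (orderOf w).properDivisors, cyclotomic d ℚ) * cyclotomic (orderOf w) ℚ =
      (Polynomial.X : ℚ[X]) ^ orderOf w - 1 := by
    rw [← prod_cyclotomic_eq_X_pow_sub_one hn ℚ, ← Nat.cons_self_properDivisors hn.ne', Finset.prod_cons, mul_comm]
  rw [h3, map_sub, map_pow, aeval_X, ← map_pow, pow_orderOf_eq_one, map_one, map_one, sub_self]

/-- The basic inequality for two elements of order three. -/
theorem pair_bound [Fintype G] {K : Type*} [Field K] [LinearOrder K] [IsStrictOrderedRing K] {a b : G}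
    (ha : orderOf a = 3) (hb : orderOf b = 3) {r : G → K} (hr : r ∈ van K G) {t : K}
    (ht : ∀ h, r ((a * b)⁻¹ * h) + r (a * b * h) = t * r h) :
    0 ≤ (1 + t) * ∑ h, r h * r h ∧
      ((1 + t) * ∑ h, r h * r h = 0 → ∀ h, r (a⁻¹ * h) = r (b⁻¹ * h)) := by
  obtain ⟨c, hc⟩ : ∃ c : G → K, c = fun g => ∑ h, r (g⁻¹ * h) * r h := ⟨_, rfl⟩
  have hsq : ∀ g, (∑ h, r (g⁻¹ * h) * r (g⁻¹ * h)) = ∑ h, r h * r h := fun g =>
    Fintype.sum_equiv (Equiv.mulLeft g⁻¹) _ _ fun h => rfl
  have hinner : ∀ g g', (∑ h, r (g⁻¹ * h) * r (g'⁻¹ * h)) = c (g'⁻¹ * g) := fun g g' => by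
    rw [hc]
    refine Fintype.sum_equiv (Equiv.mulLeft g'⁻¹) _ _ fun h => ?_
    show _ = r ((g'⁻¹ * g)⁻¹ * (g'⁻¹ * h)) * r (g'⁻¹ * h)
    congr 2
    group
  have hinv : ∀ g, c g⁻¹ = c g := fun g => by
    have h1 := hinner 1 g
    rw [mul_one] at h1
    rw [← h1, hc]
    exact Finset.sum_congr rfl fun h _ => by simp [mul_comm]
  have hthree : ∀ z : G, orderOf z = 3 → ∀ g, c g + c (z * g) + c (z * z * g) = 0 := by
    intro z hz g
    rw [hc]
    simp only [← Finset.sum_add_distrib, ← add_mul]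
    refine Finset.sum_eq_zero fun h _ => ?_
    have h4 := van_left_sum hr (z := MulAut.conj g⁻¹ z)
      (by rw [(MulAut.conj g⁻¹).orderOf_eq, hz]; exact Nat.prime_three) (g⁻¹ * h)
    rw [(MulAut.conj g⁻¹).orderOf_eq, hz] at h4
    simp only [Finset.sum_range_succ, Finset.sum_range_zero, zero_add, pow_zero, inv_one, one_mul, pow_one,
      pow_two, MulAut.conj_apply, inv_inv] at h4
    rw [show (z * g)⁻¹ * h = (g⁻¹ * z * g)⁻¹ * (g⁻¹ * h) by group,
      show (z * z * g)⁻¹ * h = (g⁻¹ * z * g * (g⁻¹ * z * g))⁻¹ * (g⁻¹ * h) by group, h4, zero_mul]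
  have hR : c 1 = ∑ h, r h * r h := by rw [hc]; simp
  have hb1 : 2 * c b = -c 1 := by
    have h1 := hthree b hb 1
    have hb2 : b * b = b⁻¹ := by
      refine eq_inv_of_mul_eq_one_left ?_
      rw [mul_assoc, ← pow_two, ← pow_succ', show 2 + 1 = orderOf b from hb.symm, pow_orderOf_eq_one]
    simp only [mul_one, hb2, hinv] at h1
    linarith
  have hu1 : 2 * c (a * b) = t * c 1 := by
    have e1 : c (a * b) + c (a * b)⁻¹ = t * ∑ h, r h * r h := by
      rw [hc, ← Finset.sum_add_distrib, Finset.mul_sum]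
      refine Finset.sum_congr rfl fun h _ => ?_
      rw [inv_inv, ← add_mul, ht, mul_assoc]
    rw [hinv, ← hR] at e1
    linarith
  have hab : c (b⁻¹ * a) = -c b - c (a * b) := by
    have h1 := hthree a ha b
    have ha2 : a * a = a⁻¹ := by
      refine eq_inv_of_mul_eq_one_left ?_
      rw [mul_assoc, ← pow_two, ← pow_succ', show 2 + 1 = orderOf a from ha.symm, pow_orderOf_eq_one]
    rw [ha2] at h1
    rw [← hinv (b⁻¹ * a), mul_inv_rev, inv_inv]
    linarith
  have key : ∑ h, (r (a⁻¹ * h) - r (b⁻¹ * h)) * (r (a⁻¹ * h) - r (b⁻¹ * h)) = (1 + t) * ∑ h, r h * r h := by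
    calc ∑ h, (r (a⁻¹ * h) - r (b⁻¹ * h)) * (r (a⁻¹ * h) - r (b⁻¹ * h))
        = ∑ h, (r (a⁻¹ * h) * r (a⁻¹ * h) + r (b⁻¹ * h) * r (b⁻¹ * h) - 2 * (r (a⁻¹ * h) * r (b⁻¹ * h))) :=
          Finset.sum_congr rfl fun h _ => by ring
      _ = (1 + t) * ∑ h, r h * r h := by
          rw [Finset.sum_sub_distrib, Finset.sum_add_distrib, ← Finset.mul_sum, hsq, hsq, hinner, hab, ← hR]
          linarith
  refine ⟨key ▸ Finset.sum_nonneg fun h _ => mul_self_nonneg _, fun h0 h => ?_⟩
  rw [← key, Finset.sum_eq_zero_iff_of_nonneg fun h _ => mul_self_nonneg _] at h0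
  exact sub_eq_zero.mp (mul_self_eq_zero.mp (h0 h (Finset.mem_univ h)))

theorem linearIndependent_cast [Finite G] {d : ℕ} (w : Fin d → G → ℚ) (hw : LinearIndependent ℚ w)
    (c : Fin d → ℂ) (hc : ∀ g, ∑ i, c i * (w i g : ℂ) = 0) : c = 0 := by
  have := Fintype.ofFinite G
  classical
  obtain ⟨M, hM⟩ := (Fintype.linearCombination ℚ w).exists_leftInverse_of_injective
    (LinearMap.ker_eq_bot.mpr hw.fintypeLinearCombination_injective)
  funext j
  have hMw : ∀ i j, ∑ g, w i g * M (Pi.single g 1) j = if i = j then 1 else 0 := by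
    intro i j
    have h1 := congrArg (fun v => v j) (LinearMap.congr_fun hM (Pi.single i 1))
    rw [LinearMap.comp_apply, Fintype.linearCombination_apply_single, one_smul, LinearMap.id_apply,
      Pi.single_apply] at h1
    have h2 : ∑ g, w i g * M (Pi.single g 1) j = M (w i) j := by
      conv_rhs => rw [show w i = ∑ g, w i g • Pi.single g (1 : ℚ) by
        funext g; simp [Finset.sum_apply, Pi.single_apply]]
      simp only [map_sum, map_smul, Finset.sum_apply, Pi.smul_apply, smul_eq_mul]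
    rw [h2, h1]
    simp [eq_comm]
  calc c j = ∑ i, c i * ((∑ g, w i g * M (Pi.single g 1) j : ℚ) : ℂ) := by
        simp only [hMw]; simp [apply_ite (fun q : ℚ => (q : ℂ))]
    _ = ∑ g, (∑ i, c i * (w i g : ℂ)) * (M (Pi.single g 1) j : ℂ) := by
        push_cast
        simp only [Finset.mul_sum, Finset.sum_mul]
        rw [Finset.sum_comm]
        exact Finset.sum_congr rfl fun g _ => Finset.sum_congr rfl fun i _ => by ring
    _ = 0 := by simp [hc]

set_option maxHeartbeats 1000000 in
/-- A real function on which `u` and `u⁻¹` add up to twice the real part of a given root of unity. -/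
theorem exists_eigen [Finite G] (hG : HasFunctional G) (u : G) {lam : ℂ} (hlam : IsPrimitiveRoot lam (orderOf u)) :
    ∃ r : G → ℝ, r ∈ van ℝ G ∧ r ≠ 0 ∧ ∀ h, r (u⁻¹ * h) + r (u * h) = 2 * lam.re * r h := by
  classical
  obtain ⟨ψ, h1, hs⟩ := hG
  have hn : 0 < orderOf u := orderOf_pos u
  obtain ⟨v, hv⟩ : ∃ v : van ℚ G, v = ⟨ψ, hs⟩ := ⟨_, rfl⟩
  obtain ⟨w, hw⟩ : ∃ w : G → ℕ → ℂ, w = fun h j => (ψ ((u ^ j)⁻¹ * h) : ℂ) := ⟨_, rfl⟩
  obtain ⟨L, hLdef⟩ : ∃ L : G → ℂ[X] →ₗ[ℂ] ℂ, L = fun h => Polynomial.lsum fun j => LinearMap.mulRight ℂ (w h j) := ⟨_, rfl⟩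
  have hL : ∀ h p, L h p = p.sum fun j c => c * w h j := fun h p => by
    rw [hLdef]
    rfl
  have hLm : ∀ h j c, L h (monomial j c) = c * w h j := fun h j c => by
    rw [hL]; exact Polynomial.sum_monomial_index c (fun j c => c * w h j) (zero_mul _)
  have hLX : ∀ h p, L h (Polynomial.X * p) = L (u⁻¹ * h) p := fun h p => by
    induction p using Polynomial.induction_on' with
    | add a b ha hb => rw [mul_add, map_add, map_add, ha, hb]
    | monomial j c =>
      rw [X_mul_monomial, hLm, hLm, hw]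
      simp only [pow_succ', mul_inv_rev, mul_assoc]
  have hcast : ∀ h (q : ℚ[X]), L h (q.map (algebraMap ℚ ℂ)) = ((aeval (lt ℚ u) q v).1 h : ℂ) := fun h q => by
    induction q using Polynomial.induction_on' with
    | add a b ha hb =>
      rw [Polynomial.map_add, map_add, ha, hb, map_add, LinearMap.add_apply, Submodule.coe_add, Pi.add_apply]
      push_cast
      rfl
    | monomial j c =>
      rw [Polynomial.map_monomial, hLm, aeval_monomial, ← map_pow, ← Algebra.smul_def (A := Module.End ℚ (van ℚ G)),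
        LinearMap.smul_apply, Submodule.coe_smul, Pi.smul_apply, lt_apply, hw, hv, smul_eq_mul]
      simp
  obtain ⟨q, hq⟩ : (Polynomial.X - C lam) ∣ cyclotomic (orderOf u) ℂ := by
    rw [dvd_iff_isRoot]
    exact hlam.isRoot_cyclotomic hn
  have hzero : aeval (lt ℚ u) (cyclotomic (orderOf u) ℚ) v = 0 := by
    rw [cyclotomic_eq_zero (R := Module.End ℚ (van ℚ G)) (ρ := lt ℚ) (fun z hz => lt_sum ℚ hz) u]
    rfl
  have hcyc : ∀ h, L h (cyclotomic (orderOf u) ℂ) = 0 := fun h => by
    rw [← map_cyclotomic (orderOf u) (algebraMap ℚ ℂ), hcast, hzero, Submodule.coe_zero, Pi.zero_apply,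
      Rat.cast_zero]
  obtain ⟨e, he⟩ : ∃ e : G → ℂ, e = fun h => L h q := ⟨_, rfl⟩
  have heig : ∀ h, e (u⁻¹ * h) = lam * e h := fun h => by
    have h2 := hcyc h
    rw [hq, sub_mul, map_sub, hLX, C_mul', map_smul, smul_eq_mul, sub_eq_zero] at h2
    rw [he]
    exact h2
  have hevan : ∀ g z : G, (orderOf z).Prime → ∑ i ∈ Finset.range (orderOf z), e (g * z ^ i) = 0 := fun g z hz => by
    simp only [he, hL, Polynomial.sum_def]
    rw [Finset.sum_comm]
    refine Finset.sum_eq_zero fun j _ => ?_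
    rw [← Finset.mul_sum, hw]
    simp only [← mul_assoc]
    rw [← Rat.cast_sum, hs _ z hz, Rat.cast_zero, mul_zero]
  have hdeg : q.natDegree < (cyclotomic (orderOf u) ℂ).natDegree := by
    have hq0 : q ≠ 0 := fun e => cyclotomic_ne_zero _ ℂ (by rw [hq, e, mul_zero])
    rw [hq, natDegree_mul (X_sub_C_ne_zero lam) hq0, natDegree_X_sub_C]
    omega
  rw [natDegree_cyclotomic] at hdeg
  have hne : e ≠ 0 := by
    intro h0
    have hli : LinearIndependent ℚ fun (j : Fin (orderOf u).totient) (g : G) => ψ ((u ^ (j : ℕ))⁻¹ * g) := by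
      rw [Fintype.linearIndependent_iff]
      intro c hc
      obtain ⟨p, hp⟩ : ∃ p : ℚ[X], p = ∑ j : Fin (orderOf u).totient, monomial (j : ℕ) (c j) := ⟨_, rfl⟩
      have hp0 : aeval (lt ℚ u) p v = 0 := Subtype.ext (funext fun g => by
        have h2 := congrFun hc g
        simp only [Finset.sum_apply, Pi.smul_apply, smul_eq_mul, Pi.zero_apply] at h2
        rw [hp, map_sum, LinearMap.sum_apply, Submodule.coe_sum, Finset.sum_apply]
        refine Eq.trans (Finset.sum_congr rfl fun j _ => ?_) h2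
        rw [aeval_monomial, ← map_pow, ← Algebra.smul_def (R := ℚ),
          LinearMap.smul_apply, Submodule.coe_smul, Pi.smul_apply, lt_apply, hv, smul_eq_mul])
      have hpz : p = 0 := by
        by_contra hp1
        have hlt : p.natDegree < (cyclotomic (orderOf u) ℚ).natDegree := by
          rw [natDegree_cyclotomic]
          refine lt_of_le_of_lt (b := (orderOf u).totient - 1) ?_ (by have := Nat.totient_pos.mpr hn; omega)
          rw [hp]
          refine natDegree_sum_le_of_forall_le _ _ fun j _ => (natDegree_monomial_le _).trans ?_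
          omega
        have hco : IsCoprime (cyclotomic (orderOf u) ℚ) p :=
          (cyclotomic.irreducible_rat hn).coprime_iff_not_dvd.mpr fun hd =>
            (Polynomial.natDegree_le_of_dvd hd hp1).not_gt hlt
        obtain ⟨a, b, hab⟩ := hco
        have h2 := congrArg (fun P => (aeval (lt ℚ u) P v).1 1) hab
        simp only [map_add, map_mul, map_one, LinearMap.add_apply, Module.End.mul_apply, Module.End.one_apply,
          hzero, hp0, map_zero, add_zero] at h2
        exact h1 (by rw [hv] at h2; simpa using h2.symm)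
      intro i
      have h2 := congrArg (fun P => coeff P (i : ℕ)) hpz
      simp only [hp, finset_sum_coeff, coeff_monomial, coeff_zero] at h2
      rwa [Finset.sum_eq_single i (fun j _ hj => if_neg fun e => hj (Fin.ext e))
        (fun h => absurd (Finset.mem_univ i) h), if_pos rfl] at h2
    have hq0 : q = 0 := by
      ext j
      rw [coeff_zero]
      by_cases hj : j < (orderOf u).totient
      · have h3 := linearIndependent_cast _ hli (fun i => q.coeff i) fun g => by
          have h4 := congrFun h0 g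
          rw [he, Pi.zero_apply] at h4
          simp only at h4
          rw [← h4, hL, Polynomial.sum_over_range' q (f := fun j c => c * w g j) (fun i => zero_mul _) _ hdeg]
          rw [Finset.sum_range]
          simp [hw]
        exact congrFun h3 ⟨j, hj⟩
      · exact coeff_eq_zero_of_natDegree_lt (by omega)
    exact cyclotomic_ne_zero (orderOf u) ℂ (by rw [hq, hq0, mul_zero])
  have hlam1 : ‖lam‖ = 1 := Complex.norm_eq_one_of_pow_eq_one hlam.pow_eq_one hn.ne'
  have hback : ∀ h, e (u * h) = (starRingEnd ℂ) lam * e h := fun h => by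
    have h2 := heig (u * h)
    rw [inv_mul_cancel_left] at h2
    rw [h2, ← mul_assoc, ← Complex.normSq_eq_conj_mul_self, Complex.normSq_eq_norm_sq, hlam1]
    simp
  have hsum : ∀ h, e (u⁻¹ * h) + e (u * h) = ((2 * lam.re : ℝ) : ℂ) * e h := fun h => by
    rw [heig, hback, ← add_mul, Complex.add_conj]
  by_cases hre : (fun h => (e h).re) = 0
  · refine ⟨fun h => (e h).im, fun g z hz => ?_, fun h0 => hne ?_, fun h => ?_⟩
    · rw [← Complex.im_sum, hevan g z hz, Complex.zero_im]
    · exact funext fun h => Complex.ext (congrFun hre h) (congrFun h0 h)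
    · have := congrArg Complex.im (hsum h)
      simpa using this
  · refine ⟨fun h => (e h).re, fun g z hz => ?_, hre, fun h => ?_⟩
    · rw [← Complex.re_sum, hevan g z hz, Complex.zero_re]
    · have := congrArg Complex.re (hsum h)
      simpa using this

theorem neg_one_le [Finite G] (hG : HasFunctional G) {a b : G} (ha : orderOf a = 3) (hb : orderOf b = 3)
    {m : ℕ} (hm : m.Coprime (orderOf (a * b))) (h3 : orderOf (a * b) < 3 * m) (h2 : 2 * m ≤ orderOf (a * b)) :
    False := by
  have := Fintype.ofFinite G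
  have hn : 0 < orderOf (a * b) := orderOf_pos _
  obtain ⟨r, hr, hr0, hru⟩ := exists_eigen hG (a * b) (Complex.isPrimitiveRoot_exp_of_coprime m _ hn.ne' hm)
  have h1 := (pair_bound ha hb hr hru).1
  have hpos : 0 < ∑ h, r h * r h := by
    obtain ⟨h, hh⟩ := Function.ne_iff.mp hr0
    exact Finset.sum_pos' (fun h _ => mul_self_nonneg _) ⟨h, Finset.mem_univ h, mul_self_pos.mpr hh⟩
  have h4 := nonneg_of_mul_nonneg_left h1 hpos
  have hre : (Complex.exp (2 * Real.pi * Complex.I * (m / (orderOf (a * b) : ℂ)))).re =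
      Real.cos (2 * Real.pi * (m / (orderOf (a * b) : ℝ))) := by
    rw [show (2 * Real.pi * Complex.I * (m / (orderOf (a * b) : ℂ))) =
      ((2 * Real.pi * (m / (orderOf (a * b) : ℝ)) : ℝ) : ℂ) * Complex.I by push_cast; ring,
      Complex.exp_ofReal_mul_I_re]
  rw [hre] at h4
  have hx : 1 / 3 < (m : ℝ) / (orderOf (a * b) : ℝ) := by
    rw [div_lt_div_iff₀ (by norm_num) (by exact_mod_cast hn)]
    exact_mod_cast (by omega : 1 * orderOf (a * b) < m * 3)
  have hx2 : (m : ℝ) / (orderOf (a * b) : ℝ) ≤ 1 / 2 := by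
    rw [div_le_div_iff₀ (by exact_mod_cast hn) (by norm_num)]
    exact_mod_cast (by omega : m * 2 ≤ 1 * orderOf (a * b))
  have h5 : Real.cos (2 * Real.pi * (m / (orderOf (a * b) : ℝ))) < Real.cos (Real.pi - Real.pi / 3) :=
    Real.strictAntiOn_cos ⟨by linarith [Real.pi_pos], by linarith [Real.pi_pos]⟩
      ⟨by positivity, by nlinarith [Real.pi_pos]⟩ (by nlinarith [Real.pi_pos])
  rw [Real.cos_pi_sub, Real.cos_pi_div_three] at h5
  linarith

theorem order_mul_of_order_three [Finite G] (hG : HasFunctional G) {a b : G} (ha : orderOf a = 3)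
    (hb : orderOf b = 3) :
    orderOf (a * b) = 1 ∨ (orderOf (a * b) = 3 ∧ a = b) ∨ orderOf (a * b) = 4 ∨ orderOf (a * b) = 6 ∨
      orderOf (a * b) = 10 := by
  have hn : 0 < orderOf (a * b) := orderOf_pos _
  generalize hn' : orderOf (a * b) = n at hn
  by_cases h3 : n = 3
  · refine Or.inr (Or.inl ⟨h3, ?_⟩)
    have := Fintype.ofFinite G
    obtain ⟨ψ, h1, hs⟩ := hG
    have ht : ∀ h, ψ ((a * b)⁻¹ * h) + ψ (a * b * h) = (-1) * ψ h := fun h => by
      have h4 := van_left_sum (show ψ ∈ van ℚ G from hs) (z := a * b) (hn'.trans h3 ▸ Nat.prime_three) h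
      rw [hn', h3] at h4
      simp only [Finset.sum_range_succ, Finset.sum_range_zero, zero_add, pow_zero, inv_one, one_mul, pow_one] at h4
      have hu : ((a * b) ^ 2)⁻¹ = a * b := by
        refine inv_eq_of_mul_eq_one_right ?_
        rw [← pow_succ, show 2 + 1 = orderOf (a * b) by rw [hn', h3], pow_orderOf_eq_one]
      rw [hu] at h4
      linarith
    have heq := (pair_bound ha hb (show ψ ∈ van ℚ G from hs) ht).2 (by ring)
    by_contra hne
    have hc : b⁻¹ * a ≠ 1 := fun e => hne (inv_mul_eq_one.mp e).symm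
    have hinv : ∀ h, ψ (b⁻¹ * a * h) = ψ h := fun h => by
      have := heq (a * h)
      rw [inv_mul_cancel_left, ← mul_assoc] at this
      exact this.symm
    have hpow : ∀ i : ℕ, ψ ((b⁻¹ * a) ^ i) = ψ 1 := by
      intro i
      induction i with
      | zero => simp
      | succ i ih => rw [pow_succ', hinv, ih]
    obtain ⟨q, hq, hqd⟩ := Nat.exists_prime_and_dvd (n := orderOf (b⁻¹ * a)) fun h => hc (orderOf_eq_one_iff.mp h)
    have hzo : orderOf ((b⁻¹ * a) ^ (orderOf (b⁻¹ * a) / q)) = q := orderOf_pow_orderOf_div (orderOf_pos _).ne' hqd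
    have h5 := hs 1 _ (hzo.symm ▸ hq)
    simp only [one_mul, ← pow_mul, hpow, Finset.sum_const, Finset.card_range, hzo, nsmul_eq_mul] at h5
    rcases mul_eq_zero.mp h5 with h6 | h6
    · exact hq.ne_zero (by exact_mod_cast h6)
    · exact h1 h6
  by_contra hcon
  push Not at hcon
  obtain ⟨k, hk⟩ := Nat.even_or_odd' n
  have fin : ∀ m : ℕ, m.Coprime n → n < 3 * m → 2 * m ≤ n → False := fun m h1 h2 h4 =>
    neg_one_le hG ha hb (hn' ▸ h1) (hn' ▸ h2) (hn' ▸ h4)
  rcases hk with hk | hk
  · obtain ⟨l, hl⟩ := Nat.even_or_odd' k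
    by_cases hn2 : n = 2
    · exact fin 1 (Nat.coprime_one_left n) (by omega) (by omega)
    rcases hl with hl | hl
    · refine fin (2 * l - 1) ?_ (by omega) (by omega)
      have hodd : Odd (2 * l - 1) := ⟨l - 1, by omega⟩
      rw [show n = 4 * l by omega]
      refine Nat.Coprime.mul_right (hodd.coprime_two_right.pow_right 2) ?_
      obtain ⟨l, rfl⟩ : ∃ l', l = l' + 1 := ⟨l - 1, by omega⟩
      rw [show 2 * (l + 1) - 1 = l + (l + 1) by omega, Nat.coprime_add_self_left]
      simp
    · refine fin (2 * l - 1) ?_ (by omega) (by omega)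
      have hodd : Odd (2 * l - 1) := ⟨l - 1, by omega⟩
      rw [show n = 4 + (2 * l - 1) * 2 by omega, Nat.coprime_add_mul_left_right]
      exact hodd.coprime_two_right.pow_right 2
  · refine fin k ?_ (by omega) (by omega)
    rw [show n = 1 + k * 2 by omega, Nat.coprime_add_mul_left_right]
    exact Nat.coprime_one_right k

end CfsgLib.ZasFC
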