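import Cfsg.Agent.S3357
import Cfsg.Agent.Lib.ZassenhausFC.Functional

/-!
Frobenius complements and groups of fixed-point-free automorphisms carry a functional.
-/

set_option autoImplicit false

namespace CfsgLib.ZasFC

open Cfsg

theorem hasFunctional_of_complement {G : Type*} [Group G] [Finite G] {L : Type*} [Group L] [Finite L]
    (H : Subgroup L) (hH : Cfsg.IsFrobeniusComplement H) (e : G ≃* H) : HasFunctional G := by
  classical
  -- a module
  obtain ⟨N, -, hNn, hcN⟩ := CfsgLib.Frob.exists_kernel hH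
  have hN1 : N ≠ ⊥ := CfsgLib.Frob.kernel_ne_bot hH hcN
  obtain ⟨V, hVc, hV1, hHV, hfpf⟩ := CfsgLib.Frob.exists_abelian_module hcN hN1 hH.1
    fun h hh h1 => CfsgLib.Frob.fpf_of_frob hcN.disjoint hH hh h1
  obtain ⟨r, hr, hrV⟩ := Nat.exists_prime_and_dvd (n := Nat.card V) (fun h => hV1 (Subgroup.card_eq_one.mp h))
  haveI := Fact.mk hr
  have hrG : ¬ r ∣ Nat.card G := by
    intro hd
    obtain ⟨g, hg⟩ := exists_prime_orderOf_dvd_card' r hd
    have hgo : orderOf ((e g : H) : L) = r := by rw [Subgroup.orderOf_coe, e.orderOf_eq, hg]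
    exact CfsgLib.Frob.not_dvd_card_of_fpf (hHV (e g).2) hgo
      (hfpf _ (e g).2 fun h => by rw [h, orderOf_one] at hgo; exact hr.ne_one hgo.symm) hrV
  -- its elements of order `r`
  haveI : IsMulCommutative V := hVc
  letI : CommGroup V := { (inferInstance : Group V) with mul_comm := fun a b => hVc.is_comm.comm a b }
  let A : Subgroup V :=
    { carrier := {v | v ^ r = 1}
      mul_mem' := fun {a b} (ha : a ^ r = 1) (hb : b ^ r = 1) =>
        show (a * b) ^ r = 1 by rw [mul_pow, ha, hb, one_mul]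
      one_mem' := one_pow r
      inv_mem' := fun {a} (ha : a ^ r = 1) => show a⁻¹ ^ r = 1 by rw [inv_pow, ha, inv_one] }
  have hrA : ∀ a : Additive A, r • a = 0 := fun a =>
    Additive.toMul.injective (Subtype.ext (Additive.toMul a).2)
  haveI : Nontrivial (Additive A) := by
    obtain ⟨v, hv⟩ := exists_prime_orderOf_dvd_card' r hrV
    refine ⟨⟨Additive.ofMul ⟨v, orderOf_dvd_iff_pow_eq_one.mp (dvd_of_eq hv)⟩, 0, fun h => ?_⟩⟩
    have h' : (⟨v, orderOf_dvd_iff_pow_eq_one.mp (dvd_of_eq hv)⟩ : A) = 1 := h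
    have : v = 1 := congrArg Subtype.val h'
    rw [this, orderOf_one] at hv
    exact hr.ne_one hv.symm
  have hconj : ∀ (g : G) (v : V), ((e g : H) : L) * v * ((e g : H) : L)⁻¹ ∈ V := fun g v =>
    (Subgroup.mem_normalizer_iff.mp (hHV (e g).2) v).mp v.2
  let act : G → Additive A → Additive A := fun g a => Additive.ofMul
    ⟨⟨_, hconj g (Additive.toMul a).1⟩, show (⟨_, hconj g (Additive.toMul a).1⟩ : V) ^ r = 1 from Subtype.ext (by
      rw [SubgroupClass.coe_pow, conj_pow, ← SubgroupClass.coe_pow, (Additive.toMul a).2]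
      simp)⟩
  have hact : ∀ g a, (((Additive.toMul (act g a) : A) : V) : L) =
      ((e g : H) : L) * (((Additive.toMul a : A) : V) : L) * ((e g : H) : L)⁻¹ := fun _ _ => rfl
  have hadd : ∀ g a b, act g (a + b) = act g a + act g b := fun g a b =>
    Additive.toMul.injective (Subtype.ext (Subtype.ext (by
      show _ = (((Additive.toMul (act g a) : A) : V) : L) * (((Additive.toMul (act g b) : A) : V) : L)
      rw [hact, hact, hact, toMul_add, Subgroup.coe_mul, Subgroup.coe_mul]
      group)))
  obtain ⟨x₀, hx₀, hkill⟩ := Cfsg.Agent.S3357.exists_killed' (r := r) (A := Additive A) hr hrA act hadd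
    (fun a => Additive.toMul.injective (Subtype.ext (Subtype.ext (by rw [hact]; simp))))
    (fun g g' a => Additive.toMul.injective (Subtype.ext (Subtype.ext (by
      rw [hact, hact, hact, map_mul, Subgroup.coe_mul]; group))))
    (fun z hz a ha => by
      have h1 : ((e z : H) : L) * (((Additive.toMul a : A) : V) : L) * ((e z : H) : L)⁻¹ =
          (((Additive.toMul a : A) : V) : L) := by rw [← hact]; exact congrArg (fun w => (((Additive.toMul w : A) : V) : L)) ha
      have h2 : (((Additive.toMul a : A) : V) : L) ∈ V ⊓ Subgroup.centralizer {((e z : H) : L)} :=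
        ⟨((Additive.toMul a : A) : V).2, Subgroup.mem_centralizer_singleton_iff.mpr (mul_inv_eq_iff_eq_mul.mp h1).symm⟩
      rw [hfpf _ (e z).2 (fun h => hz (e.injective (Subtype.ext (h.trans (by simp))))), Subgroup.mem_bot] at h2
      exact Additive.toMul.injective (Subtype.ext (Subtype.ext h2)))
  exact Cfsg.Agent.S3357.exists_functional (Cfsg.Agent.S3357.int_not_mem hrG hx₀ hkill)

theorem hasFunctional_of_hFC {G : Type*} [Group G] [Finite G]
    (hFC : ∃ (L : Type) (_ : Group L) (_ : Finite L) (H : Subgroup L), Cfsg.IsFrobeniusComplement H ∧ Nonempty (G ≃* H)) :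
    HasFunctional G := by
  obtain ⟨L, _, _, H, hH, ⟨e⟩⟩ := hFC
  exact hasFunctional_of_complement H hH e

theorem hasFunctional_of_aut {K : Type*} [Group K] [Finite K] (A : Subgroup (MulAut K))
    (hfpf : ∀ φ ∈ A, φ ≠ 1 → ∀ k : K, φ k = k → k = 1) (hne : A ≠ ⊥) : HasFunctional A := by
  classical
  have hFinA : Finite A := Finite.of_injective (fun a : A => (fun k => (a : MulAut K) k)) fun a b h =>
    Subtype.ext (MulEquiv.ext fun k => congrFun h k)
  haveI : Finite (K ⋊[A.subtype] A) := Finite.of_equiv (K × A) SemidirectProduct.equivProd.symm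
  let K' : Subgroup (K ⋊[A.subtype] A) := (SemidirectProduct.inl (φ := A.subtype)).range
  let H : Subgroup (K ⋊[A.subtype] A) := (SemidirectProduct.inr (φ := A.subtype)).range
  haveI : K'.Normal := by
    show (SemidirectProduct.inl (φ := A.subtype)).range.Normal
    rw [SemidirectProduct.range_inl_eq_ker_rightHom]
    infer_instance
  have hc : Subgroup.IsComplement' K' H := by
    refine ⟨fun x y hxy => ?_, fun g => ⟨⟨⟨_, ⟨g.left, rfl⟩⟩, ⟨_, ⟨g.right, rfl⟩⟩⟩,
      SemidirectProduct.inl_left_mul_inr_right g⟩⟩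
    obtain ⟨⟨_, k, rfl⟩, ⟨_, a, rfl⟩⟩ := x
    obtain ⟨⟨_, k', rfl⟩, ⟨_, a', rfl⟩⟩ := y
    simp only at hxy
    have h1 := congrArg SemidirectProduct.left hxy
    have h2 := congrArg SemidirectProduct.right hxy
    simp at h1 h2
    subst h1; subst h2; rfl
  have hH : H ≠ ⊥ := by
    intro e
    refine hne (eq_bot_iff.mpr fun a ha => ?_)
    have : (SemidirectProduct.inr ⟨a, ha⟩ : K ⋊[A.subtype] A) ∈ H := ⟨_, rfl⟩
    rw [e, Subgroup.mem_bot] at this
    rw [Subgroup.mem_bot]
    have h2 := congrArg SemidirectProduct.right this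
    simpa using congrArg Subtype.val h2
  have hK : K' ≠ ⊥ := by
    intro e
    refine hne (eq_bot_iff.mpr fun a ha => ?_)
    rw [Subgroup.mem_bot]
    refine MulEquiv.ext fun k => ?_
    have : (SemidirectProduct.inl k : K ⋊[A.subtype] A) ∈ K' := ⟨_, rfl⟩
    rw [e, Subgroup.mem_bot] at this
    have h2 : k = 1 := by simpa using congrArg SemidirectProduct.left this
    subst h2
    simp
  have hF : Cfsg.IsFrobeniusComplement H := CfsgLib.Frob.frob_of_fpf hc hK hH fun h hh h1 => by
    obtain ⟨a, rfl⟩ := hh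
    rw [Subgroup.eq_bot_iff_forall]
    rintro x ⟨⟨k, rfl⟩, hx⟩
    replace hx := Subgroup.mem_centralizer_singleton_iff.mp hx
    have h2 : (a : MulAut K) k = k := by
      have := congrArg SemidirectProduct.left hx
      simpa using this.symm
    have h3 := hfpf a a.2 (fun e => h1 (by rw [show a = 1 from Subtype.ext e, map_one])) k h2
    rw [h3, map_one]
  exact hasFunctional_of_complement H hF (MonoidHom.ofInjective SemidirectProduct.inr_injective)

end CfsgLib.ZasFC
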