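import Mathlib

/-!
Square roots of `-3` in an algebra over the rationals, pairwise at the angles allowed in a fixed-point-free group:
a pair at the icosahedral angle generates a quaternion frame with `β * β = 5`.
-/

set_option autoImplicit false
set_option linter.unusedSectionVars false
set_option linter.unusedSimpArgs false

namespace CfsgLib.ZasFC

variable {R : Type*} [Ring R] [Algebra ℚ R]

/-- Conjugation by the element of order three belonging to `x`. -/
def cj (x y : R) : R := (4 : ℚ)⁻¹ • ((x - 1) * y * (-x - 1))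

/-- The anticommutator. -/
def ac (x y : R) : R := x * y + y * x

/-- A system of square roots of `-3`. -/
structure Sys (S : Set R) : Prop where
  sq : ∀ x ∈ S, x * x = (-3 : ℚ) • (1 : R)
  neg : ∀ x ∈ S, -x ∈ S
  conj : ∀ x ∈ S, ∀ y ∈ S, cj x y ∈ S
  pair : ∀ x ∈ S, ∀ y ∈ S, ac x y = (2 : ℚ) • (1 : R) ∨ ac x y = (-2 : ℚ) • (1 : R) ∨ y = x ∨ y = -x ∨
    ac x y * ac x y = (20 : ℚ) • (1 : R)

/-- A quaternion frame with a commuting square root of five. -/
structure Frame (i j k β : R) : Prop where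
  ii : i * i = (-1 : ℚ) • (1 : R)
  jj : j * j = (-1 : ℚ) • (1 : R)
  kk : k * k = (-1 : ℚ) • (1 : R)
  ij : i * j = k
  ji : j * i = -k
  jk : j * k = i
  kj : k * j = -i
  ki : k * i = j
  ik : i * k = -j
  bb : β * β = (5 : ℚ) • (1 : R)
  ib : i * β = β * i
  jb : j * β = β * j
  kb : k * β = β * k

theorem Frame.rot {i j k β : R} (F : Frame i j k β) : Frame j k i β :=
  ⟨F.jj, F.kk, F.ii, F.jk, F.kj, F.ki, F.ik, F.ij, F.ji, F.bb, F.jb, F.kb, F.ib⟩

theorem not_square_five : ¬ IsSquare (5 : ℕ) := by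
  rintro ⟨r, hr⟩
  have : r < 3 := by nlinarith
  interval_cases r <;> omega

theorem not_square_twenty : ¬ IsSquare (20 : ℕ) := by
  rintro ⟨r, hr⟩
  have : r < 5 := by nlinarith
  interval_cases r <;> omega

theorem sq_ne_of_not_square {n : ℕ} (hn : ¬ IsSquare n) (c : ℚ) : c * c ≠ (n : ℚ) :=
  fun h => hn (Rat.isSquare_natCast_iff.mp ⟨c, h.symm⟩)

theorem not_scalar [Nontrivial R] {q : R} {n : ℕ} (hn : ¬ IsSquare n) (hq : q * q = (n : ℚ) • (1 : R)) (c : ℚ) :
    q ≠ c • (1 : R) := by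
  rintro rfl
  rw [smul_mul_smul_comm, mul_one] at hq
  exact sq_ne_of_not_square hn c (smul_left_injective ℚ (one_ne_zero (α := R)) hq)

theorem beta_ne [Nontrivial R] {i j k β : R} (F : Frame i j k β) (c : ℚ) : β ≠ c • (1 : R) :=
  not_scalar (n := 5) not_square_five (by simpa using F.bb) c

theorem twenty_not_scalar [Nontrivial R] {q : R} (hq : q * q = (20 : ℚ) • (1 : R)) (c : ℚ) : q ≠ c • (1 : R) :=
  not_scalar (n := 20) not_square_twenty (by simpa using hq) c

theorem scalar_inj [Nontrivial R] {c d : ℚ} (h : c • (1 : R) = d • (1 : R)) : c = d :=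
  smul_left_injective ℚ (one_ne_zero (α := R)) h

section frame

variable {i j k β : R}

theorem Frame.assoc_rules (F : Frame i j k β) (X : R) :
    i * (i * X) = (-1 : ℚ) • X ∧ j * (j * X) = (-1 : ℚ) • X ∧ k * (k * X) = (-1 : ℚ) • X ∧
    i * (j * X) = k * X ∧ j * (i * X) = -(k * X) ∧ j * (k * X) = i * X ∧ k * (j * X) = -(i * X) ∧
    k * (i * X) = j * X ∧ i * (k * X) = -(j * X) ∧ β * (β * X) = (5 : ℚ) • X ∧
    i * (β * X) = β * (i * X) ∧ j * (β * X) = β * (j * X) ∧ k * (β * X) = β * (k * X) := by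
  simp only [← mul_assoc, F.ii, F.jj, F.kk, F.ij, F.ji, F.jk, F.kj, F.ki, F.ik, F.bb, F.ib, F.jb, F.kb,
    smul_one_mul, neg_mul, and_self]

/-- The part commuting with the quaternions. -/
def avg (i j k u : R) : R := (4 : ℚ)⁻¹ • (u - i * u * i - j * u * j - k * u * k)

theorem avg_rot (i j k u : R) : avg j k i u = avg i j k u := by
  rw [avg, avg]; module

theorem avg_comm_i (F : Frame i j k β) (u : R) : i * avg i j k u = avg i j k u * i := by
  have h := fun X => F.assoc_rules X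
  simp only [forall_and] at h
  obtain ⟨hii, hjj, hkk, hij, hji, hjk, hkj, hki, hik, -⟩ := h
  simp only [avg, mul_assoc, mul_sub, sub_mul, mul_smul_comm, smul_mul_assoc, mul_neg, neg_mul, mul_one, one_mul,
    hii, hjj, hkk, hij, hji, hjk, hkj, hki, hik, F.ii, F.jj, F.kk, F.ij, F.ji, F.jk, F.kj, F.ki, F.ik]
  module

theorem avg_comm (F : Frame i j k β) (u : R) :
    i * avg i j k u = avg i j k u * i ∧ j * avg i j k u = avg i j k u * j ∧ k * avg i j k u = avg i j k u * k :=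
  ⟨avg_comm_i F u, by simpa [avg_rot] using avg_comm_i F.rot u,
    by simpa [avg_rot] using avg_comm_i F.rot.rot u⟩

theorem avg_of_comm (F : Frame i j k β) {c : R} (hi : i * c = c * i) (hj : j * c = c * j) (hk : k * c = c * k) :
    avg i j k c = c := by
  rw [avg, hi, hj, hk, mul_assoc c i i, mul_assoc c j j, mul_assoc c k k, F.ii, F.jj, F.kk]
  simp only [mul_smul_comm, mul_one]
  module

theorem key_id (F : Frame i j k β) (g : R) :
    ac g (i + j + k) - avg i j k (ac g (i + j + k)) = (2 : ℚ) • ((i + j + k) * avg i j k g) := by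
  have h := fun X => F.assoc_rules X
  simp only [forall_and] at h
  obtain ⟨hii, hjj, hkk, hij, hji, hjk, hkj, hki, hik, -⟩ := h
  simp only [avg, ac, mul_assoc, mul_sub, sub_mul, mul_add, add_mul, mul_smul_comm, smul_mul_assoc, mul_neg,
    neg_mul, mul_one, one_mul, smul_add, smul_sub, smul_smul, smul_neg,
    hii, hjj, hkk, hij, hji, hjk, hkj, hki, hik, F.ii, F.jj, F.kk, F.ij, F.ji, F.jk, F.kj, F.ki, F.ik]
  module

theorem key_id3 (F : Frame i j k β) (g : R) :
    ac g (-i + j - k) - avg i j k (ac g (-i + j - k)) = (2 : ℚ) • ((-i + j - k) * avg i j k g) := by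
  have h := fun X => F.assoc_rules X
  simp only [forall_and] at h
  obtain ⟨hii, hjj, hkk, hij, hji, hjk, hkj, hki, hik, -⟩ := h
  simp only [avg, ac, mul_assoc, mul_sub, sub_mul, mul_add, add_mul, mul_smul_comm, smul_mul_assoc, mul_neg,
    neg_mul, mul_one, one_mul, smul_add, smul_sub, smul_smul, smul_neg,
    hii, hjj, hkk, hij, hji, hjk, hkj, hki, hik, F.ii, F.jj, F.kk, F.ij, F.ji, F.jk, F.kj, F.ki, F.ik]
  module

theorem v1_sq (F : Frame i j k β) : (i + j + k) * (i + j + k) = (-3 : ℚ) • (1 : R) := by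
  simp only [mul_add, add_mul, F.ii, F.jj, F.kk, F.ij, F.ji, F.jk, F.kj, F.ki, F.ik]
  module

theorem v2_sq (F : Frame i j k β) : (i - j - k) * (i - j - k) = (-3 : ℚ) • (1 : R) := by
  simp only [mul_sub, sub_mul, F.ii, F.jj, F.kk, F.ij, F.ji, F.jk, F.kj, F.ki, F.ik]
  module

theorem avg_zero_of_adj (F : Frame i j k β) {g : R} (hg : ac g (i + j + k) = (2 : ℚ) • (1 : R)) :
    avg i j k g = 0 := by
  have h := key_id F g
  have h1 : avg i j k ((2 : ℚ) • (1 : R)) = (2 : ℚ) • (1 : R) :=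
    avg_of_comm F (by simp) (by simp) (by simp)
  rw [hg, h1, sub_self] at h
  have h2 := congrArg (fun X => (i + j + k) * X) h
  simp only [mul_zero, mul_smul_comm, ← mul_assoc, v1_sq F, smul_one_mul, smul_smul] at h2
  exact (smul_eq_zero.mp h2.symm).resolve_left (by norm_num)

theorem qsum (F : Frame i j k β) {g : R} (h0 : avg i j k g = 0) : i * g * i + j * g * j + k * g * k = g := by
  have h := congrArg (fun X => (4 : ℚ) • X) h0
  simp only [avg, smul_smul, smul_zero] at h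
  norm_num at h
  rw [sub_eq_zero] at h
  rw [← h]; abel

theorem sum_sq (F : Frame i j k β) {g : R} (hg : g * g = (-3 : ℚ) • (1 : R)) (h0 : avg i j k g = 0) :
    ac g (i + j + k) * ac g (i + j + k) + ac g (i - j - k) * ac g (i - j - k) +
      ac g (-i + j - k) * ac g (-i + j - k) + ac g (-i - j + k) * ac g (-i - j + k) = (48 : ℚ) • (1 : R) := by
  have hexp : ∀ v : R, v * v = (-3 : ℚ) • (1 : R) →
      ac g v * ac g v = g * (v * g * v) + (v * g * v) * g + (18 : ℚ) • (1 : R) := by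
    intro v hv
    rw [show ac g v * ac g v = g * (v * g * v) + (v * g * v) * g + (g * (v * v) * g + v * (g * g) * v) by
      rw [ac]; noncomm_ring, hv, hg]
    simp only [mul_smul_comm, smul_mul_assoc, mul_one, hv, hg]
    module
  rw [hexp _ (v1_sq F), hexp _ (v2_sq F),
    hexp (-i + j - k) (by rw [show -i + j - k = j - k - i by abel]; exact v2_sq F.rot),
    hexp (-i - j + k) (by rw [show -i - j + k = k - i - j by abel]; exact v2_sq F.rot.rot)]
  have hv : (i + j + k) * g * (i + j + k) + (i - j - k) * g * (i - j - k) + (-i + j - k) * g * (-i + j - k) +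
      (-i - j + k) * g * (-i - j + k) = (4 : ℚ) • (i * g * i + j * g * j + k * g * k) := by
    simp only [mul_add, add_mul, mul_sub, sub_mul, mul_neg, neg_mul]
    module
  calc _ = g * ((i + j + k) * g * (i + j + k) + (i - j - k) * g * (i - j - k) + (-i + j - k) * g * (-i + j - k) +
        (-i - j + k) * g * (-i - j + k)) + ((i + j + k) * g * (i + j + k) + (i - j - k) * g * (i - j - k) +
        (-i + j - k) * g * (-i + j - k) + (-i - j + k) * g * (-i - j + k)) * g + (72 : ℚ) • (1 : R) := by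
        simp only [mul_add, add_mul]; module
    _ = _ := by
        rw [hv, qsum F h0]
        simp only [mul_smul_comm, smul_mul_assoc, hg]
        module

theorem recover (F : Frame i j k β) {g : R} (h0 : avg i j k g = 0) :
    (i + j + k) * ac g (i + j + k) + (i - j - k) * ac g (i - j - k) + (-i + j - k) * ac g (-i + j - k) +
      (-i - j + k) * ac g (-i - j + k) = (-8 : ℚ) • g := by
  have hexp : ∀ v : R, v * v = (-3 : ℚ) • (1 : R) → v * ac g v = v * g * v + (-3 : ℚ) • g := by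
    intro v hv
    rw [ac, mul_add, ← mul_assoc v v g, hv, smul_one_mul, mul_assoc]
  rw [hexp _ (v1_sq F), hexp _ (v2_sq F),
    hexp (-i + j - k) (by rw [show -i + j - k = j - k - i by abel]; exact v2_sq F.rot),
    hexp (-i - j + k) (by rw [show -i - j + k = k - i - j by abel]; exact v2_sq F.rot.rot)]
  calc _ = (4 : ℚ) • (i * g * i + j * g * j + k * g * k) + (-12 : ℚ) • g := by
        simp only [mul_add, add_mul, mul_sub, sub_mul, mul_neg, neg_mul]; module
    _ = _ := by rw [qsum F h0]; module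

/-- The six axes other than those of the quartet. -/
def pAx (_i j k β : R) : R := (2 : ℚ)⁻¹ • ((j - k) + β * (j + k))

/-- The six axes other than those of the quartet. -/
def qAx (_i j k β : R) : R := (2 : ℚ)⁻¹ • ((j + k) + β * (j - k))

set_option maxHeartbeats 4000000 in
theorem comm_diff (F : Frame i j k β) {γ : R} (hgi : i * γ = γ * i) (hgj : j * γ = γ * j) (hgk : k * γ = γ * k)
    (hgg : γ * γ = (5 : ℚ) • (1 : R))
    {r : ℚ} (hr : r = 4 ∨ r = 20)
    (h1 : ac ((2 : ℚ)⁻¹ • (-(j + k) + γ * (j - k))) (pAx i j k β) *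
      ac ((2 : ℚ)⁻¹ • (-(j + k) + γ * (j - k))) (pAx i j k β) = r • (1 : R))
    {s : ℚ} (h2 : ac ((2 : ℚ)⁻¹ • (-(j + k) + γ * (j - k))) (pAx j k i β) *
      ac ((2 : ℚ)⁻¹ • (-(j + k) + γ * (j - k))) (pAx j k i β) = s • (1 : R)) [Nontrivial R] : γ = -β := by
  have h := fun X => F.assoc_rules X
  simp only [forall_and] at h
  obtain ⟨hii, hjj, hkk, hij, hji, hjk, hkj, hki, hik, hbb, hib, hjb, hkb⟩ := h
  have hgg' : ∀ X, γ * (γ * X) = (5 : ℚ) • X := fun X => by rw [← mul_assoc, hgg, smul_one_mul]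
  have hgi' : ∀ X, i * (γ * X) = γ * (i * X) := fun X => by rw [← mul_assoc, hgi, mul_assoc]
  have hgj' : ∀ X, j * (γ * X) = γ * (j * X) := fun X => by rw [← mul_assoc, hgj, mul_assoc]
  have hgk' : ∀ X, k * (γ * X) = γ * (k * X) := fun X => by rw [← mul_assoc, hgk, mul_assoc]
  obtain ⟨p, hp⟩ : ∃ p, p = γ * β + β * γ := ⟨_, rfl⟩
  obtain ⟨K, hK⟩ : ∃ K, K = γ * β - β * γ := ⟨_, rfl⟩
  have a1 : ac ((2 : ℚ)⁻¹ • (-(j + k) + γ * (j - k))) (pAx i j k β) = β - γ + (2 : ℚ)⁻¹ • (K * i) := by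
    simp only [hp, hK, ac, pAx, mul_assoc, mul_sub, sub_mul, mul_add, add_mul, mul_smul_comm, smul_mul_assoc,
      mul_neg, neg_mul, mul_one, one_mul, smul_add, smul_sub, smul_smul, smul_neg, neg_neg, neg_add_rev,
      hii, hjj, hkk, hij, hji, hjk, hkj, hki, hik, hbb, hib, hjb, hkb, hgg', hgi', hgj', hgk', hgg, hgi, hgj, hgk,
      F.ii, F.jj, F.kk, F.ij, F.ji, F.jk, F.kj, F.ki, F.ik, F.bb, F.ib, F.jb, F.kb]
    module
  have e1 : (35 : ℚ) • (1 : R) - p - (4 : ℚ)⁻¹ • (p * p) = r • (1 : R) := by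
    rw [← h1, a1]
    simp only [hp, hK, ac, pAx, mul_assoc, mul_sub, sub_mul, mul_add, add_mul, mul_smul_comm, smul_mul_assoc,
      mul_neg, neg_mul, mul_one, one_mul, smul_add, smul_sub, smul_smul, smul_neg, neg_neg, neg_add_rev,
      hii, hjj, hkk, hij, hji, hjk, hkj, hki, hik, hbb, hib, hjb, hkb, hgg', hgi', hgj', hgk', hgg, hgi, hgj, hgk,
      F.ii, F.jj, F.kk, F.ij, F.ji, F.jk, F.kj, F.ki, F.ik, F.bb, F.ib, F.jb, F.kb]
    module
  have a2 : ac ((2 : ℚ)⁻¹ • (-(j + k) + γ * (j - k))) (pAx j k i β) =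
      (4 : ℚ)⁻¹ • ((2 : ℚ) • (1 : R) + (2 : ℚ) • β + (2 : ℚ) • γ + p) + (4 : ℚ)⁻¹ • (K * (i - j - k)) := by
    simp only [hp, hK, ac, pAx, mul_assoc, mul_sub, sub_mul, mul_add, add_mul, mul_smul_comm, smul_mul_assoc,
      mul_neg, neg_mul, mul_one, one_mul, smul_add, smul_sub, smul_smul, smul_neg, neg_neg, neg_add_rev,
      hii, hjj, hkk, hij, hji, hjk, hkj, hki, hik, hbb, hib, hjb, hkb, hgg', hgi', hgj', hgk', hgg, hgi, hgj, hgk,
      F.ii, F.jj, F.kk, F.ij, F.ji, F.jk, F.kj, F.ki, F.ik, F.bb, F.ib, F.jb, F.kb]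
    module
  have e2 : (j - k) * ((2 : ℚ) • K + p * K) = 0 := by
    have h3 : i * (ac ((2 : ℚ)⁻¹ • (-(j + k) + γ * (j - k))) (pAx j k i β) *
        ac ((2 : ℚ)⁻¹ • (-(j + k) + γ * (j - k))) (pAx j k i β)) =
      (ac ((2 : ℚ)⁻¹ • (-(j + k) + γ * (j - k))) (pAx j k i β) *
        ac ((2 : ℚ)⁻¹ • (-(j + k) + γ * (j - k))) (pAx j k i β)) * i := by
      rw [h2]; simp
    rw [← sub_eq_zero, a2] at h3
    refine (smul_eq_zero.mp (Eq.trans (?_ : (4 : ℚ)⁻¹ • ((j - k) * ((2 : ℚ) • K + p * K)) = _) h3)).resolve_left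
      (by norm_num)
    simp only [hp, hK, ac, pAx, mul_assoc, mul_sub, sub_mul, mul_add, add_mul, mul_smul_comm, smul_mul_assoc,
      mul_neg, neg_mul, mul_one, one_mul, smul_add, smul_sub, smul_smul, smul_neg, neg_neg, neg_add_rev,
      hii, hjj, hkk, hij, hji, hjk, hkj, hki, hik, hbb, hib, hjb, hkb, hgg', hgi', hgj', hgk', hgg, hgi, hgj, hgk,
      F.ii, F.jj, F.kk, F.ij, F.ji, F.jk, F.kj, F.ki, F.ik, F.bb, F.ib, F.jb, F.kb]
    module
  have e3 : p * K = (-2 : ℚ) • K := by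
    have h4 := congrArg (fun X => (j - k) * X) e2
    simp only [mul_zero, ← mul_assoc] at h4
    rw [show (j - k) * (j - k) = (-2 : ℚ) • (1 : R) by
      simp only [mul_sub, sub_mul, F.jj, F.kk, F.jk, F.kj]; module, smul_one_mul] at h4
    have h5 := (smul_eq_zero.mp h4).resolve_left (by norm_num)
    rw [eq_neg_of_add_eq_zero_right h5]; module
  have hK0 : K = 0 := by
    have h4 := congrArg (fun X => X * K) e1
    simp only [sub_mul, smul_mul_assoc, one_mul, mul_assoc, e3, mul_smul_comm, smul_smul] at h4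
    have h5 : ((36 : ℚ) - r) • K = 0 := by rw [sub_smul, ← h4]; module
    refine (smul_eq_zero.mp h5).resolve_left ?_
    rcases hr with rfl | rfl <;> norm_num
  have hcomm : γ * β = β * γ := sub_eq_zero.mp (hK ▸ hK0)
  have hcomm' : ∀ X, γ * (β * X) = β * (γ * X) := fun X => by rw [← mul_assoc, hcomm, mul_assoc]
  have hpp : p * p = (100 : ℚ) • (1 : R) := by
    simp only [hp, hcomm, mul_add, add_mul, mul_assoc, hcomm', hbb, hgg', hgg, F.bb, mul_smul_comm, smul_smul]
    module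
  rw [hpp] at e1
  have hp1 : p = (10 - r) • (1 : R) := by
    rw [sub_smul, ← e1]; module
  have h100 : (10 - r) * (10 - r) = 100 := by
    rw [hp1, smul_mul_smul_comm, mul_one] at hpp
    exact scalar_inj hpp
  rcases hr with rfl | rfl
  · norm_num at h100
  rw [hp, hcomm] at hp1
  have hgb : β * γ = (-5 : ℚ) • (1 : R) := by
    calc β * γ = (2 : ℚ)⁻¹ • (β * γ + β * γ) := by module
      _ = _ := by rw [hp1, smul_smul]; norm_num
  have h7 := congrArg (fun X => β * X) hgb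
  simp only [hbb, mul_smul_comm, mul_one] at h7
  calc γ = (5 : ℚ)⁻¹ • ((5 : ℚ) • γ) := by rw [smul_smul]; norm_num
    _ = _ := by rw [h7]; module

theorem adj_core [Nontrivial R] {S : Set R} (hS : Sys S) (F : Frame i j k β) (h1 : i + j + k ∈ S)
    (hP : pAx i j k β ∈ S) (hP' : pAx j k i β ∈ S) {g : R} (hgS : g ∈ S)
    (hg1 : ac g (i + j + k) = (2 : ℚ) • (1 : R)) (hg2 : ac g (i - j - k) = (-2 : ℚ) • (1 : R))
    (hq : ac g (-i + j - k) * ac g (-i + j - k) = (20 : ℚ) • (1 : R))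
    (hneg : ac g (-i - j + k) = -ac g (-i + j - k)) : g = -qAx i j k β := by
  have h0 := avg_zero_of_adj F hg1
  obtain ⟨q, hqdef⟩ : ∃ q, q = ac g (-i + j - k) := ⟨_, rfl⟩
  have hqc : avg i j k q = q := by
    have := key_id3 F g
    rw [h0, mul_zero, smul_zero, sub_eq_zero, ← hqdef] at this
    exact this.symm
  obtain ⟨hci, hcj, hck⟩ := hqc ▸ avg_comm F q
  obtain ⟨γ, hγ⟩ : ∃ γ, γ = (-2 : ℚ)⁻¹ • q := ⟨_, rfl⟩
  have hgi : i * γ = γ * i := by rw [hγ, mul_smul_comm, smul_mul_assoc, hci]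
  have hgj : j * γ = γ * j := by rw [hγ, mul_smul_comm, smul_mul_assoc, hcj]
  have hgk : k * γ = γ * k := by rw [hγ, mul_smul_comm, smul_mul_assoc, hck]
  have hgg : γ * γ = (5 : ℚ) • (1 : R) := by
    rw [hγ, smul_mul_smul_comm, hqdef, hq, smul_smul]; norm_num
  have hform : g = (2 : ℚ)⁻¹ • (-(j + k) + γ * (j - k)) := by
    have h3 := recover F h0
    rw [hg1, hg2, hneg, ← hqdef] at h3
    have h4 : γ * (j - k) = (-2 : ℚ)⁻¹ • ((j - k) * q) := by
      rw [hγ, smul_mul_assoc, mul_sub, sub_mul, hcj, hck]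
    rw [h4]
    have h5 := congrArg (fun X => (-8 : ℚ)⁻¹ • X) h3
    simp only [smul_smul] at h5
    norm_num at h5
    rw [← h5]
    simp only [mul_neg, add_mul, sub_mul, neg_mul, mul_smul_comm, mul_one]
    module
  have hv1P : ac (i + j + k) (pAx i j k β) = (-2 : ℚ) • β := by
    simp only [ac, pAx, mul_add, add_mul, mul_sub, sub_mul, mul_smul_comm, smul_mul_assoc, ← mul_assoc, F.ib, F.jb,
      F.kb]
    simp only [mul_assoc, F.ii, F.jj, F.kk, F.ij, F.ji, F.jk, F.kj, F.ki, F.ik, mul_neg, mul_smul_comm, mul_one]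
    module
  have hne : pAx i j k β ≠ g ∧ pAx i j k β ≠ -g := by
    constructor <;> intro e <;> rw [e] at hv1P
    · rw [show ac (i + j + k) g = ac g (i + j + k) from add_comm _ _, hg1] at hv1P
      refine beta_ne F (-1) ?_
      calc β = (-2 : ℚ)⁻¹ • ((-2 : ℚ) • β) := by rw [smul_smul]; norm_num
        _ = _ := by rw [← hv1P]; module
    · rw [show ac (i + j + k) (-g) = -ac g (i + j + k) by rw [ac, ac]; noncomm_ring, hg1] at hv1P
      refine beta_ne F 1 ?_
      calc β = (-2 : ℚ)⁻¹ • ((-2 : ℚ) • β) := by rw [smul_smul]; norm_num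
        _ = _ := by rw [← hv1P]; module
  obtain ⟨r, hr, hrr⟩ : ∃ r : ℚ, (r = 4 ∨ r = 20) ∧ ac g (pAx i j k β) * ac g (pAx i j k β) = r • (1 : R) := by
    rcases hS.pair g hgS _ hP with e | e | e | e | e
    · exact ⟨4, Or.inl rfl, by rw [e, smul_mul_smul_comm, mul_one]; norm_num⟩
    · exact ⟨4, Or.inl rfl, by rw [e, smul_mul_smul_comm, mul_one]; norm_num⟩
    · exact absurd e hne.1
    · exact absurd e hne.2
    · exact ⟨20, Or.inr rfl, e⟩
  obtain ⟨s, hss⟩ : ∃ s : ℚ, ac g (pAx j k i β) * ac g (pAx j k i β) = s • (1 : R) := by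
    rcases hS.pair g hgS _ hP' with e | e | e | e | e
    · exact ⟨_, by rw [e, smul_mul_smul_comm, mul_one]⟩
    · exact ⟨_, by rw [e, smul_mul_smul_comm, mul_one]⟩
    · refine ⟨36, ?_⟩
      rw [e, ac, hS.sq g hgS, ← add_smul, smul_mul_smul_comm, mul_one]; norm_num
    · refine ⟨36, ?_⟩
      rw [e, ac, mul_neg, neg_mul, hS.sq g hgS, ← neg_add, neg_mul_neg, ← add_smul, smul_mul_smul_comm, mul_one]
      norm_num
    · exact ⟨20, e⟩
  rw [hform] at hrr hss
  have hγβ := comm_diff F hgi hgj hgk hgg hr hrr hss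
  rw [hform, hγβ, qAx]
  simp only [neg_mul]
  module

theorem adjacent [Nontrivial R] {S : Set R} (hS : Sys S) (F : Frame i j k β) (h1 : i + j + k ∈ S)
    (h2 : i - j - k ∈ S) (h3 : -i + j - k ∈ S) (h4 : -i - j + k ∈ S)
    (hP : pAx i j k β ∈ S) (hP' : pAx j k i β ∈ S) (hP'' : pAx k i j β ∈ S) {g : R} (hgS : g ∈ S)
    (hg1 : ac g (i + j + k) = (2 : ℚ) • (1 : R)) :
    g = i - j - k ∨ g = -i + j - k ∨ g = -i - j + k ∨ g = -qAx i j k β ∨ g = -qAx j k i β ∨ g = -qAx k i j β := by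
  have h0 := avg_zero_of_adj F hg1
  have h48 := sum_sq F (hS.sq g hgS) h0
  obtain ⟨a, ha⟩ : ∃ a, a = ac g (i - j - k) := ⟨_, rfl⟩
  obtain ⟨b, hb⟩ : ∃ b, b = ac g (-i + j - k) := ⟨_, rfl⟩
  obtain ⟨c, hc⟩ : ∃ c, c = ac g (-i - j + k) := ⟨_, rfl⟩
  rw [hg1, ← ha, ← hb, ← hc] at h48
  have hsum : a + b + c = (-2 : ℚ) • (1 : R) := by
    have h5 : ac g (i + j + k) + ac g (i - j - k) + ac g (-i + j - k) + ac g (-i - j + k) = 0 := by
      simp only [ac, mul_add, add_mul, mul_sub, sub_mul, mul_neg, neg_mul]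
      abel
    rw [hg1, ← ha, ← hb, ← hc, add_assoc, add_assoc] at h5
    rw [add_assoc, eq_neg_of_add_eq_zero_right h5]; module
  have hnegneq : ∀ v : R, ac v (i + j + k) = (2 : ℚ) • (1 : R) → g ≠ -v := by
    intro v hv e
    rw [e, show ac (-v) (i + j + k) = -ac v (i + j + k) by rw [ac, ac]; noncomm_ring, hv, ← neg_smul] at hg1
    have := scalar_inj hg1
    norm_num at this
  have hvv : ∀ {i j k : R}, Frame i j k β → ac (i - j - k) (i + j + k) = (2 : ℚ) • (1 : R) := by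
    intro i j k F
    simp only [ac, mul_add, add_mul, mul_sub, sub_mul, F.ii, F.jj, F.kk, F.ij, F.ji, F.jk, F.kj, F.ki, F.ik]
    module
  by_cases e2 : g = i - j - k
  · exact Or.inl e2
  by_cases e3 : g = -i + j - k
  · exact Or.inr (Or.inl e3)
  by_cases e4 : g = -i - j + k
  · exact Or.inr (Or.inr (Or.inl e4))
  have hcase : ∀ v : R, v ∈ S → g ≠ v → ac v (i + j + k) = (2 : ℚ) • (1 : R) →
      (∃ t : ℚ, (t = 2 ∨ t = -2) ∧ ac g v = t • (1 : R)) ∨ ac g v * ac g v = (20 : ℚ) • (1 : R) := by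
    intro v hvS hgv hv
    rcases hS.pair g hgS v hvS with e | e | e | e | e
    · exact Or.inl ⟨2, Or.inl rfl, e⟩
    · exact Or.inl ⟨-2, Or.inr rfl, e⟩
    · exact absurd e.symm hgv
    · exact absurd (by rw [e, neg_neg]) (hnegneq v hv)
    · exact Or.inr e
  have hv3 : ac (-i + j - k) (i + j + k) = (2 : ℚ) • (1 : R) := by
    have := hvv F.rot
    rwa [show j - k - i = -i + j - k by abel, show j + k + i = i + j + k by abel] at this
  have hv4 : ac (-i - j + k) (i + j + k) = (2 : ℚ) • (1 : R) := by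
    have := hvv F.rot.rot
    rwa [show k - i - j = -i - j + k by abel, show k + i + j = i + j + k by abel] at this
  have ca := hcase _ h2 e2 (hvv F)
  have cb := hcase _ h3 e3 hv3
  have cc := hcase _ h4 e4 hv4
  rw [← ha] at ca
  rw [← hb] at cb
  rw [← hc] at cc
  have key : ∀ x y z : R, ∀ t : ℚ, (t = 2 ∨ t = -2) → x = t • (1 : R) → y * y = (20 : ℚ) • (1 : R) →
      z * z = (20 : ℚ) • (1 : R) → x + y + z = (-2 : ℚ) • (1 : R) → x = (-2 : ℚ) • (1 : R) ∧ z = -y := by
    intro x y z t ht hx hy hz hs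
    have hz' : z = (-2 - t) • (1 : R) - y := by
      rw [eq_sub_iff_add_eq, sub_smul, eq_sub_iff_add_eq, ← hs, hx]; abel
    rcases ht with rfl | rfl
    · exfalso
      rw [hz'] at hz
      simp only [sub_mul, mul_sub, smul_mul_assoc, mul_smul_comm, one_mul, mul_one, hy, smul_smul] at hz
      refine twenty_not_scalar hy (-2) ?_
      calc y = (8 : ℚ)⁻¹ • ((8 : ℚ) • y) := by rw [smul_smul]; norm_num
        _ = (8 : ℚ)⁻¹ • ((-16 : ℚ) • (1 : R)) := by
          congr 1
          rw [← sub_eq_zero] at hz ⊢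
          rw [← hz]; module
        _ = _ := by rw [smul_smul]; norm_num
    · exact ⟨hx, by rw [hz']; module⟩
  rcases ca with ⟨ta, hta, ea⟩ | ea <;> rcases cb with ⟨tb, htb, eb⟩ | eb <;> rcases cc with ⟨tc, htc, ec⟩ | ec
  · exfalso
    rw [ea, eb, ec] at h48
    simp only [smul_mul_smul_comm, mul_one, ← add_smul] at h48
    have := scalar_inj h48
    rcases hta with rfl | rfl <;> rcases htb with rfl | rfl <;> rcases htc with rfl | rfl <;> norm_num at this
  · refine absurd ?_ (twenty_not_scalar ec (-2 - ta - tb))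
    rw [sub_smul, sub_smul, ← ea, ← eb, ← hsum]; abel
  · refine absurd ?_ (twenty_not_scalar eb (-2 - ta - tc))
    rw [sub_smul, sub_smul, ← ea, ← ec, ← hsum]; abel
  · obtain ⟨k1, k2⟩ := key a b c ta hta ea eb ec hsum
    refine Or.inr (Or.inr (Or.inr (Or.inl ?_)))
    exact adj_core hS F h1 hP hP' hgS hg1 (ha ▸ k1) (hb ▸ eb) (by rw [← hb, ← hc, k2])
  · refine absurd ?_ (twenty_not_scalar ea (-2 - tb - tc))
    rw [sub_smul, sub_smul, ← eb, ← ec, ← hsum]; abel
  · obtain ⟨k1, k2⟩ := key b c a tb htb eb ec ea (by rw [← hsum]; abel)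
    refine Or.inr (Or.inr (Or.inr (Or.inr (Or.inl ?_))))
    refine adj_core hS F.rot (by rwa [show j + k + i = i + j + k by abel]) hP' hP'' hgS
      (by rwa [show j + k + i = i + j + k by abel]) ?_ ?_ ?_
    · rw [show j - k - i = -i + j - k by abel]; exact hb ▸ k1
    · rw [show -j + k - i = -i - j + k by abel, ← hc]; exact ec
    · rw [show -j - k + i = i - j - k by abel, show -j + k - i = -i - j + k by abel, ← ha, ← hc, k2]
  · obtain ⟨k1, k2⟩ := key c a b tc htc ec ea eb (by rw [← hsum]; abel)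
    refine Or.inr (Or.inr (Or.inr (Or.inr (Or.inr ?_))))
    refine adj_core hS F.rot.rot (by rwa [show k + i + j = i + j + k by abel]) hP'' hP hgS
      (by rwa [show k + i + j = i + j + k by abel]) ?_ ?_ ?_
    · rw [show k - i - j = -i - j + k by abel]; exact hc ▸ k1
    · rw [show -k + i - j = i - j - k by abel, ← ha]; exact ea
    · rw [show -k - i + j = -i + j - k by abel, show -k + i - j = i - j - k by abel, ← hb, ← ha, k2]
  · exfalso
    rw [ea, eb, ec] at h48
    simp only [smul_mul_smul_comm, mul_one, ← add_smul] at h48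
    have := scalar_inj h48
    norm_num at this

end frame

section build

theorem frame_of_pair {u w β : R} (hu : u * u = (-3 : ℚ) • (1 : R)) (hw : w * w = (-3 : ℚ) • (1 : R))
    (huw : ac u w = (2 : ℚ) • (1 : R)) (hub : u * β = β * u) (hwb : w * β = β * w)
    (hb : β * β = (5 : ℚ) • (1 : R)) :
    Frame ((2 : ℚ)⁻¹ • (u + w)) ((4 : ℚ)⁻¹ • (u - w) + (8 : ℚ)⁻¹ • (u * w - w * u))
      ((4 : ℚ)⁻¹ • (u - w) - (8 : ℚ)⁻¹ • (u * w - w * u)) β := by
  have hwu : w * u = (2 : ℚ) • (1 : R) - u * w := eq_sub_of_add_eq' huw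
  have a1 : ∀ X, u * (u * X) = (-3 : ℚ) • X := fun X => by rw [← mul_assoc, hu, smul_one_mul]
  have a2 : ∀ X, w * (w * X) = (-3 : ℚ) • X := fun X => by rw [← mul_assoc, hw, smul_one_mul]
  have a3 : ∀ X, w * (u * X) = (2 : ℚ) • X - u * (w * X) := fun X => by
    rw [← mul_assoc, hwu, sub_mul, smul_one_mul, mul_assoc]
  have a4 : ∀ X, u * (β * X) = β * (u * X) := fun X => by rw [← mul_assoc, hub, mul_assoc]
  have a5 : ∀ X, w * (β * X) = β * (w * X) := fun X => by rw [← mul_assoc, hwb, mul_assoc]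
  constructor
  case bb => exact hb
  all_goals
    simp only [mul_add, add_mul, mul_sub, sub_mul, mul_smul_comm, smul_mul_assoc, mul_assoc, mul_one, one_mul,
      smul_add, smul_sub, smul_smul, a1, a2, a3, a4, a5, hu, hw, hwu, hub, hwb]
    try module

theorem exists_frame [Nontrivial R] {S : Set R} (hS : Sys S) {x y : R} (hx : x ∈ S) (hy : y ∈ S)
    (hbad : ac x y * ac x y = (20 : ℚ) • (1 : R)) :
    ∃ i j k β : R, Frame i j k β ∧ x = i + j + k ∧ i + j + k ∈ S ∧ i - j - k ∈ S ∧ -i + j - k ∈ S ∧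
      -i - j + k ∈ S ∧ pAx i j k β ∈ S ∧ pAx j k i β ∈ S ∧ pAx k i j β ∈ S := by
  obtain ⟨D, hD⟩ : ∃ D, D = ac x y := ⟨_, rfl⟩
  rw [← hD] at hbad
  have hxx := hS.sq x hx
  have hyy := hS.sq y hy
  have hyx : y * x = D - x * y := eq_sub_of_add_eq' hD.symm
  have hDx : D * x = x * D := by
    rw [hD, ac, add_mul, mul_add, mul_assoc y x x, ← mul_assoc x x y, hxx, mul_smul_comm, smul_one_mul, mul_one,
      mul_assoc, add_comm]
  have hDy : D * y = y * D := by
    rw [hD, ac, add_mul, mul_add, mul_assoc x y y, ← mul_assoc y y x, hyy, mul_smul_comm, smul_one_mul, mul_one,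
      mul_assoc, add_comm]
  have a1 : ∀ X, x * (x * X) = (-3 : ℚ) • X := fun X => by rw [← mul_assoc, hxx, smul_one_mul]
  have a2 : ∀ X, y * (y * X) = (-3 : ℚ) • X := fun X => by rw [← mul_assoc, hyy, smul_one_mul]
  have a3 : ∀ X, y * (x * X) = D * X - x * (y * X) := fun X => by
    rw [← mul_assoc, hyx, sub_mul, mul_assoc]
  have a4 : ∀ X, D * (D * X) = (20 : ℚ) • X := fun X => by rw [← mul_assoc, hbad, smul_one_mul]
  have a5 : ∀ X, x * (D * X) = D * (x * X) := fun X => by rw [← mul_assoc, ← hDx, mul_assoc]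
  have a6 : ∀ X, y * (D * X) = D * (y * X) := fun X => by rw [← mul_assoc, ← hDy, mul_assoc]
  obtain ⟨h, hh⟩ : ∃ h, h = (2 : ℚ)⁻¹ • x + (4 : ℚ)⁻¹ • (y * D) + (4 : ℚ)⁻¹ • (y * x - x * y) := ⟨_, rfl⟩
  have hhS : h ∈ S := by
    have := hS.neg _ (hS.conj y hy x hx)
    suffices e : h = -cj y x from e ▸ this
    simp only [hh, cj, mul_add, add_mul, mul_sub, sub_mul, mul_neg, neg_mul, mul_smul_comm, smul_mul_assoc,
      mul_assoc, mul_one, one_mul, smul_add, smul_sub, smul_smul, smul_neg, a1, a2, a3, a4, a5, a6, hxx, hyy, hyx,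
      hbad, ← hDx, ← hDy]
    module
  have hxh : ac x h = (2 : ℚ) • (1 : R) := by
    simp only [hh, ac, mul_add, add_mul, mul_sub, sub_mul, mul_neg, neg_mul, mul_smul_comm, smul_mul_assoc,
      mul_assoc, mul_one, one_mul, smul_add, smul_sub, smul_smul, smul_neg, a1, a2, a3, a4, a5, a6, hxx, hyy, hyx,
      hbad, ← hDx, ← hDy]
    module
  obtain ⟨β, hβ⟩ : ∃ β, β = (-2 : ℚ)⁻¹ • D := ⟨_, rfl⟩
  have hbb : β * β = (5 : ℚ) • (1 : R) := by rw [hβ, smul_mul_smul_comm, hbad, smul_smul]; norm_num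
  have hxb : x * β = β * x := by rw [hβ, mul_smul_comm, smul_mul_assoc, hDx]
  have hhb : h * β = β * h := by
    simp only [hh, hβ, mul_add, add_mul, mul_sub, sub_mul, mul_neg, neg_mul, mul_smul_comm, smul_mul_assoc,
      mul_assoc, mul_one, one_mul, smul_add, smul_sub, smul_smul, smul_neg, a1, a2, a3, a4, a5, a6, hxx, hyy, hyx,
      hbad, ← hDx, ← hDy]
    module
  have F := frame_of_pair hxx (hS.sq h hhS) hxh hxb hhb hbb
  refine ⟨_, _, _, β, F, by module, ?_, ?_, ?_, ?_, ?_⟩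
  · convert hx using 1; module
  · convert hhS using 1; module
  · convert hS.conj (-x) (hS.neg x hx) h hhS using 1
    rw [cj]
    have hwu : h * x = (2 : ℚ) • (1 : R) - x * h := eq_sub_of_add_eq' hxh
    simp only [mul_add, add_mul, mul_sub, sub_mul, mul_neg, neg_mul, neg_neg, mul_smul_comm, smul_mul_assoc,
      mul_assoc, mul_one, one_mul, smul_add, smul_sub, smul_smul, smul_neg, a1, hwu, hxx]
    module
  · convert hS.conj x hx h hhS using 1
    rw [cj]
    have hwu : h * x = (2 : ℚ) • (1 : R) - x * h := eq_sub_of_add_eq' hxh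
    simp only [mul_add, add_mul, mul_sub, sub_mul, mul_neg, neg_mul, neg_neg, mul_smul_comm, smul_mul_assoc,
      mul_assoc, mul_one, one_mul, smul_add, smul_sub, smul_smul, smul_neg, a1, hwu, hxx]
    module
  obtain ⟨i, hi⟩ : ∃ i, i = (2 : ℚ)⁻¹ • (x + h) := ⟨_, rfl⟩
  obtain ⟨j, hj⟩ : ∃ j, j = (4 : ℚ)⁻¹ • (x - h) + (8 : ℚ)⁻¹ • (x * h - h * x) := ⟨_, rfl⟩
  obtain ⟨k, hk⟩ : ∃ k, k = (4 : ℚ)⁻¹ • (x - h) - (8 : ℚ)⁻¹ • (x * h - h * x) := ⟨_, rfl⟩
  rw [← hi, ← hj, ← hk] at F ⊢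
  have hP : pAx i j k β = y := by
    simp only [pAx, hj, hk, hh, hβ, mul_add, add_mul, mul_sub, sub_mul, mul_neg, neg_mul, mul_smul_comm,
      smul_mul_assoc, mul_assoc, mul_one, one_mul, smul_add, smul_sub, smul_smul, smul_neg, a1, a2, a3, a4, a5, a6,
      hxx, hyy, hyx, hbad, ← hDx, ← hDy]
    module
  have h1 : i + j + k ∈ S := by convert hx using 1; rw [hi, hj, hk]; module
  have hc := fun X => F.assoc_rules X
  simp only [forall_and] at hc
  obtain ⟨hii, hjj, hkk, hij, hji, hjk, hkj, hki, hik, hbbX, hib, hjb, hkb⟩ := hc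
  have hPS : pAx i j k β ∈ S := hP ▸ hy
  refine ⟨hPS, ?_, ?_⟩
  · convert hS.conj _ (hS.neg _ h1) _ hPS using 1
    simp only [cj, pAx, mul_add, add_mul, mul_sub, sub_mul, mul_neg, neg_mul, neg_neg, mul_smul_comm, smul_mul_assoc,
      mul_assoc, mul_one, one_mul, smul_add, smul_sub, smul_smul, smul_neg, neg_add_rev,
      hii, hjj, hkk, hij, hji, hjk, hkj, hki, hik, hbbX, hib, hjb, hkb, F.ii, F.jj, F.kk, F.ij, F.ji, F.jk, F.kj,
      F.ki, F.ik, F.bb, F.ib, F.jb, F.kb]
    module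
  · convert hS.conj _ h1 _ hPS using 1
    simp only [cj, pAx, mul_add, add_mul, mul_sub, sub_mul, mul_neg, neg_mul, neg_neg, mul_smul_comm, smul_mul_assoc,
      mul_assoc, mul_one, one_mul, smul_add, smul_sub, smul_smul, smul_neg, neg_add_rev,
      hii, hjj, hkk, hij, hji, hjk, hkj, hki, hik, hbbX, hib, hjb, hkb, F.ii, F.jj, F.kk, F.ij, F.ji, F.jk, F.kj,
      F.ki, F.ik, F.bb, F.ib, F.jb, F.kb]
    module

end build

end CfsgLib.ZasFC
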