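import Mathlib
import Cfsg.Agent.Lib.ZassenhausFC.Frame

/-!
The twenty icosahedral square roots of `-3`: the ten axes as vectors with entries in `ℤ[√5]`, and the proof that a
system with a pair at the icosahedral angle consists of exactly these.
-/

set_option autoImplicit false
set_option linter.unusedSimpArgs false

namespace CfsgLib.ZasFC

/-- Vectors over `ℤ[√5]`. -/
abbrev V3 := ℤ√5 × ℤ√5 × ℤ√5

/-- Dot product. -/
def dot (U W : V3) : ℤ√5 := U.1 * W.1 + U.2.1 * W.2.1 + U.2.2 * W.2.2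

/-- Cross product. -/
def crs (U W : V3) : V3 :=
  (U.2.1 * W.2.2 - U.2.2 * W.2.1, U.2.2 * W.1 - U.1 * W.2.2, U.1 * W.2.1 - U.2.1 * W.1)

/-- Multiple. -/
def scl (r : ℤ√5) (U : V3) : V3 := (r * U.1, r * U.2.1, r * U.2.2)

/-- The ten axes. -/
def ax : Fin 10 → V3 :=
  ![(⟨2, 0⟩, ⟨2, 0⟩, ⟨2, 0⟩), (⟨2, 0⟩, ⟨-2, 0⟩, ⟨-2, 0⟩), (⟨-2, 0⟩, ⟨2, 0⟩, ⟨-2, 0⟩), (⟨-2, 0⟩, ⟨-2, 0⟩, ⟨2, 0⟩),
    (⟨0, 0⟩, ⟨1, 1⟩, ⟨-1, 1⟩), (⟨-1, 1⟩, ⟨0, 0⟩, ⟨1, 1⟩), (⟨1, 1⟩, ⟨-1, 1⟩, ⟨0, 0⟩),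
    (⟨0, 0⟩, ⟨1, 1⟩, ⟨1, -1⟩), (⟨1, -1⟩, ⟨0, 0⟩, ⟨1, 1⟩), (⟨1, 1⟩, ⟨1, -1⟩, ⟨0, 0⟩)]

/-- The five quartets of axes. -/
def quart : Fin 5 → Finset (Fin 10) :=
  ![{0, 1, 2, 3}, {0, 7, 8, 9}, {1, 5, 6, 7}, {2, 4, 6, 8}, {3, 4, 5, 9}]

/-- The axes adjacent to the first, with the sign making the angle `-2`. -/
def nbr : Fin 6 → V3 :=
  ![-ax 1, -ax 2, -ax 3, ax 7, ax 8, ax 9]

/-- The conjugate of `B` by the element of order three of `A`, eightfold. -/
def cjv (A B : V3) : V3 := scl (-4) B + scl (dot A B) A + scl 2 (crs B A)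

theorem ax_dot_self : ∀ a, dot (ax a) (ax a) = 12 := by decide +kernel

theorem ax_dot : ∀ a b, a = b ∨ dot (ax a) (ax b) = 4 ∨ dot (ax a) (ax b) = -4 ∨
    dot (ax a) (ax b) * dot (ax a) (ax b) = 80 := by decide +kernel

theorem ax_cjv : ∀ a b, ∃ c, cjv (ax a) (ax b) = scl 8 (ax c) ∨ cjv (ax a) (ax b) = scl (-8) (ax c) := by
  decide +kernel

theorem ax_gen : ∀ c : Fin 10, (c : ℕ) < 7 ∨ ∃ a b : Fin 10, (a : ℕ) < 7 ∧ (b : ℕ) < 7 ∧
    (cjv (ax a) (ax b) = scl 8 (ax c) ∨ cjv (ax a) (ax b) = scl (-8) (ax c)) := by decide +kernel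

theorem quart_injective : Function.Injective quart := by decide +kernel

/-- Two axes are adjacent. -/
def adjAx (a b : Fin 10) : Bool := dot (ax a) (ax b) == 4 || dot (ax a) (ax b) == -4

theorem quart_clique : ∀ a b : Fin 10, a ≠ b → adjAx a b = true → ∀ c, c ≠ a → c ≠ b → adjAx a c = true →
    adjAx b c = true → ∀ d, d ≠ a → d ≠ b → d ≠ c → adjAx a d = true → adjAx b d = true → adjAx c d = true →
    ∃ q, quart q = {a, b, c, d} := by decide +kernel

theorem quart_adj : ∀ q, ∀ a ∈ quart q, ∀ b ∈ quart q, a = b ∨ dot (ax a) (ax b) = 4 ∨ dot (ax a) (ax b) = -4 := by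
  decide +kernel

theorem quart_inter : ∀ a : Fin 10, ∃ p q, quart p ∩ quart q = {a} := by decide +kernel

theorem nbr_solve : ∀ a b : Fin 6, dot (nbr a) (nbr b) = 4 →
    crs (crs (nbr a + nbr b) (ax 0)) (nbr a - nbr b) = 0 ∧
    ∃ c, scl (dot (crs (nbr a + nbr b) (ax 0)) (nbr a - nbr b)) (nbr a + nbr b + ax 0) = scl 160 (ax c) ∨
      scl (dot (crs (nbr a + nbr b) (ax 0)) (nbr a - nbr b)) (nbr a + nbr b + ax 0) = scl (-160) (ax c) := by
  decide +kernel

theorem nbr_ac : ∀ a : Fin 6, dot (nbr a) (ax 0) = 4 := by decide +kernel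

section algebra

variable {R : Type*} [Ring R] [Algebra ℚ R] {i j k β : R}

/-- `ℤ[√5]` inside the algebra. -/
def phi (β : R) (r : ℤ√5) : R := (r.re : ℚ) • (1 : R) + (r.im : ℚ) • β

theorem phi_add (β : R) (r s : ℤ√5) : phi β (r + s) = phi β r + phi β s := by
  simp only [phi, Zsqrtd.re_add, Zsqrtd.im_add, Int.cast_add]; module

theorem phi_neg (β : R) (r : ℤ√5) : phi β (-r) = -phi β r := by
  simp only [phi, Zsqrtd.re_neg, Zsqrtd.im_neg, Int.cast_neg]; module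

theorem phi_sub (β : R) (r s : ℤ√5) : phi β (r - s) = phi β r - phi β s := by
  rw [sub_eq_add_neg, phi_add, phi_neg, sub_eq_add_neg]

theorem phi_intCast (β : R) (n : ℤ) : phi β (n : ℤ√5) = (n : ℚ) • (1 : R) := by simp [phi]

theorem phi_ofNat (β : R) (n : ℕ) [n.AtLeastTwo] : phi β (OfNat.ofNat n : ℤ√5) = ((n : ℚ)) • (1 : R) := by
  rw [show (OfNat.ofNat n : ℤ√5) = ((n : ℤ) : ℤ√5) by rw [Int.cast_natCast]; rfl, phi_intCast]
  simp

theorem phi_zero (β : R) : phi β 0 = 0 := by simp [phi]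

theorem phi_mul (F : Frame i j k β) (r s : ℤ√5) : phi β (r * s) = phi β r * phi β s := by
  simp only [phi, Zsqrtd.re_mul, Zsqrtd.im_mul, Int.cast_add, Int.cast_mul, mul_add, add_mul, smul_mul_smul_comm,
    one_mul, mul_one, F.bb, smul_smul]
  push_cast
  module

theorem phi_comm (F : Frame i j k β) (r : ℤ√5) :
    i * phi β r = phi β r * i ∧ j * phi β r = phi β r * j ∧ k * phi β r = phi β r * k := by
  simp only [phi, mul_add, add_mul, mul_smul_comm, smul_mul_assoc, F.ib, F.jb, F.kb, one_mul, mul_one, and_self]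

theorem phi_injective [Nontrivial R] (F : Frame i j k β) {r s : ℤ√5} (h : phi β r = phi β s) : r = s := by
  have h1 : phi β (r - s) = 0 := by rw [phi_sub, h, sub_self]
  rw [← sub_eq_zero]
  obtain ⟨t, ht⟩ : ∃ t, t = r - s := ⟨_, rfl⟩
  rw [← ht] at h1 ⊢
  rw [phi] at h1
  have hi : t.im = 0 := by
    by_contra hne
    have hq : (t.im : ℚ) ≠ 0 := by exact_mod_cast hne
    refine beta_ne F (-(t.re : ℚ) / t.im) ?_
    calc β = (t.im : ℚ)⁻¹ • ((t.im : ℚ) • β) := by rw [smul_smul, inv_mul_cancel₀ hq, one_smul]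
      _ = _ := by rw [eq_neg_of_add_eq_zero_right h1, ← neg_smul, smul_smul]; ring_nf
  rw [hi, Int.cast_zero, zero_smul, add_zero] at h1
  have h2 : (t.re : ℚ) = 0 := scalar_inj (h1.trans (zero_smul ℚ (1 : R)).symm)
  exact Zsqrtd.ext (by exact_mod_cast h2) hi

/-- Half the vector in the quaternion frame. -/
def vect (i j k β : R) (U : V3) : R := (2 : ℚ)⁻¹ • (phi β U.1 * i + phi β U.2.1 * j + phi β U.2.2 * k)

theorem vect_add (U W : V3) : vect i j k β (U + W) = vect i j k β U + vect i j k β W := by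
  simp only [vect, Prod.fst_add, Prod.snd_add, phi_add, add_mul]; module

theorem vect_neg (U : V3) : vect i j k β (-U) = -vect i j k β U := by
  simp only [vect, Prod.fst_neg, Prod.snd_neg, phi_neg, neg_mul]; module

theorem vect_sub (U W : V3) : vect i j k β (U - W) = vect i j k β U - vect i j k β W := by
  rw [sub_eq_add_neg, vect_add, vect_neg, sub_eq_add_neg]

theorem vect_zero : vect i j k β 0 = 0 := by simp [vect, phi_zero]

theorem vect_scl (F : Frame i j k β) (r : ℤ√5) (U : V3) :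
    vect i j k β (scl r U) = phi β r * vect i j k β U := by
  simp only [vect, scl, phi_mul F, mul_smul_comm, mul_add, mul_assoc]

theorem vect_scl_int (F : Frame i j k β) (n : ℤ) (U : V3) :
    vect i j k β (scl (n : ℤ√5) U) = (n : ℚ) • vect i j k β U := by
  rw [vect_scl F, phi_intCast, smul_one_mul]

theorem vect_mul (F : Frame i j k β) (U W : V3) :
    vect i j k β U * vect i j k β W =
      (-4 : ℚ)⁻¹ • phi β (dot U W) + (2 : ℚ)⁻¹ • vect i j k β (crs U W) := by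
  obtain ⟨a, b, c⟩ := U
  obtain ⟨d, e, f⟩ := W
  obtain ⟨hd, hd', hd''⟩ := phi_comm F d
  obtain ⟨he, he', he''⟩ := phi_comm F e
  obtain ⟨hf, hf', hf''⟩ := phi_comm F f
  have sw : ∀ {u t : R}, u * t = t * u → ∀ X, u * (t * X) = t * (u * X) := fun h X => by
    rw [← mul_assoc, h, mul_assoc]
  simp only [vect, dot, crs, phi_add, phi_sub, phi_mul F, smul_mul_assoc, mul_smul_comm, mul_add, add_mul, mul_assoc,
    sw hd, sw hd', sw hd'', sw he, sw he', sw he'', sw hf, sw hf', sw hf'',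
    F.ii, F.jj, F.kk, F.ij, F.ji, F.jk, F.kj, F.ki, F.ik, mul_smul_comm, mul_neg, mul_one, sub_mul]
  module

theorem vect_comm (F : Frame i j k β) (U : V3) (r : ℤ√5) :
    vect i j k β U * phi β r = phi β r * vect i j k β U := by
  obtain ⟨hi, hj, hk⟩ := phi_comm F r
  simp only [vect, smul_mul_assoc, mul_smul_comm, add_mul, mul_add, mul_assoc, hi, hj, hk]
  simp only [← mul_assoc, ← phi_mul F, mul_comm r]

theorem ac_vect (F : Frame i j k β) (U W : V3) :
    ac (vect i j k β U) (vect i j k β W) = (-2 : ℚ)⁻¹ • phi β (dot U W) := by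
  have e1 : dot W U = dot U W := by simp only [dot]; ring
  have e2 : crs W U = -crs U W := by
    simp only [crs, Prod.neg_mk]; refine Prod.ext (by ring) (Prod.ext (by ring) (by ring))
  rw [ac, vect_mul F, vect_mul F, e1, e2, vect_neg]
  module

theorem comm_vect (F : Frame i j k β) (U W : V3) :
    vect i j k β U * vect i j k β W - vect i j k β W * vect i j k β U = vect i j k β (crs U W) := by
  have e1 : dot W U = dot U W := by simp only [dot]; ring
  have e2 : crs W U = -crs U W := by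
    simp only [crs, Prod.neg_mk]; refine Prod.ext (by ring) (Prod.ext (by ring) (by ring))
  rw [vect_mul F, vect_mul F, e1, e2, vect_neg]
  module

theorem vect_sq (F : Frame i j k β) {U : V3} (hU : dot U U = 12) :
    vect i j k β U * vect i j k β U = (-3 : ℚ) • (1 : R) := by
  have e : crs U U = 0 := by refine Prod.ext ?_ (Prod.ext ?_ ?_) <;> simp only [crs, Prod.fst_zero, Prod.snd_zero] <;> ring
  rw [vect_mul F, hU, e, vect_zero, phi_ofNat, smul_smul]
  norm_num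

theorem cj_eq {x y : R} (hx : x * x = (-3 : ℚ) • (1 : R)) :
    cj x y = (-2 : ℚ)⁻¹ • y - (4 : ℚ)⁻¹ • (ac x y * x) + (4 : ℚ)⁻¹ • (y * x - x * y) := by
  have hx' : ∀ X, x * (x * X) = (-3 : ℚ) • X := fun X => by rw [← mul_assoc, hx, smul_one_mul]
  simp only [cj, ac, mul_add, add_mul, mul_sub, sub_mul, mul_neg, neg_mul, mul_assoc, mul_smul_comm, smul_mul_assoc,
    mul_one, one_mul, hx, hx']
  module

theorem cj_vect (F : Frame i j k β) {A B : V3} (hA : dot A A = 12) :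
    cj (vect i j k β A) (vect i j k β B) = (8 : ℚ)⁻¹ • vect i j k β (cjv A B) := by
  rw [cj_eq (vect_sq F hA), ac_vect F, comm_vect F, cjv, vect_add, vect_add, smul_mul_assoc, ← vect_scl F,
    show (-4 : ℤ√5) = ((-4 : ℤ) : ℤ√5) by simp, show (2 : ℤ√5) = ((2 : ℤ) : ℤ√5) by simp, vect_scl_int F,
    vect_scl_int F]
  push_cast
  module

theorem vect_basic (F : Frame i j k β) :
    vect i j k β (ax 0) = i + j + k ∧ vect i j k β (ax 1) = i - j - k ∧ vect i j k β (ax 2) = -i + j - k ∧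
    vect i j k β (ax 3) = -i - j + k ∧ vect i j k β (ax 4) = pAx i j k β ∧ vect i j k β (ax 5) = pAx j k i β ∧
    vect i j k β (ax 6) = pAx k i j β ∧ vect i j k β (ax 7) = qAx i j k β ∧ vect i j k β (ax 8) = qAx j k i β ∧
    vect i j k β (ax 9) = qAx k i j β := by
  refine ⟨?_, ?_, ?_, ?_, ?_, ?_, ?_, ?_, ?_, ?_⟩ <;>
    (simp only [ax, vect, phi, pAx, qAx, Matrix.cons_val_zero, Matrix.cons_val_one, Matrix.cons_val, add_mul,
      smul_one_mul, smul_mul_assoc, mul_add, mul_sub, one_mul]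
     push_cast
     module)

theorem cj_neg (x y : R) : cj (-x) y = (4 : ℚ)⁻¹ • ((-x - 1) * y * (x - 1)) := by rw [cj, neg_neg]

/-- A system with a pair at the icosahedral angle consists of twenty vectors. -/
theorem classify [Nontrivial R] {S : Set R} (hS : Sys S) {x y : R} (hx : x ∈ S) (hy : y ∈ S)
    (hbad : ac x y * ac x y = (20 : ℚ) • (1 : R)) :
    ∃ i j k β : R, Frame i j k β ∧ (∀ a, vect i j k β (ax a) ∈ S) ∧
      ∀ g ∈ S, ∃ a, g = vect i j k β (ax a) ∨ g = -vect i j k β (ax a) := by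
  obtain ⟨i, j, k, β, F, hxv, h1, h2, h3, h4, hP, hP', hP''⟩ := exists_frame hS hx hy hbad
  obtain ⟨b0, b1, b2, b3, b4, b5, b6, b7, b8, b9⟩ := vect_basic F
  have hlow : ∀ c : Fin 10, (c : ℕ) < 7 → vect i j k β (ax c) ∈ S := by
    intro c hc
    fin_cases c <;> simp_all
  have hall : ∀ c, vect i j k β (ax c) ∈ S := by
    intro c
    rcases ax_gen c with h | ⟨a, b, ha, hb, h⟩
    · exact hlow c h
    have hcj := hS.conj _ (hlow a ha) _ (hlow b hb)
    rw [cj_vect F (ax_dot_self a)] at hcj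
    rcases h with h | h
    · rw [h, show (8 : ℤ√5) = ((8 : ℤ) : ℤ√5) by simp, vect_scl_int F, smul_smul] at hcj
      norm_num at hcj
      exact hcj
    · rw [h, show (-8 : ℤ√5) = ((-8 : ℤ) : ℤ√5) by simp, vect_scl_int F, smul_smul] at hcj
      norm_num at hcj
      simpa using hS.neg _ hcj
  refine ⟨i, j, k, β, F, hall, fun g hg => ?_⟩
  obtain ⟨e, he⟩ : ∃ e, e = i + j + k := ⟨_, rfl⟩
  have hadj : ∀ u ∈ S, ac u e = (-2 : ℚ) • (1 : R) → ∃ a, u = vect i j k β (nbr a) := by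
    intro u hu hue
    have h := adjacent hS F h1 h2 h3 h4 hP hP' hP'' (hS.neg u hu)
      (by rw [← he, show ac (-u) e = -ac u e by rw [ac, ac]; noncomm_ring, hue]; module)
    rcases h with h | h | h | h | h | h <;> rw [neg_eq_iff_eq_neg] at h
    · exact ⟨0, by simp [nbr, vect_neg, b1, h]⟩
    · exact ⟨1, by simp [nbr, vect_neg, b2, h]⟩
    · exact ⟨2, by simp [nbr, vect_neg, b3, h]⟩
    · exact ⟨3, by simp [nbr, b7, h]⟩
    · exact ⟨4, by simp [nbr, b8, h]⟩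
    · exact ⟨5, by simp [nbr, b9, h]⟩
  have hofadj : ∀ u ∈ S, ac u e = (-2 : ℚ) • (1 : R) →
      ∃ a, u = vect i j k β (ax a) ∨ u = -vect i j k β (ax a) := by
    intro u hu hue
    obtain ⟨a, rfl⟩ := hadj u hu hue
    fin_cases a <;> simp [nbr, vect_neg] <;> [skip; skip; skip; skip; skip; skip]
    exacts [⟨1, Or.inr rfl⟩, ⟨2, Or.inr rfl⟩, ⟨3, Or.inr rfl⟩, ⟨7, Or.inl rfl⟩, ⟨8, Or.inl rfl⟩, ⟨9, Or.inl rfl⟩]
  rcases hS.pair g hg e (he ▸ h1) with h | h | h | h | h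
  · obtain ⟨a, ha⟩ := hofadj (-g) (hS.neg g hg)
      (by rw [show ac (-g) e = -ac g e by rw [ac, ac]; noncomm_ring, h]; module)
    exact ⟨a, ha.symm.imp (fun e => neg_injective e) fun e => neg_eq_iff_eq_neg.mp e⟩
  · exact hofadj g hg h
  · exact ⟨0, Or.inl (by rw [b0, ← he, h])⟩
  · exact ⟨0, Or.inr (by rw [b0, ← he, h, neg_neg])⟩
  obtain ⟨E, hE⟩ : ∃ E, E = ac g e := ⟨_, rfl⟩
  rw [← hE] at h
  have hee : e * e = (-3 : ℚ) • (1 : R) := hS.sq e (he ▸ h1)
  have hgg := hS.sq g hg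
  have heg : e * g = E - g * e := eq_sub_of_add_eq' hE.symm
  have hEe : E * e = e * E := by
    rw [hE, ac, add_mul, mul_add, mul_assoc g e e, ← mul_assoc e e g, hee, mul_smul_comm, smul_one_mul, mul_one,
      mul_assoc, add_comm]
  have hEg : E * g = g * E := by
    rw [hE, ac, add_mul, mul_add, mul_assoc e g g, ← mul_assoc g g e, hgg, mul_smul_comm, smul_one_mul, mul_one,
      mul_assoc, add_comm]
  have a1 : ∀ X, e * (e * X) = (-3 : ℚ) • X := fun X => by rw [← mul_assoc, hee, smul_one_mul]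
  have a2 : ∀ X, g * (g * X) = (-3 : ℚ) • X := fun X => by rw [← mul_assoc, hgg, smul_one_mul]
  have a3 : ∀ X, e * (g * X) = E * X - g * (e * X) := fun X => by rw [← mul_assoc, heg, sub_mul, mul_assoc]
  have a4 : ∀ X, E * (E * X) = (20 : ℚ) • X := fun X => by rw [← mul_assoc, h, smul_one_mul]
  have a5 : ∀ X, e * (E * X) = E * (e * X) := fun X => by rw [← mul_assoc, ← hEe, mul_assoc]
  have a6 : ∀ X, g * (E * X) = E * (g * X) := fun X => by rw [← mul_assoc, ← hEg, mul_assoc]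
  have hne' : ac (cj g e) e = (-2 : ℚ) • (1 : R) ∧ ac (cj (-g) e) e = (-2 : ℚ) • (1 : R) ∧
      ac (cj g e) (cj (-g) e) = (-2 : ℚ) • (1 : R) ∧
      E * g = (-2 : ℚ) • (cj g e + cj (-g) e + e) ∧
      E = (-4 : ℚ)⁻¹ • (((cj g e + cj (-g) e) * e - e * (cj g e + cj (-g) e)) * (cj g e - cj (-g) e)) := by
    refine ⟨?_, ?_, ?_, ?_, ?_⟩ <;>
      (simp only [ac, cj, mul_add, add_mul, mul_sub, sub_mul, mul_neg, neg_mul, neg_neg, mul_smul_comm, smul_mul_assoc,
        mul_assoc, mul_one, one_mul, smul_add, smul_sub, smul_smul, smul_neg, a1, a2, a3, a4, a5, a6, hee, hgg, heg,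
        h, ← hEe, ← hEg]
       module)
  obtain ⟨u1, u2, u3, u4, u5⟩ := hne'
  obtain ⟨a, ha⟩ := hadj _ (hS.conj g hg e (he ▸ h1)) u1
  obtain ⟨b, hb⟩ := hadj _ (hS.conj (-g) (hS.neg g hg) e (he ▸ h1)) u2
  rw [ha, hb, ac_vect F] at u3
  have hdot : dot (nbr a) (nbr b) = 4 := by
    refine phi_injective F ?_
    rw [phi_ofNat]
    calc phi β (dot (nbr a) (nbr b)) = (-2 : ℚ) • ((-2 : ℚ)⁻¹ • phi β (dot (nbr a) (nbr b))) := by
          rw [smul_smul]; norm_num
      _ = _ := by rw [u3, smul_smul]; norm_num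
  obtain ⟨hz, c, hc⟩ := nbr_solve a b hdot
  rw [ha, hb, show e = vect i j k β (ax 0) by rw [b0, he], ← vect_add, ← vect_sub, comm_vect F, vect_mul F, hz,
    vect_zero, smul_zero, add_zero, smul_smul] at u5
  rw [ha, hb, show e = vect i j k β (ax 0) by rw [b0, he], ← vect_add, ← vect_add] at u4
  have hfin : g = (-160 : ℚ)⁻¹ • vect i j k β
      (scl (dot (crs (nbr a + nbr b) (ax 0)) (nbr a - nbr b)) (nbr a + nbr b + ax 0)) := by
    calc g = (20 : ℚ)⁻¹ • (E * (E * g)) := by rw [a4, smul_smul]; norm_num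
      _ = _ := by
        rw [u4, mul_smul_comm, u5, smul_mul_assoc, smul_smul, smul_smul, vect_scl F]
        norm_num
  rcases hc with hc | hc
  · refine ⟨c, Or.inr ?_⟩
    rw [hfin, hc, show (160 : ℤ√5) = ((160 : ℤ) : ℤ√5) by simp, vect_scl_int F, smul_smul]
    norm_num
  · refine ⟨c, Or.inl ?_⟩
    rw [hfin, hc, show (-160 : ℤ√5) = ((-160 : ℤ) : ℤ√5) by simp, vect_scl_int F, smul_smul]
    norm_num

end algebra

end CfsgLib.ZasFC
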