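import Mathlib
import Cfsg.Agent.Lib.ZassenhausFC.Functional
import Cfsg.Agent.Lib.ZassenhausFC.Model
import Cfsg.Agent.Lib.Frobenius.UniqueSubgroup

/-!
The square roots of `-3` attached to the elements of order three of a fixed-point-free group.
-/

set_option autoImplicit false
set_option linter.unusedSimpArgs false
set_option linter.unusedSectionVars false

namespace CfsgLib.ZasFC

universe u v

/-- A representation without fixed points in an algebra over the rationals. -/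
structure IsRep {G : Type u} [Group G] {R : Type v} [Ring R] [Algebra ℚ R] (ρ : G →* R) : Prop where
  sum : ∀ z : G, (orderOf z).Prime → ∑ i ∈ Finset.range (orderOf z), ρ z ^ i = 0
  order : ∀ a b : G, orderOf a = 3 → orderOf b = 3 →
    orderOf (a * b) = 1 ∨ (orderOf (a * b) = 3 ∧ a = b) ∨ orderOf (a * b) = 4 ∨ orderOf (a * b) = 6 ∨
      orderOf (a * b) = 10

theorem exists_rep_root {G : Type u} [Group G] [Finite G] (hG : HasFunctional G) :
    ∃ (R : Type u) (_ : Ring R) (_ : Algebra ℚ R) (_ : Nontrivial R) (ρ : G →* R) (β : R),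
      IsRep ρ ∧ β * β = (5 : ℚ) • (1 : R) ∧ ∀ g, ρ g * β = β * ρ g := by
  obtain ⟨R, _, _, _, ρ, hsum⟩ := exists_rep hG
  refine ⟨Matrix (Fin 2) (Fin 2) R, inferInstance, inferInstance, inferInstance,
    (Matrix.scalar (Fin 2)).toMonoidHom.comp ρ, !![0, (5 : ℚ) • 1; 1, 0],
    ⟨fun z hz => ?_, fun a b ha hb => order_mul_of_order_three hG ha hb⟩, ?_, fun g => ?_⟩
  · have := congrArg (Matrix.scalar (Fin 2)) (hsum z hz)
    simp only [map_sum, map_pow, map_zero] at this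
    exact this
  · ext a b
    fin_cases a <;> fin_cases b <;> simp [Matrix.mul_apply, Fin.sum_univ_two, Matrix.smul_apply, Matrix.one_apply]
  · ext a b
    fin_cases a <;> fin_cases b <;> simp [Matrix.mul_apply, Fin.sum_univ_two, Matrix.scalar_apply, Matrix.diagonal]

/-- The square root of `-3` of an element of order three. -/
def xr {G : Type u} [Group G] {R : Type v} [Ring R] (ρ : G →* R) (a : G) : R := 2 * ρ a + 1

variable {G : Type u} [Group G] [Finite G] {R : Type v} [Ring R] [Algebra ℚ R] {ρ : G →* R}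

theorem two_mul_smul (X : R) : 2 * X = (2 : ℚ) • X := by
  rw [Algebra.smul_def, map_ofNat]

theorem rho_inv_of_three (hρ : IsRep ρ) {a : G} (ha : orderOf a = 3) : ρ a⁻¹ = -ρ a - 1 := by
  have h := hρ.sum a (ha ▸ Nat.prime_three)
  rw [ha] at h
  simp only [Finset.sum_range_succ, Finset.sum_range_zero, zero_add, pow_zero, pow_one] at h
  have h2 : a ^ 2 = a⁻¹ := by
    refine eq_inv_of_mul_eq_one_left ?_
    rw [← pow_succ, show 2 + 1 = orderOf a from ha.symm, pow_orderOf_eq_one]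
  rw [← map_pow, h2] at h
  rw [eq_neg_of_add_eq_zero_right h]; abel

theorem xr_sq (hρ : IsRep ρ) {a : G} (ha : orderOf a = 3) : xr ρ a * xr ρ a = (-3 : ℚ) • (1 : R) := by
  have h1 : ρ a * ρ a⁻¹ = 1 := by rw [← map_mul, mul_inv_cancel, map_one]
  rw [rho_inv_of_three hρ ha, mul_sub, mul_one, mul_neg, sub_eq_iff_eq_add] at h1
  have h2 : ρ a * ρ a = -ρ a - 1 := by rw [← neg_neg (ρ a * ρ a), h1]; abel
  simp only [xr, two_mul_smul, mul_add, add_mul, mul_smul_comm, smul_mul_assoc, mul_one, one_mul, h2]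
  module

theorem xr_inv (hρ : IsRep ρ) {a : G} (ha : orderOf a = 3) : xr ρ a⁻¹ = -xr ρ a := by
  simp only [xr, rho_inv_of_three hρ ha, two_mul_smul]; module

theorem cj_xr (hρ : IsRep ρ) {a b : G} (ha : orderOf a = 3) :
    cj (xr ρ a) (xr ρ b) = xr ρ (a * b * a⁻¹) := by
  rw [cj, show xr ρ a - 1 = (2 : ℚ) • ρ a by rw [xr, two_mul_smul]; abel,
    show -xr ρ a - 1 = (2 : ℚ) • ρ a⁻¹ by rw [xr, two_mul_smul, rho_inv_of_three hρ ha]; module]
  have h1 : ρ a * ρ a⁻¹ = 1 := by rw [← map_mul, mul_inv_cancel, map_one]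
  simp only [xr, two_mul_smul, mul_add, add_mul, mul_smul_comm, smul_mul_assoc, mul_one, map_mul, h1]
  module

theorem rho_conj_xr (g b : G) : ρ g * xr ρ b * ρ g⁻¹ = xr ρ (g * b * g⁻¹) := by
  have h1 : ρ g * ρ g⁻¹ = 1 := by rw [← map_mul, mul_inv_cancel, map_one]
  simp only [xr, two_mul, mul_add, add_mul, mul_one, map_mul, h1]

theorem rho_inj (hρ : IsRep ρ) [Nontrivial R] : Function.Injective ρ := rho_injective hρ.sum

theorem xr_inj (hρ : IsRep ρ) [Nontrivial R] {a b : G} (h : xr ρ a = xr ρ b) : a = b := by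
  refine rho_inj hρ ?_
  simp only [xr, two_mul_smul, add_left_inj] at h
  have h2 := congrArg (fun X => (2 : ℚ)⁻¹ • X) h
  simpa [smul_smul] using h2

theorem rho_involution (hρ : IsRep ρ) {z : G} (hz : orderOf z = 2) : ρ z = -1 := by
  have h := hρ.sum z (hz ▸ Nat.prime_two)
  rw [hz] at h
  simp only [Finset.sum_range_succ, Finset.sum_range_zero, zero_add, pow_zero, pow_one] at h
  exact eq_neg_of_add_eq_zero_right h

theorem involution_unique (hρ : IsRep ρ) [Nontrivial R] {z w : G} (hz : orderOf z = 2) (hw : orderOf w = 2) :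
    z = w :=
  rho_inj hρ (by rw [rho_involution hρ hz, rho_involution hρ hw])

theorem uniqSub_two (hρ : IsRep ρ) [Nontrivial R] : CfsgLib.Frob.UniqSub 2 G := by
  haveI := Fact.mk Nat.prime_two
  intro H K hH hK
  obtain ⟨⟨h, hh⟩, hho⟩ := exists_prime_orderOf_dvd_card' (G := H) 2 hH.symm.dvd
  obtain ⟨⟨k, hk⟩, hko⟩ := exists_prime_orderOf_dvd_card' (G := K) 2 hK.symm.dvd
  rw [Subgroup.orderOf_mk] at hho hko
  obtain rfl := involution_unique hρ hho hko
  rw [← Subgroup.eq_of_le_of_card_ge (Subgroup.zpowers_le.mpr hh) (by rw [Nat.card_zpowers, hho, hH]),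
    ← Subgroup.eq_of_le_of_card_ge (Subgroup.zpowers_le.mpr hk) (by rw [Nat.card_zpowers, hho, hK])]

theorem cyclic_pair (hρ : IsRep ρ) [Nontrivial R] {p : ℕ} (hp : p.Prime) {u v : G} (hu : orderOf u = p)
    (hv : orderOf v = p) (huv : Commute u v) : v ∈ Subgroup.zpowers u := by
  by_contra hnot
  have hsum : ∀ i : ℕ, ∑ l ∈ Finset.range p, ρ u ^ (i * l) * ρ v ^ l = 0 := by
    intro i
    have ho : orderOf (u ^ i * v) = p := by
      haveI := Fact.mk hp
      refine orderOf_eq_prime ?_ fun e => hnot ?_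
      · rw [(huv.pow_left i).mul_pow, ← pow_mul, mul_comm, pow_mul, ← hu, pow_orderOf_eq_one, one_pow, one_mul, hu,
          ← hv, pow_orderOf_eq_one]
      · rw [eq_inv_of_mul_eq_one_right e]
        exact inv_mem (pow_mem (Subgroup.mem_zpowers u) i)
    have h := hρ.sum (u ^ i * v) (ho.symm ▸ hp)
    rw [ho] at h
    refine (Finset.sum_congr rfl fun l _ => ?_).trans h
    rw [← map_pow ρ (u ^ i * v), (huv.pow_left i).mul_pow, map_mul, ← pow_mul, map_pow, map_pow]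
  have htot : ∑ l ∈ Finset.range p, (∑ i ∈ Finset.range p, ρ u ^ (i * l)) * ρ v ^ l = 0 := by
    simp only [Finset.sum_mul]
    rw [Finset.sum_comm]
    exact Finset.sum_eq_zero fun i _ => hsum i
  rw [Finset.sum_eq_single 0 (fun l hl hl0 => ?_) (fun h => absurd (Finset.mem_range.mpr hp.pos) h)] at htot
  · simp only [mul_zero, pow_zero, mul_one, Finset.sum_const, Finset.card_range] at htot
    exact one_ne_zero (nat_smul_eq_zero hp.ne_zero htot)
  · have hlt := Finset.mem_range.mp hl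
    haveI := Fact.mk hp
    have ho : orderOf (u ^ l) = p := orderOf_eq_prime
      (by rw [← pow_mul, mul_comm, pow_mul, ← hu, pow_orderOf_eq_one, one_pow])
      (pow_ne_one_of_lt_orderOf hl0 (hu.symm ▸ hlt))
    have h := hρ.sum (u ^ l) (ho.symm ▸ hp)
    rw [ho] at h
    rw [show (∑ i ∈ Finset.range p, ρ u ^ (i * l)) = 0 from
      (Finset.sum_congr rfl fun i _ => by rw [map_pow, ← pow_mul, mul_comm]).trans h, zero_mul]

theorem ac_xr_eq {a b : G} (hρ : IsRep ρ) (ha : orderOf a = 3) (hb : orderOf b = 3) :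
    ac (xr ρ a) (xr ρ b) = (4 : ℚ) • (ρ (a * b) + ρ (a * b)⁻¹) - (2 : ℚ) • (1 : R) := by
  have h1 : ρ (a * b)⁻¹ = (-ρ b - 1) * (-ρ a - 1) := by
    rw [mul_inv_rev, map_mul, rho_inv_of_three hρ ha, rho_inv_of_three hρ hb]
  rw [h1, map_mul]
  simp only [ac, xr, two_mul_smul, mul_add, add_mul, mul_sub, sub_mul, neg_mul, mul_neg, neg_neg, mul_smul_comm,
    smul_mul_assoc, mul_one, one_mul]
  module

theorem ac_table [Nontrivial R] (hρ : IsRep ρ) {a b : G} (ha : orderOf a = 3) (hb : orderOf b = 3) :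
    (orderOf (a * b) = 1 ∧ b = a⁻¹) ∨ (orderOf (a * b) = 3 ∧ b = a) ∨
    (orderOf (a * b) = 4 ∧ ac (xr ρ a) (xr ρ b) = (-2 : ℚ) • (1 : R)) ∨
    (orderOf (a * b) = 6 ∧ ac (xr ρ a) (xr ρ b) = (2 : ℚ) • (1 : R)) ∨
    (orderOf (a * b) = 10 ∧ ac (xr ρ a) (xr ρ b) * ac (xr ρ a) (xr ρ b) = (20 : ℚ) • (1 : R)) := by
  obtain ⟨u, hu⟩ : ∃ u, u = a * b := ⟨_, rfl⟩
  have hneg : ∀ k : ℕ, orderOf u = 2 * k → 0 < k → ρ u ^ k = -1 := fun k hk hk0 => by
    rw [← map_pow]
    refine rho_involution hρ ?_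
    rw [orderOf_pow_of_dvd hk0.ne' (hk ▸ dvd_mul_left k 2), hk, Nat.mul_div_cancel _ hk0]
  have hinv : ∀ k : ℕ, orderOf u = k + 1 → ρ u⁻¹ = ρ u ^ k := fun k hk => by
    rw [← map_pow]
    congr 1
    rw [inv_eq_iff_mul_eq_one, ← pow_succ', ← hk, pow_orderOf_eq_one]
  rcases hρ.order a b ha hb with h | ⟨h, e⟩ | h | h | h
  · exact Or.inl ⟨h, eq_inv_of_mul_eq_one_right (orderOf_eq_one_iff.mp h)⟩
  · exact Or.inr (Or.inl ⟨h, e.symm⟩)
  · refine Or.inr (Or.inr (Or.inl ⟨h, ?_⟩))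
    rw [← hu] at h
    rw [ac_xr_eq hρ ha hb, ← hu, hinv 3 (by omega), pow_succ', hneg 2 (by omega) two_pos, mul_neg, mul_one,
      add_neg_cancel]
    module
  · refine Or.inr (Or.inr (Or.inr (Or.inl ⟨h, ?_⟩)))
    rw [← hu] at h
    have h2 := hρ.sum (u ^ 2) (by rw [orderOf_pow_of_dvd two_ne_zero (by omega), h]; exact Nat.prime_three)
    rw [show orderOf (u ^ 2) = 3 by rw [orderOf_pow_of_dvd two_ne_zero (by omega), h]] at h2
    simp only [Finset.sum_range_succ, Finset.sum_range_zero, zero_add, map_pow, ← pow_mul, Nat.mul_one, Nat.mul_zero, pow_zero] at h2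
    rw [show 2 * 2 = 1 + 3 from rfl, pow_add, hneg 3 (by omega) (by norm_num), pow_one, mul_neg, mul_one] at h2
    rw [ac_xr_eq hρ ha hb, ← hu, hinv 5 (by omega), show (5 : ℕ) = 2 + 3 from rfl, pow_add,
      hneg 3 (by omega) (by norm_num), mul_neg, mul_one,
      show ρ u ^ 2 = ρ u - 1 from eq_sub_of_add_eq (by
        rw [← sub_eq_zero]; rw [← h2]; abel)]
    module
  · refine Or.inr (Or.inr (Or.inr (Or.inr ⟨h, ?_⟩)))
    rw [← hu] at h
    have h2 := hρ.sum (u ^ 2) (by rw [orderOf_pow_of_dvd two_ne_zero (by omega), h]; norm_num)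
    rw [show orderOf (u ^ 2) = 5 by rw [orderOf_pow_of_dvd two_ne_zero (by omega), h]] at h2
    simp only [Finset.sum_range_succ, Finset.sum_range_zero, zero_add, pow_zero, pow_one, map_pow, ← pow_mul] at h2
    have h5 : ρ u ^ 5 = -1 := hneg 5 (by omega) (by norm_num)
    have e6 : ρ u ^ 6 = -ρ u := by rw [pow_succ, h5, neg_one_mul]
    have e8 : ρ u ^ 8 = -ρ u ^ 3 := by rw [show 8 = 5 + 3 from rfl, pow_add, h5, neg_one_mul]
    norm_num [e6, e8] at h2
    have h4 : ρ u ^ 4 = ρ u + ρ u ^ 3 - ρ u ^ 2 - 1 := by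
      rw [← sub_eq_zero]; rw [← h2]; abel
    rw [ac_xr_eq hρ ha hb, ← hu, hinv 9 (by omega), show (9 : ℕ) = 4 + 5 from rfl, pow_add, h5, mul_neg, mul_one]
    have m1 : ρ u * ρ u ^ 4 = -1 := by rw [← pow_succ', h5]
    have m2 : ρ u ^ 4 * ρ u = -1 := by rw [← pow_succ, h5]
    have m3 : ρ u ^ 4 * ρ u ^ 4 = -ρ u ^ 3 := by rw [← pow_add, e8]
    have m4 : ρ u * ρ u = ρ u ^ 2 := (pow_two _).symm
    simp only [mul_add, add_mul, mul_sub, sub_mul, mul_neg, neg_mul, mul_smul_comm, smul_mul_assoc, mul_one, one_mul,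
      m1, m2, m3, m4]
    rw [h4]
    module

theorem sys [Nontrivial R] (hρ : IsRep ρ) : Sys (xr ρ '' {a | orderOf a = 3}) := by
  refine ⟨?_, ?_, ?_, ?_⟩
  · rintro _ ⟨a, ha, rfl⟩
    exact xr_sq hρ ha
  · rintro _ ⟨a, ha, rfl⟩
    exact ⟨a⁻¹, (orderOf_inv a).trans ha, xr_inv hρ ha⟩
  · rintro _ ⟨a, ha, rfl⟩ _ ⟨b, hb, rfl⟩
    refine ⟨a * b * a⁻¹, ?_, (cj_xr hρ ha).symm⟩
    show orderOf (a * b * a⁻¹) = 3
    rw [← MulAut.conj_apply, MulEquiv.orderOf_eq]; exact hb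
  · rintro _ ⟨a, ha, rfl⟩ _ ⟨b, hb, rfl⟩
    rcases ac_table hρ ha hb with ⟨-, rfl⟩ | ⟨-, rfl⟩ | ⟨-, h⟩ | ⟨-, h⟩ | ⟨-, h⟩
    · exact Or.inr (Or.inr (Or.inr (Or.inl (xr_inv hρ ha))))
    · exact Or.inr (Or.inr (Or.inl rfl))
    · exact Or.inr (Or.inl h)
    · exact Or.inl h
    · exact Or.inr (Or.inr (Or.inr (Or.inr h)))

end CfsgLib.ZasFC
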