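import Mathlib
import Cfsg.Agent.Lib.ZassenhausFC.Rep
import Cfsg.Agent.Lib.CharTheory.Burnside

/-!
The subgroup generated by the elements of order three of a fixed-point-free group: it is solvable, or it has
twenty such elements and the group permutes five quartets of them.
-/

set_option autoImplicit false
set_option linter.unusedSimpArgs false
set_option linter.unusedSectionVars false

namespace CfsgLib.ZasFC

open scoped commutatorElement

universe u v

/-- The subgroup generated by the elements of order three. -/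
def three (G : Type u) [Group G] : Subgroup G := Subgroup.closure {a | orderOf a = 3}

instance three_normal {G : Type u} [Group G] : (three G).Normal := by
  refine ⟨fun n hn g => ?_⟩
  induction hn using Subgroup.closure_induction with
  | mem x hx =>
    refine Subgroup.subset_closure ?_
    show orderOf (g * x * g⁻¹) = 3
    rw [← MulAut.conj_apply, MulEquiv.orderOf_eq]; exact hx
  | one => simp [one_mem]
  | mul x y _ _ hx hy => rw [conj_mul.symm]; exact mul_mem hx hy
  | inv x _ hx => rw [conj_inv.symm]; exact inv_mem hx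

variable {G : Type u} [Group G] [Finite G]

theorem isSolvable_perm_four : Group.IsSolvable (Equiv.Perm (Fin 4)) :=
  CfsgLib.CharTheory.isSolvable_of_card_two_primes Nat.prime_two Nat.prime_three
    (a := 3) (b := 1) (by rw [Nat.card_perm, Nat.card_eq_fintype_card, Fintype.card_fin]; rfl)

/-- Few axes give a solvable subgroup. -/
theorem three_solvable_of_axes (a : Fin 4 → G) (ha : ∀ m, orderOf (a m) = 3)
    (hall : ∀ t : G, orderOf t = 3 → ∃ m, t = a m ∨ t = (a m)⁻¹) : Group.IsSolvable (three G) := by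
  classical
  let Ω : Set (Subgroup G) := Set.range fun m => Subgroup.zpowers (a m)
  have hmem : ∀ t : G, orderOf t = 3 → Subgroup.zpowers t ∈ Ω := by
    intro t ht
    obtain ⟨m, rfl | rfl⟩ := hall t ht
    · exact ⟨m, rfl⟩
    · exact ⟨m, (Subgroup.zpowers_inv).symm⟩
  have hmap : ∀ (g : G) (H : Ω), (H.1).map (MulAut.conj g).toMonoidHom ∈ Ω := by
    rintro g ⟨_, m, rfl⟩
    rw [MonoidHom.map_zpowers]
    exact hmem _ ((MulEquiv.orderOf_eq _ _).trans (ha m))
  have h1 : ∀ H : Ω, (⟨_, hmap 1 H⟩ : Ω) = H := fun H => Subtype.ext (by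
    show H.1.map (MulAut.conj (1 : G)).toMonoidHom = H.1
    rw [map_one]; exact Subgroup.map_id _)
  have hmul : ∀ (g g' : G) (H : Ω), (⟨_, hmap (g * g') H⟩ : Ω) = ⟨_, hmap g ⟨_, hmap g' H⟩⟩ := fun g g' H =>
    Subtype.ext (by
      show H.1.map (MulAut.conj (g * g')).toMonoidHom = (H.1.map (MulAut.conj g').toMonoidHom).map (MulAut.conj g).toMonoidHom
      rw [Subgroup.map_map, map_mul]; rfl)
  letI : MulAction (three G) Ω :=
    { smul := fun g H => ⟨_, hmap g H⟩
      one_smul := fun H => h1 H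
      mul_smul := fun g g' H => hmul g g' H }
  obtain ⟨f, hf⟩ : ∃ f : three G →* Equiv.Perm Ω, f = MulAction.toPermHom (three G) Ω := ⟨_, rfl⟩
  have hsolΩ : Group.IsSolvable (Equiv.Perm Ω) := by
    obtain ⟨e⟩ : Nonempty (Ω ↪ Fin 4) := ⟨⟨fun H => H.2.choose, fun H H' h => Subtype.ext
      (H.2.choose_spec.symm.trans ((congrArg (fun m => Subgroup.zpowers (a m)) h).trans H'.2.choose_spec))⟩⟩
    haveI := isSolvable_perm_four
    exact Group.isSolvable_of_isSolvable_injective (Equiv.Perm.viaEmbeddingHom_injective e)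
  have hker : ∀ g ∈ f.ker, ∀ t : G, orderOf t = 3 → (g : G) * t * (g : G)⁻¹ ∈ Subgroup.zpowers t := by
    intro g hg t ht
    have h2 : g • (⟨_, hmem t ht⟩ : Ω) = ⟨_, hmem t ht⟩ := by
      rw [hf, MonoidHom.mem_ker] at hg
      exact congrFun (congrArg DFunLike.coe hg) _
    have h3 := congrArg Subtype.val h2
    change (Subgroup.zpowers t).map (MulAut.conj (g : G)).toMonoidHom = Subgroup.zpowers t at h3
    rw [← h3]
    exact ⟨t, Subgroup.mem_zpowers t, rfl⟩
  have hcent : ⁅f.ker, f.ker⁆ ≤ Subgroup.center (three G) := by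
    refine Subgroup.commutator_le.mpr fun g hg g' hg' => ?_
    have hcomm : ∀ t : G, orderOf t = 3 →
        (g : G) * g' * t * ((g : G) * g')⁻¹ = (g' : G) * g * t * ((g' : G) * g)⁻¹ := by
      intro t ht
      obtain ⟨i, hi⟩ := hker g hg t ht
      obtain ⟨i', hi'⟩ := hker g' hg' t ht
      simp only at hi hi'
      calc (g : G) * g' * t * ((g : G) * g')⁻¹ = (g : G) * ((g' : G) * t * (g' : G)⁻¹) * (g : G)⁻¹ := by group
        _ = (t ^ i) ^ i' := by rw [← hi', ← conj_zpow, ← hi]
        _ = (t ^ i') ^ i := by rw [← zpow_mul, ← zpow_mul, mul_comm]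
        _ = (g' : G) * ((g : G) * t * (g : G)⁻¹) * (g' : G)⁻¹ := by rw [← hi, ← conj_zpow, ← hi']
        _ = _ := by group
    have key : ∀ t : G, orderOf t = 3 → Commute ((⁅g, g'⁆ : three G) : G) t := by
      intro t ht
      have h := hcomm (MulAut.conj ((g' : G) * g)⁻¹ t) ((MulEquiv.orderOf_eq _ _).trans ht)
      simp only [MulAut.conj_apply, inv_inv] at h
      rw [show (g' : G) * g * (((g' : G) * g)⁻¹ * t * ((g' : G) * g)) * ((g' : G) * g)⁻¹ = t by group] at h
      rw [commutatorElement_def]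
      push_cast
      show _ = _
      conv_rhs => enter [1]; rw [← h]
      group
    rw [Subgroup.mem_center_iff]
    intro n
    apply Subtype.ext
    have hn : (n : G) ∈ Subgroup.centralizer {((⁅g, g'⁆ : three G) : G)} :=
      ((Subgroup.closure_le _).mpr fun t ht => Subgroup.mem_centralizer_singleton_iff.mpr (key t ht).eq.symm) n.2
    exact Subgroup.mem_centralizer_singleton_iff.mp hn
  haveI : Group.IsSolvable f.ker := by
    refine ⟨⟨2, ?_⟩⟩
    rw [eq_bot_iff, show derivedSeries f.ker 2 = ⁅commutator f.ker, commutator f.ker⁆ by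
      rw [derivedSeries_succ, derivedSeries_one]]
    refine Subgroup.commutator_le.mpr fun x hx y _ => ?_
    rw [Subgroup.mem_bot, commutatorElement_eq_one_iff_mul_comm]
    have hx' : (x : three G) ∈ Subgroup.center (three G) := hcent (by
      have : (x : three G) ∈ (commutator f.ker).map f.ker.subtype := ⟨x, hx, rfl⟩
      rwa [commutator_def, Subgroup.map_commutator, ← MonoidHom.range_eq_map, Subgroup.range_subtype] at this)
    exact Subtype.ext (Subgroup.mem_center_iff.mp hx' y).symm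
  haveI : Group.IsSolvable f.range := inferInstance
  haveI := hsolΩ
  exact Group.isSolvable_of_ker_le_range f.ker.subtype f (le_of_eq (f.ker.range_subtype).symm)

variable {R : Type v} [Ring R] [Algebra ℚ R] [Nontrivial R] {ρ : G →* R}

/-- Without a pair at the icosahedral angle the subgroup is solvable. -/
theorem three_solvable_of_no_bad (hρ : IsRep ρ) {β : R} (hb : β * β = (5 : ℚ) • (1 : R))
    (hβ : ∀ g, ρ g * β = β * ρ g)
    (hno : ∀ a b : G, orderOf a = 3 → orderOf b = 3 → orderOf (a * b) ≠ 10) : Group.IsSolvable (three G) := by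
  by_cases hne : ∃ a : G, orderOf a = 3
  swap
  · have : three G = ⊥ := by
      rw [three, Subgroup.closure_eq_bot_iff]
      exact fun x hx => absurd ⟨x, hx⟩ hne
    rw [this]; infer_instance
  obtain ⟨a, ha⟩ := hne
  have hS := sys hρ
  obtain ⟨S, hSdef⟩ : ∃ S, S = xr ρ '' {a | orderOf a = 3} := ⟨_, rfl⟩
  rw [← hSdef] at hS
  obtain ⟨x, hx⟩ : ∃ x, x = xr ρ a := ⟨_, rfl⟩
  have hxS : x ∈ S := hSdef ▸ hx ▸ ⟨a, ha, rfl⟩
  have hscal : ∀ g ∈ S, ∀ g' ∈ S, ac g g' = (2 : ℚ) • (1 : R) ∨ ac g g' = (-2 : ℚ) • (1 : R) ∨ g' = g ∨ g' = -g := by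
    rw [hSdef]
    rintro _ ⟨u, hu, rfl⟩ _ ⟨w, hw, rfl⟩
    rcases ac_table hρ hu hw with ⟨-, rfl⟩ | ⟨-, rfl⟩ | ⟨-, h⟩ | ⟨-, h⟩ | ⟨h, -⟩
    · exact Or.inr (Or.inr (Or.inr (xr_inv hρ hu)))
    · exact Or.inr (Or.inr (Or.inl rfl))
    · exact Or.inr (Or.inl h)
    · exact Or.inl h
    · exact absurd h (hno u w hu hw)
  by_cases hother : ∃ w ∈ S, ac x w = (2 : ℚ) • (1 : R)
  swap
  · refine three_solvable_of_axes (fun _ => a) (fun _ => ha) fun t ht => ⟨0, ?_⟩
    have htS : xr ρ t ∈ S := hSdef ▸ ⟨t, ht, rfl⟩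
    rcases hscal x hxS _ htS with h | h | h | h
    · exact absurd ⟨_, htS, h⟩ hother
    · refine absurd ⟨_, hS.neg _ htS, ?_⟩ hother
      rw [show ac x (-xr ρ t) = -ac x (xr ρ t) by rw [ac, ac]; noncomm_ring, h]; module
    · exact Or.inl (xr_inj hρ (h.trans hx))
    · exact Or.inr (xr_inj hρ (by rw [h, hx, xr_inv hρ ha]))
  obtain ⟨w, hwS, hxw⟩ := hother
  have hcommS : ∀ g ∈ S, g * β = β * g := by
    rw [hSdef]; rintro _ ⟨u, -, rfl⟩
    simp only [xr, two_mul, add_mul, mul_add, hβ, one_mul, mul_one]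
  have F := frame_of_pair (hS.sq x hxS) (hS.sq w hwS) hxw (hcommS x hxS) (hcommS w hwS) hb
  obtain ⟨i, hi⟩ : ∃ i, i = (2 : ℚ)⁻¹ • (x + w) := ⟨_, rfl⟩
  obtain ⟨j, hj⟩ : ∃ j, j = (4 : ℚ)⁻¹ • (x - w) + (8 : ℚ)⁻¹ • (x * w - w * x) := ⟨_, rfl⟩
  obtain ⟨k, hk⟩ : ∃ k, k = (4 : ℚ)⁻¹ • (x - w) - (8 : ℚ)⁻¹ • (x * w - w * x) := ⟨_, rfl⟩
  rw [← hi, ← hj, ← hk] at F
  have e1 : i + j + k = x := by rw [hi, hj, hk]; module
  have e2 : i - j - k = w := by rw [hi, hj, hk]; module
  have h3 : -i + j - k ∈ S := by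
    convert hS.conj (-x) (hS.neg x hxS) w hwS using 1
    rw [cj_eq (by rw [neg_mul_neg]; exact hS.sq x hxS),
      show ac (-x) w = -ac x w by rw [ac, ac]; noncomm_ring, hxw, hi, hj, hk]
    simp only [neg_mul, mul_neg, neg_smul, smul_mul_assoc, one_mul]
    module
  have h4 : -i - j + k ∈ S := by
    convert hS.conj x hxS w hwS using 1
    rw [cj_eq (hS.sq x hxS), hxw, hi, hj, hk]
    simp only [smul_mul_assoc, one_mul]
    module
  obtain ⟨v, hv⟩ : ∃ v : Fin 4 → R, v = ![i + j + k, i - j - k, -i + j - k, -i - j + k] := ⟨_, rfl⟩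
  have hvS : ∀ m, v m ∈ S := by
    intro m
    fin_cases m <;> simp [hv, e1, e2, hxS, hwS, h3, h4]
  have hclass : ∀ g ∈ S, ∃ m, g = v m ∨ g = -v m := by
    intro g hg
    by_contra hnot
    push Not at hnot
    have hsc : ∀ m, ac g (v m) = (2 : ℚ) • (1 : R) ∨ ac g (v m) = (-2 : ℚ) • (1 : R) := fun m => by
      rcases hscal g hg (v m) (hvS m) with h | h | h | h
      · exact Or.inl h
      · exact Or.inr h
      · exact absurd h.symm (hnot m).1
      · exact absurd (by rw [h, neg_neg]) (hnot m).2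
    have key : ∀ g ∈ S, (∀ m, ac g (v m) = (2 : ℚ) • (1 : R) ∨ ac g (v m) = (-2 : ℚ) • (1 : R)) →
        ac g (i + j + k) = (2 : ℚ) • (1 : R) → False := by
      intro g hg hsc h0
      have h48 := sum_sq F (hS.sq g hg) (avg_zero_of_adj F h0)
      have hsq : ∀ m, ac g (v m) * ac g (v m) = (4 : ℚ) • (1 : R) := fun m => by
        rcases hsc m with h | h <;> rw [h, smul_mul_smul_comm, mul_one] <;> norm_num
      have q0 := hsq 0
      have q1 := hsq 1
      have q2 := hsq 2
      have q3 := hsq 3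
      simp only [hv, Matrix.cons_val_zero, Matrix.cons_val_one, Matrix.cons_val] at q0 q1 q2 q3
      rw [q0, q1, q2, q3, ← add_smul, ← add_smul, ← add_smul] at h48
      have := scalar_inj h48
      norm_num at this
    rcases hsc 0 with h | h
    · exact key g hg hsc (by simpa [hv] using h)
    · refine key (-g) (hS.neg g hg) (fun m => ?_) ?_
      · rcases hsc m with h' | h'
        · exact Or.inr (by rw [show ac (-g) (v m) = -ac g (v m) by rw [ac, ac]; noncomm_ring, h']; module)
        · exact Or.inl (by rw [show ac (-g) (v m) = -ac g (v m) by rw [ac, ac]; noncomm_ring, h']; module)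
      · simp only [hv, Matrix.cons_val_zero] at h
        rw [show ac (-g) (i + j + k) = -ac g (i + j + k) by rw [ac, ac]; noncomm_ring, h]; module
  have hchoose : ∀ m, ∃ t : G, orderOf t = 3 ∧ xr ρ t = v m := fun m => by
    have := hvS m; rw [hSdef] at this; exact this
  choose t ht htv using hchoose
  refine three_solvable_of_axes t ht fun s hs => ?_
  obtain ⟨m, h | h⟩ := hclass (xr ρ s) (hSdef ▸ ⟨s, hs, rfl⟩)
  · exact ⟨m, Or.inl (xr_inj hρ (h.trans (htv m).symm))⟩
  · exact ⟨m, Or.inr (xr_inj hρ (by rw [h, xr_inv hρ (ht m), htv]))⟩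

end CfsgLib.ZasFC
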