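import Mathlib
import Cfsg.Agent.Lib.ZassenhausFC.Three

/-!
The ten axes of a group with a pair at the icosahedral angle, and the action on the five quartets.
-/

set_option autoImplicit false
set_option linter.unusedSimpArgs false
set_option linter.unusedSectionVars false

namespace CfsgLib.ZasFC

universe u v

theorem quart_list : ∀ q : Fin 5, ∃ a b c d : Fin 10, quart q = {a, b, c, d} ∧ a ≠ b ∧ a ≠ c ∧ a ≠ d ∧ b ≠ c ∧ b ≠ d ∧ c ≠ d := by
  intro q
  fin_cases q
  · exact ⟨0, 1, 2, 3, by decide⟩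
  · exact ⟨0, 7, 8, 9, by decide⟩
  · exact ⟨1, 5, 6, 7, by decide⟩
  · exact ⟨2, 4, 6, 8, by decide⟩
  · exact ⟨3, 4, 5, 9, by decide⟩

theorem adj_connected : ∀ n : Fin 10, n = 0 ∨ adjAx 0 n = true ∨ ∃ l, adjAx 0 l = true ∧ adjAx l n = true := by
  decide +kernel

theorem adjAx_dot {a b : Fin 10} : adjAx a b = true ↔ dot (ax a) (ax b) = 4 ∨ dot (ax a) (ax b) = -4 := by
  simp [adjAx]

theorem perm_five_cube_card :
    (Finset.univ.filter fun σ : Equiv.Perm (Fin 5) => σ * σ * σ = 1 ∧ σ ≠ 1).card = 20 := by decide +kernel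

theorem alt_five_no_four : ∀ σ : Equiv.Perm (Fin 5), Equiv.Perm.sign σ = 1 → σ * σ * (σ * σ) = 1 → σ * σ = 1 := by
  decide +kernel

variable {R : Type v} [Ring R] [Algebra ℚ R] [Nontrivial R] {i j k β : R}

theorem vect_eq_zero (F : Frame i j k β) {U : V3} (h : vect i j k β U = 0) : U = 0 := by
  have hd : ∀ W, dot U W = 0 := fun W => by
    refine phi_injective F ?_
    have h1 := ac_vect F U W
    rw [h, ac, zero_mul, mul_zero, add_zero] at h1
    rw [phi_zero]
    exact (smul_eq_zero.mp h1.symm).resolve_left (by norm_num)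
  have a := hd (1, 0, 0)
  have b := hd (0, 1, 0)
  have c := hd (0, 0, 1)
  simp only [dot, mul_one, mul_zero, add_zero, zero_add] at a b c
  exact Prod.ext a (Prod.ext b c)

theorem vect_axes_eq (F : Frame i j k β) {a b : Fin 10}
    (h : vect i j k β (ax a) = vect i j k β (ax b) ∨ vect i j k β (ax a) = -vect i j k β (ax b)) : a = b := by
  have key : ∀ a b : Fin 10, ax a = ax b ∨ ax a = -ax b → a = b := by decide +kernel
  refine key a b ?_
  rcases h with h | h
  · exact Or.inl (sub_eq_zero.mp (vect_eq_zero F (by rw [vect_sub, h, sub_self])))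
  · exact Or.inr (sub_eq_zero.mp (vect_eq_zero F (by rw [vect_sub, vect_neg, h, sub_self])))

variable {G : Type u} [Group G] [Finite G] {ρ : G →* R}

/-- The order of the product tells adjacency. -/
theorem adj_iff_order (hρ : IsRep ρ) {s t : G} (hs : orderOf s = 3) (ht : orderOf t = 3) :
    (orderOf (s * t) = 4 ∨ orderOf (s * t) = 6) ↔
      (ac (xr ρ s) (xr ρ t) = (2 : ℚ) • (1 : R) ∨ ac (xr ρ s) (xr ρ t) = (-2 : ℚ) • (1 : R)) := by
  have hno : ∀ {c : ℚ}, (c = 2 ∨ c = -2) → ∀ {d : ℚ}, (d = 6 ∨ d = -6) → (c • (1 : R)) ≠ d • (1 : R) := by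
    intro c hc d hd h
    have := scalar_inj h
    rcases hc with rfl | rfl <;> rcases hd with rfl | rfl <;> norm_num at this
  have hxx : ac (xr ρ s) (xr ρ s) = (-6 : ℚ) • (1 : R) := by rw [ac, xr_sq hρ hs]; module
  rcases ac_table hρ hs ht with ⟨h, e⟩ | ⟨h, e⟩ | ⟨h, e⟩ | ⟨h, e⟩ | ⟨h, e⟩
  · refine ⟨fun h' => by omega, fun h' => ?_⟩
    have h6 : ac (xr ρ s) (xr ρ t) = (6 : ℚ) • (1 : R) := by
      rw [e, xr_inv hρ hs, show ac (xr ρ s) (-xr ρ s) = -ac (xr ρ s) (xr ρ s) by rw [ac, ac]; noncomm_ring, hxx]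
      module
    rcases h' with h' | h' <;> rw [h'] at h6
    · exact absurd h6 (hno (Or.inl rfl) (Or.inl rfl))
    · exact absurd h6 (hno (Or.inr rfl) (Or.inl rfl))
  · refine ⟨fun h' => by omega, fun h' => ?_⟩
    have h6 : ac (xr ρ s) (xr ρ t) = (-6 : ℚ) • (1 : R) := by rw [e, hxx]
    rcases h' with h' | h' <;> rw [h'] at h6
    · exact absurd h6 (hno (Or.inl rfl) (Or.inr rfl))
    · exact absurd h6 (hno (Or.inr rfl) (Or.inr rfl))
  · exact ⟨fun _ => Or.inr e, fun _ => Or.inl h⟩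
  · exact ⟨fun _ => Or.inl e, fun _ => Or.inr h⟩
  · refine ⟨fun h' => by omega, fun h' => ?_⟩
    rcases h' with h' | h' <;> rw [h', smul_mul_smul_comm, mul_one] at e <;>
      exact absurd (scalar_inj e) (by norm_num)

theorem adj_inv (hρ : IsRep ρ) {s t s' t' : G} (hs : orderOf s = 3) (ht : orderOf t = 3)
    (hs' : s' = s ∨ s' = s⁻¹) (ht' : t' = t ∨ t' = t⁻¹) :
    (orderOf (s' * t') = 4 ∨ orderOf (s' * t') = 6) ↔ (orderOf (s * t) = 4 ∨ orderOf (s * t) = 6) := by
  have h3 : orderOf s' = 3 ∧ orderOf t' = 3 := by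
    constructor
    · rcases hs' with rfl | rfl <;> simp [hs]
    · rcases ht' with rfl | rfl <;> simp [ht]
  rw [adj_iff_order hρ h3.1 h3.2, adj_iff_order hρ hs ht]
  have e : ac (xr ρ s') (xr ρ t') = ac (xr ρ s) (xr ρ t) ∨ ac (xr ρ s') (xr ρ t') = -ac (xr ρ s) (xr ρ t) := by
    rcases hs' with rfl | rfl <;> rcases ht' with rfl | rfl <;> simp only [xr_inv hρ hs, xr_inv hρ ht, ac]
    · exact Or.inl trivial
    · exact Or.inr (by noncomm_ring)
    · exact Or.inr (by noncomm_ring)
    · exact Or.inl (by noncomm_ring)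
  rcases e with e | e <;> rw [e]
  rw [neg_eq_iff_eq_neg, neg_eq_iff_eq_neg, ← neg_smul, ← neg_smul]
  norm_num
  exact or_comm

/-- The map to the permutations of the five quartets. -/
theorem exists_quartet_action (hρ : IsRep ρ) {a₀ b₀ : G} (ha₀ : orderOf a₀ = 3) (hb₀ : orderOf b₀ = 3)
    (hbad : orderOf (a₀ * b₀) = 10) :
    ∃ (f : G →* Equiv.Perm (Fin 5)) (i j k β : R) (a : Fin 10 → G), Frame i j k β ∧
      (∀ m, orderOf (a m) = 3 ∧ xr ρ (a m) = vect i j k β (ax m)) ∧
      (∀ t, orderOf t = 3 → ∃ m, t = a m ∨ t = (a m)⁻¹) ∧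
      f.ker = Subgroup.centralizer ((three G : Subgroup G) : Set G) := by
  classical
  have hbad' : ac (xr ρ a₀) (xr ρ b₀) * ac (xr ρ a₀) (xr ρ b₀) = (20 : ℚ) • (1 : R) := by
    rcases ac_table hρ ha₀ hb₀ with ⟨h, -⟩ | ⟨h, -⟩ | ⟨h, -⟩ | ⟨h, -⟩ | ⟨-, h⟩
    all_goals first | omega | exact h
  obtain ⟨i, j, k, β, F, hmem, hcls⟩ := classify (sys hρ) ⟨a₀, ha₀, rfl⟩ ⟨b₀, hb₀, rfl⟩ hbad'
  choose a ha hax using hmem
  have hall : ∀ t, orderOf t = 3 → ∃ m, t = a m ∨ t = (a m)⁻¹ := fun t ht => by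
    obtain ⟨m, h | h⟩ := hcls _ ⟨t, ht, rfl⟩
    · exact ⟨m, Or.inl (xr_inj hρ (h.trans (hax m).symm))⟩
    · exact ⟨m, Or.inr (xr_inj hρ (by rw [h, xr_inv hρ (ha m), hax]))⟩
  have huniq : ∀ m n, a m = a n ∨ a m = (a n)⁻¹ → m = n := fun m n h => by
    refine vect_axes_eq F ?_
    rw [← hax, ← hax]
    rcases h with h | h
    · exact Or.inl (by rw [h])
    · exact Or.inr (by rw [h, xr_inv hρ (ha n)])
  have hadj : ∀ m n, adjAx m n = true ↔ (orderOf (a m * a n) = 4 ∨ orderOf (a m * a n) = 6) := fun m n => by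
    rw [adjAx_dot, adj_iff_order hρ (ha m) (ha n), hax, hax, ac_vect F]
    have e : ∀ c : ℚ, (-2 : ℚ)⁻¹ • phi β (dot (ax m) (ax n)) = c • (1 : R) ↔
        phi β (dot (ax m) (ax n)) = (-2 * c) • (1 : R) := fun c => by
      constructor
      · intro h
        rw [mul_smul, ← h, smul_smul]; norm_num
      · intro h
        rw [h, smul_smul, ← mul_assoc, inv_mul_cancel₀ (by norm_num), one_mul]
    rw [e, e, show (-2 * 2 : ℚ) • (1 : R) = phi β (-4) by
        rw [phi_neg, phi_ofNat]; norm_num,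
      show (-2 * -2 : ℚ) • (1 : R) = phi β 4 by rw [phi_ofNat]; norm_num]
    exact ⟨fun h => h.symm.imp (fun h => by rw [h]) (fun h => by rw [h]),
      fun h => (h.imp (fun h => phi_injective F h) fun h => phi_injective F h).symm⟩
  have hperm : ∀ g m, ∃ n, g * a m * g⁻¹ = a n ∨ g * a m * g⁻¹ = (a n)⁻¹ := fun g m =>
    hall _ (by rw [← MulAut.conj_apply, MulEquiv.orderOf_eq, ha])
  choose π hπ using hperm
  have hπ_eq : ∀ g m n, (g * a m * g⁻¹ = a n ∨ g * a m * g⁻¹ = (a n)⁻¹) → π g m = n := fun g m n h => by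
    refine huniq _ _ ?_
    rcases hπ g m with e | e <;> rcases h with h | h <;> rw [e] at h
    · exact Or.inl h
    · exact Or.inr h
    · exact Or.inr (by rw [← h, inv_inv])
    · exact Or.inl (inv_injective h)
  have hπ1 : ∀ m, π 1 m = m := fun m => hπ_eq 1 m m (Or.inl (by simp))
  have hπmul : ∀ g g' m, π (g * g') m = π g (π g' m) := fun g g' m => by
    refine hπ_eq _ _ _ ?_
    have e : g * g' * a m * (g * g')⁻¹ = g * (g' * a m * g'⁻¹) * g⁻¹ := by group
    rw [e]
    rcases hπ g' m with h | h <;> rw [h]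
    · exact hπ g (π g' m)
    · rcases hπ g (π g' m) with h' | h'
      · exact Or.inr (by rw [← h']; group)
      · exact Or.inl (by rw [← inv_inv (a (π g _)), ← h']; group)
  have hπinj : ∀ g, Function.Injective (π g) := fun g m n h => by
    rw [← hπ1 m, ← hπ1 n, ← inv_mul_cancel g, hπmul, hπmul, h]
  have hπadj : ∀ g m n, adjAx m n = true → adjAx (π g m) (π g n) = true := fun g m n h => by
    rw [hadj] at h ⊢
    have hc : ∀ m, orderOf (g * a m * g⁻¹) = 3 := fun m => by
      rw [← MulAut.conj_apply, MulEquiv.orderOf_eq, ha]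
    refine (adj_inv hρ (hc m) (hc n) ?_ ?_).mpr ?_
    · rcases hπ g m with e | e <;> rw [e] <;> simp
    · rcases hπ g n with e | e <;> rw [e] <;> simp
    · rwa [show g * a m * g⁻¹ * (g * a n * g⁻¹) = MulAut.conj g (a m * a n) by rw [MulAut.conj_apply]; group,
        MulEquiv.orderOf_eq]
  have hq : ∀ g q, ∃ q', quart q' = (quart q).image (π g) := by
    intro g q
    obtain ⟨A, B, C, D, hQ, hab, hac, had, hbc, hbd, hcd⟩ := quart_list q
    have hQA : ∀ x ∈ quart q, ∀ y ∈ quart q, x ≠ y → adjAx (π g x) (π g y) = true := fun x hx y hy hxy =>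
      hπadj g x y (adjAx_dot.mpr ((quart_adj q x hx y hy).resolve_left hxy))
    obtain ⟨q', hq'⟩ := quart_clique (π g A) (π g B) (fun e => hab (hπinj g e)) (hQA A (by simp [hQ]) B (by simp [hQ]) hab)
      (π g C) (fun e => hac (hπinj g e).symm) (fun e => hbc (hπinj g e).symm)
      (hQA A (by simp [hQ]) C (by simp [hQ]) hac) (hQA B (by simp [hQ]) C (by simp [hQ]) hbc)
      (π g D) (fun e => had (hπinj g e).symm) (fun e => hbd (hπinj g e).symm) (fun e => hcd (hπinj g e).symm)
      (hQA A (by simp [hQ]) D (by simp [hQ]) had) (hQA B (by simp [hQ]) D (by simp [hQ]) hbd)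
      (hQA C (by simp [hQ]) D (by simp [hQ]) hcd)
    exact ⟨q', by rw [hq', hQ]; simp⟩
  choose q' hq' using hq
  have hq1 : ∀ q, q' 1 q = q := fun q => quart_injective (by
    rw [hq']; rw [show π 1 = id from funext hπ1, Finset.image_id])
  have hqmul : ∀ g g' q, q' (g * g') q = q' g (q' g' q) := fun g g' q => quart_injective (by
    rw [hq', hq', hq', Finset.image_image]
    exact congrArg (Finset.image · _) (funext fun m => hπmul g g' m))
  let f : G →* Equiv.Perm (Fin 5) :=
    { toFun := fun g => ⟨q' g, q' g⁻¹, fun q => by rw [← hqmul, inv_mul_cancel, hq1],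
        fun q => by rw [← hqmul, mul_inv_cancel, hq1]⟩
      map_one' := Equiv.ext hq1
      map_mul' := fun g g' => Equiv.ext fun q => hqmul g g' q }
  refine ⟨f, i, j, k, β, a, F, fun m => ⟨ha m, hax m⟩, hall, le_antisymm (fun g hg => ?_) fun g hg => ?_⟩
  · have hgq : ∀ q, q' g q = q := fun q => congrFun (congrArg DFunLike.coe (MonoidHom.mem_ker.mp hg)) q
    have hfix : ∀ m, π g m = m := by
      intro m
      obtain ⟨p, q, hpq⟩ := quart_inter m
      have h1 : π g m ∈ quart p ∩ quart q := by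
        have hm : m ∈ quart p ∩ quart q := by rw [hpq]; exact Finset.mem_singleton_self m
        rw [Finset.mem_inter] at hm ⊢
        constructor
        · rw [← hgq p, hq']; exact Finset.mem_image_of_mem _ hm.1
        · rw [← hgq q, hq']; exact Finset.mem_image_of_mem _ hm.2
      rw [hpq, Finset.mem_singleton] at h1
      exact h1
    obtain ⟨ε, hε⟩ : ∃ ε : Fin 10 → ℚ, ∀ m, (ε m = 1 ∨ ε m = -1) ∧
        ρ g * vect i j k β (ax m) * ρ g⁻¹ = ε m • vect i j k β (ax m) := by
      have : ∀ m, ∃ c : ℚ, (c = 1 ∨ c = -1) ∧ ρ g * vect i j k β (ax m) * ρ g⁻¹ = c • vect i j k β (ax m) := fun m => by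
        rw [← hax, rho_conj_xr]
        rcases hπ g m with h | h <;> rw [hfix m] at h
        · exact ⟨1, Or.inl rfl, by rw [h, one_smul]⟩
        · exact ⟨-1, Or.inr rfl, by rw [h, xr_inv hρ (ha m), neg_one_smul]⟩
      choose ε hε using this
      exact ⟨ε, hε⟩
    have hg1 : ρ g * ρ g⁻¹ = 1 := by rw [← map_mul, mul_inv_cancel, map_one]
    have hg2 : ∀ X, ρ g⁻¹ * (ρ g * X) = X := fun X => by rw [← mul_assoc, ← map_mul, inv_mul_cancel, map_one, one_mul]
    have hconj_mul : ∀ X Y : R, ρ g * X * ρ g⁻¹ * (ρ g * Y * ρ g⁻¹) = ρ g * (X * Y) * ρ g⁻¹ := fun X Y => by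
      simp only [mul_assoc, hg2]
    have hsame : ∀ m n, adjAx m n = true → ε m = ε n := by
      intro m n h
      have h1 := ac_vect F (ax m) (ax n)
      have h2 : ac (ρ g * vect i j k β (ax m) * ρ g⁻¹) (ρ g * vect i j k β (ax n) * ρ g⁻¹) =
          ρ g * ac (vect i j k β (ax m)) (vect i j k β (ax n)) * ρ g⁻¹ := by
        rw [ac, ac, hconj_mul, hconj_mul, mul_add, add_mul]
      rw [(hε m).2, (hε n).2, show ac (ε m • vect i j k β (ax m)) (ε n • vect i j k β (ax n)) =
        (ε m * ε n) • ac (vect i j k β (ax m)) (vect i j k β (ax n)) by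
          simp only [ac, smul_mul_smul_comm, smul_add, mul_comm (ε n)]] at h2
      have hs : ∃ c : ℚ, c ≠ 0 ∧ ac (vect i j k β (ax m)) (vect i j k β (ax n)) = c • (1 : R) := by
        rw [h1]
        rcases adjAx_dot.mp h with e | e <;> rw [e]
        · exact ⟨-2, by norm_num, by rw [phi_ofNat, smul_smul]; norm_num⟩
        · exact ⟨2, by norm_num, by rw [phi_neg, phi_ofNat, smul_neg, smul_smul]; norm_num⟩
      obtain ⟨c, hc0, hc⟩ := hs
      rw [hc, smul_smul, mul_smul_comm, mul_one, smul_mul_assoc, hg1] at h2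
      have h3 := scalar_inj h2
      rcases (hε m).1 with e | e <;> rcases (hε n).1 with e' | e' <;> rw [e, e'] at h3 ⊢ <;>
        first | rfl | (exfalso; apply hc0; linarith)
    have hconst : ∀ n, ε n = ε 0 := fun n => by
      rcases adj_connected n with rfl | h | ⟨l, h, h'⟩
      · rfl
      · exact (hsame 0 n h).symm
      · rw [← hsame l n h', ← hsame 0 l h]
    obtain ⟨b0, b1, b2, b3, -⟩ := vect_basic F
    have hε1 : ε 0 = 1 := by
      rcases (hε 0).1 with e | e
      · exact e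
      exfalso
      have hcv : ∀ m, ρ g * vect i j k β (ax m) * ρ g⁻¹ = -vect i j k β (ax m) := fun m => by
        rw [(hε m).2, hconst m, e, neg_one_smul]
      have hI : ρ g * i * ρ g⁻¹ = -i := by
        rw [show i = (2 : ℚ)⁻¹ • (vect i j k β (ax 0) + vect i j k β (ax 1)) by rw [b0, b1]; module,
          mul_smul_comm, smul_mul_assoc, mul_add, add_mul, hcv, hcv]
        module
      have hJ : ρ g * j * ρ g⁻¹ = -j := by
        rw [show j = (2 : ℚ)⁻¹ • (vect i j k β (ax 0) + vect i j k β (ax 2)) by rw [b0, b2]; module,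
          mul_smul_comm, smul_mul_assoc, mul_add, add_mul, hcv, hcv]
        module
      have hK : ρ g * k * ρ g⁻¹ = -k := by
        rw [show k = (2 : ℚ)⁻¹ • (vect i j k β (ax 0) + vect i j k β (ax 3)) by rw [b0, b3]; module,
          mul_smul_comm, smul_mul_assoc, mul_add, add_mul, hcv, hcv]
        module
      have hK' : ρ g * k * ρ g⁻¹ = k := by
        rw [← F.ij, ← hconj_mul, hI, hJ, neg_mul_neg]
      have hk0 : (2 : ℚ) • k = 0 := by
        rw [two_smul]; nth_rewrite 1 [← hK']; rw [hK]; exact neg_add_cancel k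
      have hk1 : k = 0 := (smul_eq_zero.mp hk0).resolve_left (by norm_num)
      have := F.kk
      rw [hk1, zero_mul] at this
      exact one_ne_zero ((smul_eq_zero.mp this.symm).resolve_left (by norm_num) : (1 : R) = 0)
    refine Subgroup.mem_centralizer_iff.mpr fun n hn => ?_
    have hgen : ∀ t, orderOf t = 3 → g * t * g⁻¹ = t := fun t ht => by
      obtain ⟨m, hm⟩ := hall t ht
      have h1 : g * a m * g⁻¹ = a m := xr_inj hρ (by
        rw [← rho_conj_xr, hax, (hε m).2, hconst m, hε1, one_smul])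
      rcases hm with rfl | rfl
      · exact h1
      · rw [← conj_inv, h1]
    have : n ∈ Subgroup.centralizer {g} :=
      ((Subgroup.closure_le _).mpr fun t ht => Subgroup.mem_centralizer_singleton_iff.mpr
        (mul_inv_eq_iff_eq_mul.mp (hgen t ht)).symm) hn
    exact Subgroup.mem_centralizer_singleton_iff.mp this
  · rw [MonoidHom.mem_ker]
    refine Equiv.ext fun q => quart_injective ?_
    show quart (q' g q) = quart q
    rw [hq', show π g = id from funext fun m => hπ_eq g m m (Or.inl ?_), Finset.image_id]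
    rw [← Subgroup.mem_centralizer_iff.mp hg (a m) (Subgroup.subset_closure (ha m)), mul_inv_cancel_right]

end CfsgLib.ZasFC
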