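import Mathlib
import Cfsg.Prelude.Def_Transfer
import Cfsg.Agent.Lib.ZassenhausFC.Axes
import Cfsg.Agent.Lib.QuaternionSection
import Cfsg.Agent.Lib.HSub.Complement
import Cfsg.Agent.S3378

/-!
Zassenhaus's structure theorem for non-solvable fixed-point-free groups.
-/

set_option autoImplicit false
set_option linter.unusedSimpArgs false
set_option linter.unusedSectionVars false

namespace CfsgLib.ZasFC

open scoped commutatorElement

universe u v

variable {G : Type u} [Group G] [Finite G]

theorem sylow_odd_cyclic (hG : HasFunctional G) {p : ℕ} [hp : Fact p.Prime] (hp2 : p ≠ 2) (P : Sylow p G) :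
    IsCyclic (P : Subgroup G) := by
  obtain ⟨R, _, _, _, ρ, β, hρ, -, -⟩ := exists_rep_root hG
  refine CfsgLib.Frob.isCyclic_of_uniq_odd hp2 P.isPGroup' fun H K hH hK => ?_
  have : Nontrivial (P : Subgroup G) := by
    obtain ⟨⟨h, hh⟩, hho⟩ := exists_prime_orderOf_dvd_card' (G := H) p hH.symm.dvd
    refine ⟨⟨h, 1, fun e => hp.out.ne_one ?_⟩⟩
    rw [← hho, Subgroup.orderOf_mk, e, orderOf_one]
  have := P.isPGroup'.center_nontrivial
  obtain ⟨⟨z, hz⟩, hzo⟩ := exists_prime_orderOf_dvd_card' (G := Subgroup.center (P : Subgroup G)) p (by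
    obtain ⟨n, hn⟩ := (P.isPGroup'.to_subgroup (Subgroup.center (P : Subgroup G))).exists_card_eq
    have h1 : 1 < Nat.card (Subgroup.center (P : Subgroup G)) := Finite.one_lt_card
    rw [hn] at h1 ⊢
    exact dvd_pow_self p fun e => by simp [e] at h1)
  rw [Subgroup.orderOf_mk] at hzo
  have key : ∀ L : Subgroup (P : Subgroup G), Nat.card L = p → L = Subgroup.zpowers z := by
    intro L hL
    obtain ⟨⟨w, hwL⟩, hwo⟩ := exists_prime_orderOf_dvd_card' (G := L) p hL.symm.dvd
    rw [Subgroup.orderOf_mk] at hwo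
    obtain ⟨e, he⟩ := cyclic_pair hρ hp.out (u := (z : G)) (v := (w : G)) (by rw [Subgroup.orderOf_coe, hzo])
      (by rw [Subgroup.orderOf_coe, hwo]) (congrArg Subtype.val (Subgroup.mem_center_iff.mp hz w)).symm
    have h2 : w ∈ Subgroup.zpowers z := ⟨e, Subtype.ext (by simpa using he)⟩
    have h3 : Subgroup.zpowers w = Subgroup.zpowers z :=
      Subgroup.eq_of_le_of_card_ge (Subgroup.zpowers_le.mpr h2) (by rw [Nat.card_zpowers, Nat.card_zpowers, hzo, hwo])
    rw [← h3]
    exact (Subgroup.eq_of_le_of_card_ge (Subgroup.zpowers_le.mpr hwL) (by rw [Nat.card_zpowers, hwo, hL])).symm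
  rw [key H hH, key K hK]

theorem involution_unique' (hG : HasFunctional G) {z w : G} (hz : orderOf z = 2) (hw : orderOf w = 2) : z = w := by
  obtain ⟨R, _, _, _, ρ, β, hρ, -, -⟩ := exists_rep_root hG
  exact involution_unique hρ hz hw

theorem isZGroup_of_odd (hG : HasFunctional G) (hodd : Odd (Nat.card G)) : IsZGroup G := ⟨fun p hp P => by
  haveI := Fact.mk hp
  rcases eq_or_ne p 2 with rfl | h2
  · have : (P : Subgroup G) = ⊥ := by
      obtain ⟨n, hn⟩ := P.isPGroup'.exists_card_eq
      refine Subgroup.card_eq_one.mp ?_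
      rcases n.eq_zero_or_pos with rfl | hpos
      · simpa using hn
      · exact absurd ((dvd_pow_self 2 hpos.ne').trans (hn ▸ Subgroup.card_subgroup_dvd_card _)) hodd.not_two_dvd_nat
    rw [this]; infer_instance
  · exact sylow_odd_cyclic hG h2 P⟩

theorem two_complement_solvable (hG : HasFunctional G) (h : Cfsg.HasNormalPComplement 2 G) : Group.IsSolvable G := by
  haveI : Fact (Nat.Prime 2) := ⟨Nat.prime_two⟩
  obtain ⟨P, N, hN, hc⟩ := h
  haveI := hN
  have hidx : N.index = Nat.card (P : Subgroup G) := hc.symm.index_eq_card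
  have hNodd : Odd (Nat.card N) := by
    rw [Nat.odd_iff, ← Nat.two_dvd_ne_zero]
    intro hd
    obtain ⟨x, hx⟩ := exists_prime_orderOf_dvd_card' (G := N) 2 hd
    have h1 : Nat.card N * Nat.card (P : Subgroup G) = Nat.card G := hc.card_mul
    have h2 : Nat.card (P : Subgroup G) = 2 ^ (Nat.card G).factorization 2 := P.card_eq_multiplicity
    have h3 : 2 ^ ((Nat.card G).factorization 2 + 1) ∣ Nat.card G := by
      rw [pow_succ, ← h2, ← h1, mul_comm (Nat.card N)]
      exact mul_dvd_mul_left _ hd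
    exact absurd h3 (Nat.pow_succ_factorization_not_dvd (Nat.card_pos (α := G)).ne' Nat.prime_two)
  haveI := isZGroup_of_odd (hG.subgroup N) hNodd
  have hq : IsPGroup 2 (G ⧸ N) := by
    obtain ⟨n, hn⟩ := P.isPGroup'.exists_card_eq
    exact IsPGroup.of_card (n := n) (by rw [← Subgroup.index_eq_card, hidx, hn])
  haveI := hq.isNilpotent
  exact (Group.isSolvable_iff_subgroup_quotient N).mpr ⟨inferInstance, inferInstance⟩

theorem no_three_solvable (hG : HasFunctional G) (h3 : ¬ 3 ∣ Nat.card G) : Group.IsSolvable G := by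
  haveI : Fact (Nat.Prime 2) := ⟨Nat.prime_two⟩
  refine two_complement_solvable hG ?_
  obtain ⟨P⟩ : Nonempty (Sylow 2 G) := inferInstance
  obtain ⟨R, _, _, _, ρ, β, hρ, -, -⟩ := exists_rep_root hG
  have hu : CfsgLib.Frob.UniqSub 2 (P : Subgroup G) := (uniqSub_two hρ).sub _
  rcases CfsgLib.Frob.cyclic_or_quaternion_two P.isPGroup' hu with hc | ⟨n, hn⟩
  · exact CfsgLib.HSub.hasNormalPComplement_of_cyclic (fun q hq _ => hq.two_le) P hc
  · rcases CfsgLib.QuatSection.main P n hn with h | ⟨H, K, hK, ⟨e⟩⟩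
    · exact h
    exfalso
    refine h3 ?_
    have h1 : 3 ∣ Nat.card (H ⧸ K.subgroupOf H) := by
      rw [Nat.card_congr e.toEquiv]
      have : Nat.card CfsgLib.QuatSection.SL23 = 24 := by
        rw [← Nat.card_congr (Equiv.ofBijective _ CfsgLib.QuatSection.slMap_bijective), Nat.card_prod,
          Nat.card_eq_fintype_card, QuaternionGroup.card, Nat.card_zmod]
      rw [this]; norm_num
    exact (h1.trans (Subgroup.card_quotient_dvd_card _)).trans (Subgroup.card_subgroup_dvd_card H)

theorem solvable_of_quotient {H : Subgroup G} [H.Normal] (hH : Group.IsSolvable H)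
    (hq : Group.IsSolvable (G ⧸ H)) : Group.IsSolvable G :=
  (Group.isSolvable_iff_subgroup_quotient H).mpr ⟨hH, hq⟩

theorem three_eq_top_of_minimal (hG : HasFunctional G) (hns : ¬ Group.IsSolvable G)
    (hmin : ∀ H : Subgroup G, H ≠ ⊤ → Group.IsSolvable H) : three G = ⊤ := by
  classical
  have hperf : commutator G = ⊤ := by
    by_contra hc
    exact hns (solvable_of_quotient (hmin _ hc) (Group.isSolvable_of_comm
      (fun a b => (inferInstance : CommGroup (Abelianization G)).mul_comm a b)))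
  haveI : Fact (Nat.Prime 3) := ⟨Nat.prime_three⟩
  by_contra hne
  have h3 : 3 ∣ Nat.card G := by
    by_contra h; exact hns (no_three_solvable hG h)
  obtain ⟨u₀, hu₀⟩ := exists_prime_orderOf_dvd_card' (G := G) 3 h3
  obtain ⟨P⟩ : Nonempty (Sylow 3 (three G)) := inferInstance
  obtain ⟨S, hS⟩ := (P.isPGroup'.map (three G).subtype).exists_le_sylow
  have hScyc := sylow_odd_cyclic hG (by norm_num) S
  have hu3 : u₀ ∈ three G := Subgroup.subset_closure hu₀
  obtain ⟨g₀, hg₀⟩ : ∃ g₀ : three G, orderOf g₀ = 3 := ⟨⟨u₀, hu3⟩, by rw [Subgroup.orderOf_mk, hu₀]⟩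
  obtain ⟨Q, hQ⟩ := (IsPGroup.of_card (n := 1) (by rw [Nat.card_zpowers, hg₀, pow_one]) :
    IsPGroup 3 (Subgroup.zpowers g₀)).exists_le_sylow
  obtain ⟨g, hg⟩ := MulAction.exists_smul_eq (three G) Q P
  obtain ⟨u, hu⟩ : ∃ u, u = ((MulAut.conj g g₀ : three G) : G) := ⟨_, rfl⟩
  have huo : orderOf u = 3 := by rw [hu, Subgroup.orderOf_coe, MulEquiv.orderOf_eq, hg₀]
  obtain ⟨P', hP'⟩ : ∃ P', P' = (P : Subgroup (three G)).map (three G).subtype := ⟨_, rfl⟩
  have huP : u ∈ P' := by
    rw [hu, hP']
    refine Subgroup.mem_map_of_mem (three G).subtype (?_ : MulAut.conj g g₀ ∈ (P : Subgroup (three G)))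
    rw [← hg]
    exact Subgroup.smul_mem_pointwise_smul _ _ _ (hQ (Subgroup.mem_zpowers g₀))
  haveI : IsCyclic P' := by
    haveI := hScyc
    exact isCyclic_of_injective (Subgroup.inclusion (hP' ▸ hS)) (Subgroup.inclusion_injective _)
  -- the normaliser of this Sylow subgroup is everything
  have hfr : Subgroup.normalizer (P' : Set G) ⊔ three G = ⊤ := hP' ▸ Sylow.normalizer_sup_eq_top P
  have hnorm : Subgroup.normalizer (P' : Set G) = ⊤ := by
    by_contra hN
    refine hns (solvable_of_quotient (hmin _ hne) ?_)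
    haveI := hmin _ hN
    refine Group.isSolvable_of_surjective (f := (QuotientGroup.mk' (three G)).comp
      (Subgroup.normalizer (P' : Set G)).subtype) fun q => ?_
    obtain ⟨x, rfl⟩ := QuotientGroup.mk_surjective q
    obtain ⟨y, hy, z, hz, rfl⟩ := Subgroup.mem_sup_of_normal_right.mp (hfr.ge (Subgroup.mem_top x))
    refine ⟨⟨y, hy⟩, ?_⟩
    show ((y : G) : G ⧸ three G) = ((y * z : G) : G ⧸ three G)
    rw [QuotientGroup.eq, inv_mul_cancel_left]; exact hz
  haveI hP'n : P'.Normal := Subgroup.normalizer_eq_top_iff.mp hnorm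
  -- so it is central
  have hcentP : P' ≤ Subgroup.center G := by
    letI : CommGroup (MulAut P') :=
      { (inferInstance : Group (MulAut P')) with
        mul_comm := fun a b => (IsCyclic.mulAutMulEquiv P').injective (by rw [map_mul, map_mul, mul_comm]) }
    have h1 : commutator G ≤ (MulAut.conjNormal (H := P')).ker := Abelianization.commutator_subset_ker _
    rw [hperf] at h1
    intro x hx
    rw [Subgroup.mem_center_iff]
    intro y
    have h2 := congrArg Subtype.val (DFunLike.congr_fun (MonoidHom.mem_ker.mp (h1 (Subgroup.mem_top y)))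
      (⟨x, hx⟩ : P'))
    rw [MulAut.conjNormal_apply] at h2
    exact mul_inv_eq_iff_eq_mul.mp h2
  have hucent := hcentP huP
  -- transfer to a Sylow subgroup
  obtain ⟨T, hT⟩ := (IsPGroup.of_card (n := 1) (by rw [Nat.card_zpowers, huo, pow_one]) :
    IsPGroup 3 (Subgroup.zpowers u)).exists_le_sylow
  haveI := sylow_odd_cyclic hG (by norm_num) T
  letI : CommGroup (T : Subgroup G) := IsCyclic.commGroup
  have key : ∀ (k : ℕ) (g₀ : G), g₀⁻¹ * u ^ k * g₀ ∈ (T : Subgroup G) → g₀⁻¹ * u ^ k * g₀ = u ^ k := fun k g₀ _ => by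
    rw [Subgroup.mem_center_iff.mp (pow_mem hucent k) g₀⁻¹, inv_mul_cancel_right]
  have h1 : MonoidHom.transfer (MonoidHom.id (T : Subgroup G)) u = 1 := by
    have := Abelianization.commutator_subset_ker (MonoidHom.transfer (MonoidHom.id (T : Subgroup G)))
    exact MonoidHom.mem_ker.mp (this (hperf.symm ▸ Subgroup.mem_top u))
  rw [MonoidHom.transfer_eq_pow _ u key] at h1
  have h2 : u ^ (T : Subgroup G).index = 1 := congrArg Subtype.val h1
  exact T.not_dvd_index (huo.symm.dvd.trans (orderOf_dvd_of_pow_eq_one h2))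

theorem three_not_solvable (hG : HasFunctional G) (hns : ¬ Group.IsSolvable G) : ¬ Group.IsSolvable (three G) := by
  classical
  obtain ⟨L, hL, hLmin⟩ : ∃ L : Subgroup G, ¬ Group.IsSolvable L ∧
      ∀ H : Subgroup G, Nat.card H < Nat.card L → Group.IsSolvable H := by
    have hne : ∃ n, ∃ L : Subgroup G, ¬ Group.IsSolvable L ∧ Nat.card L = n := ⟨_, ⊤, fun h =>
      hns (Group.isSolvable_of_surjective (f := Subgroup.topEquiv.toMonoidHom) fun x => ⟨⟨x, Subgroup.mem_top x⟩, rfl⟩), rfl⟩
    obtain ⟨L, hL, hcard⟩ := Nat.find_spec hne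
    refine ⟨L, hL, fun H hH => ?_⟩
    by_contra h
    exact Nat.find_min hne (hcard ▸ hH) ⟨H, h, rfl⟩
  have h1 := three_eq_top_of_minimal (hG.subgroup L) hL fun H hH => by
    haveI := hLmin (H.map L.subtype) (by
      rw [Subgroup.card_map_of_injective L.subtype_injective]
      exact lt_of_le_of_ne (Subgroup.card_le_card_group H) fun e => hH (Subgroup.eq_top_of_card_eq H e))
    exact Group.isSolvable_of_isSolvable_injective
      (f := (H.equivMapOfInjective L.subtype L.subtype_injective).toMonoidHom)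
      (MulEquiv.injective _)
  have hle : L ≤ three G := by
    intro x hx
    have hx' : (⟨x, hx⟩ : L) ∈ three L := h1.symm ▸ Subgroup.mem_top _
    have : three L ≤ (three G).comap L.subtype := (Subgroup.closure_le _).mpr fun t ht =>
      Subgroup.subset_closure ((Subgroup.orderOf_coe t).trans ht)
    exact this hx'
  intro h
  exact hL (Group.isSolvable_of_isSolvable_injective (Subgroup.inclusion_injective hle))

end CfsgLib.ZasFC
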