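import Mathlib
import Cfsg.Agent.Lib.ZassenhausFC.Structure
import Cfsg.Agent.Lib.ZassenhausFC.OfComplement

/-!
Zassenhaus: a non-solvable fixed-point-free group has a normal subgroup of index at most two of the form
`SL(2,5) × M`.
-/

set_option autoImplicit false
set_option linter.unusedSimpArgs false
set_option linter.unusedSectionVars false

namespace CfsgLib.ZasFC

universe u v

section central

variable {R : Type v} [Ring R] [Algebra ℚ R] [Nontrivial R] {i j k β : R}
variable {G : Type u} [Group G] [Finite G] {ρ : G →* R}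

/-- An element is integral over the model: a multiple of it is `phi r + vect U`. -/
def InB (i j k β : R) (X : R) : Prop :=
  ∃ (n : ℤ) (r : ℤ√5) (U : V3), n ≠ 0 ∧ (n : ℚ) • X = phi β r + vect i j k β U

theorem InB.one : InB i j k β (1 : R) :=
  ⟨1, ((1 : ℤ) : ℤ√5), 0, one_ne_zero, by rw [phi_intCast, vect_zero, add_zero]⟩

theorem InB.mul (F : Frame i j k β) {X Y : R} (hX : InB i j k β X) (hY : InB i j k β Y) : InB i j k β (X * Y) := by
  obtain ⟨n, r, U, hn, e⟩ := hX
  obtain ⟨m, s, W, hm, e'⟩ := hY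
  refine ⟨4 * n * m, ((4 : ℤ) : ℤ√5) * (r * s) - dot U W,
    scl ((4 : ℤ) : ℤ√5) (scl r W + scl s U) + scl ((2 : ℤ) : ℤ√5) (crs U W), by positivity, ?_⟩
  calc ((4 * n * m : ℤ) : ℚ) • (X * Y) = (4 : ℚ) • (((n : ℚ) • X) * ((m : ℚ) • Y)) := by
        rw [smul_mul_smul_comm, smul_smul]; push_cast; ring_nf
    _ = _ := by
        rw [e, e', vect_add, vect_scl_int F, vect_scl_int F, vect_add, vect_scl F, vect_scl F, phi_sub, phi_mul F,
          phi_intCast, phi_mul F, smul_one_mul, mul_add, add_mul, add_mul, vect_comm F, vect_mul F]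
        push_cast
        module

theorem inB_three (F : Frame i j k β) (hρ : IsRep ρ) {a : Fin 10 → G}
    (ha : ∀ m, orderOf (a m) = 3 ∧ xr ρ (a m) = vect i j k β (ax m))
    (hall : ∀ t, orderOf t = 3 → ∃ m, t = a m ∨ t = (a m)⁻¹) {g : G} (hg : g ∈ three G) :
    InB i j k β (ρ g) := by
  have hpow : ∀ {x : G}, InB i j k β (ρ x) → ∀ e : ℕ, InB i j k β (ρ (x ^ e)) := by
    intro x hx e
    induction e with
    | zero => rw [pow_zero, map_one]; exact InB.one
    | succ e ih => rw [pow_succ, map_mul]; exact ih.mul F hx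
  induction hg using Subgroup.closure_induction with
  | mem t ht =>
    obtain ⟨m, h⟩ := hall t ht
    have h1 : InB i j k β (ρ (a m)) := ⟨2, ((-1 : ℤ) : ℤ√5), ax m, two_ne_zero, by
      rw [phi_intCast, ← (ha m).2, xr, two_mul_smul]; push_cast; module⟩
    rcases h with rfl | rfl
    · exact h1
    · rw [show (a m)⁻¹ = a m ^ 2 from inv_eq_of_mul_eq_one_right (by
        rw [← pow_succ', show 2 + 1 = orderOf (a m) from (ha m).1.symm, pow_orderOf_eq_one])]
      exact hpow h1 2
  | one => rw [map_one]; exact InB.one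
  | mul x y _ _ hx hy => rw [map_mul]; exact hx.mul F hy
  | inv x _ hx =>
    rw [show x⁻¹ = x ^ (orderOf x - 1) from inv_eq_of_mul_eq_one_right (by
      rw [← pow_succ', Nat.sub_add_cancel (orderOf_pos x), pow_orderOf_eq_one])]
    exact hpow hx _

theorem toReal_pow_eq {r : ℤ√5} {n : ℤ} {N : ℕ} (hN : N ≠ 0) (h : r ^ N = ((n ^ N : ℤ) : ℤ√5)) :
    r.im = 0 ∧ (r.re = n ∨ r.re = -n) := by
  have h5 : (0 : ℤ) ≤ 5 := by norm_num
  have hst : (star r) ^ N = ((n ^ N : ℤ) : ℤ√5) := by rw [← star_pow, h]; ext <;> simp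
  have a := congrArg (fun x => |Zsqrtd.toReal h5 x|) h
  have b := congrArg (fun x => |Zsqrtd.toReal h5 x|) hst
  simp only [map_pow, map_intCast, abs_pow, Int.cast_pow] at a b
  have a' := (pow_left_inj₀ (abs_nonneg _) (abs_nonneg _) hN).mp a
  have b' := (pow_left_inj₀ (abs_nonneg _) (abs_nonneg _) hN).mp b
  have e1 : ∀ x : ℤ√5, Zsqrtd.toReal h5 x = (x.re : ℝ) + (x.im : ℝ) * Real.sqrt ((5 : ℤ) : ℝ) := fun x => rfl
  rw [e1] at a' b'
  simp only [Zsqrtd.re_star, Zsqrtd.im_star, Int.cast_neg, neg_mul] at b'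
  have hsq : Real.sqrt ((5 : ℤ) : ℝ) * Real.sqrt ((5 : ℤ) : ℝ) = 5 := by
    rw [Real.mul_self_sqrt (by norm_num)]; norm_num
  have him : r.im = 0 := by
    have e := sq_eq_sq_iff_abs_eq_abs _ _ |>.mpr a'
    have e' := sq_eq_sq_iff_abs_eq_abs _ _ |>.mpr b'
    have h0 : (r.re : ℝ) * ((r.im : ℝ) * Real.sqrt ((5 : ℤ) : ℝ)) = 0 := by nlinarith
    by_contra hne
    have hre : r.re = 0 := by
      rcases mul_eq_zero.mp h0 with h0 | h0
      · exact_mod_cast h0
      · rcases mul_eq_zero.mp h0 with h0 | h0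
        · exact absurd (by exact_mod_cast h0) hne
        · rw [h0] at hsq; norm_num at hsq
    rw [hre, Int.cast_zero, zero_add] at e
    have e5 : (5 : ℝ) * ((r.im : ℝ) * r.im) = (n : ℝ) * n := by
      rw [pow_two, pow_two] at e; rw [← hsq, ← e]; ring
    have e6 : (5 : ℤ) * (r.im * r.im) = n * n := by exact_mod_cast e5
    refine sq_ne_of_not_square not_square_five ((n : ℚ) / r.im) ?_
    have hq : (r.im : ℚ) ≠ 0 := by exact_mod_cast hne
    field_simp
    exact_mod_cast (by rw [pow_two, pow_two, mul_comm (r.im * r.im), e6] : (n : ℤ) ^ 2 = r.im ^ 2 * (5 : ℤ))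
  refine ⟨him, ?_⟩
  rw [him, Int.cast_zero, zero_mul, add_zero, abs_eq_abs] at a'
  exact_mod_cast a'

theorem central_eq (F : Frame i j k β) (hρ : IsRep ρ) {a : Fin 10 → G}
    (ha : ∀ m, orderOf (a m) = 3 ∧ xr ρ (a m) = vect i j k β (ax m))
    (hall : ∀ t, orderOf t = 3 → ∃ m, t = a m ∨ t = (a m)⁻¹) {g : G} (hg : g ∈ three G)
    (hgc : g ∈ Subgroup.centralizer ((three G : Subgroup G) : Set G)) : g = 1 ∨ ρ g = -1 := by
  obtain ⟨n, r, U, hn, e⟩ := inB_three F hρ ha hall hg
  have hU : U = 0 := by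
    have hz : ∀ m, crs U (ax m) = 0 := fun m => by
      refine vect_eq_zero F ?_
      have h1 : ρ g * vect i j k β (ax m) = vect i j k β (ax m) * ρ g := by
        have hc := congrArg ρ (Subgroup.mem_centralizer_iff.mp hgc (a m) (Subgroup.subset_closure (ha m).1))
        rw [map_mul, map_mul] at hc
        simp only [← (ha m).2, xr, two_mul, mul_add, add_mul, mul_one, one_mul, hc]
      have h2 : ((n : ℚ) • ρ g) * vect i j k β (ax m) = vect i j k β (ax m) * ((n : ℚ) • ρ g) := by
        rw [smul_mul_assoc, h1, mul_smul_comm]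
      rw [e, add_mul, mul_add, vect_comm F, add_right_inj] at h2
      rw [← comm_vect F, h2, sub_self]
    have key : ∀ U : V3, crs U (ax 0) + crs U (ax 1) = 0 → crs U (ax 0) + crs U (ax 2) = 0 → U = 0 := by
      intro U h0 h1
      obtain ⟨a, b, c⟩ := U
      simp only [crs, ax, Matrix.cons_val_zero, Matrix.cons_val_one, Matrix.cons_val, Prod.ext_iff, Prod.fst_add,
        Prod.snd_add, Prod.fst_zero, Prod.snd_zero, Zsqrtd.ext_iff, Zsqrtd.re_mul, Zsqrtd.im_mul, Zsqrtd.re_sub,
        Zsqrtd.im_sub, Zsqrtd.re_add, Zsqrtd.im_add, Zsqrtd.re_zero, Zsqrtd.im_zero] at h0 h1 ⊢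
      omega
    exact key U (by rw [hz, hz, add_zero]) (by rw [hz, hz, add_zero])
  rw [hU, vect_zero, add_zero] at e
  have hp : ∀ m : ℕ, phi β (r ^ m) = ((n : ℚ) ^ m) • ρ g ^ m := by
    intro m
    induction m with
    | zero => rw [pow_zero, pow_zero, pow_zero, one_smul, ← Int.cast_one (R := ℤ√5), phi_intCast, Int.cast_one, one_smul]
    | succ m ih => rw [pow_succ, phi_mul F, ih, ← e, smul_mul_smul_comm, ← pow_succ, ← pow_succ]
  have h1 := hp (orderOf g)
  rw [← map_pow, pow_orderOf_eq_one, map_one,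
    show (n : ℚ) ^ orderOf g • (1 : R) = phi β ((n ^ orderOf g : ℤ) : ℤ√5) by
      rw [phi_intCast]; push_cast; rfl] at h1
  obtain ⟨hi, hr⟩ := toReal_pow_eq (orderOf_pos g).ne' (phi_injective F h1)
  have hnq : (n : ℚ) ≠ 0 := by exact_mod_cast hn
  rcases hr with hr | hr
  · left
    refine rho_inj hρ ?_
    have hre : r = (n : ℤ√5) := Zsqrtd.ext (by simpa using hr) (by simpa using hi)
    rw [hre, phi_intCast] at e
    rw [map_one]
    exact smul_right_injective R hnq e
  · right
    have hre : r = ((-n : ℤ) : ℤ√5) := Zsqrtd.ext (by simpa using hr) (by simpa using hi)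
    rw [hre, phi_intCast, Int.cast_neg, neg_smul, ← smul_neg] at e
    exact smul_right_injective R hnq e

end central

/-- The structure of a non-solvable fixed-point-free group. -/
theorem main {G : Type u} [Group G] [Finite G] (hG : HasFunctional G) (hns : ¬ Group.IsSolvable G) :
    ∃ (f : G →* Equiv.Perm (Fin 5)) (M : Subgroup G),
      f.ker = Subgroup.centralizer ((three G : Subgroup G) : Set G) ∧
      (three G).map f = alternatingGroup (Fin 5) ∧
      Nonempty (three G ≃* Matrix.SpecialLinearGroup (Fin 2) (ZMod 5)) ∧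
      M.Normal ∧ M ≤ f.ker ∧ (Nat.card M).Coprime 30 ∧ IsZGroup M ∧
      three G ⊔ M = (alternatingGroup (Fin 5)).comap f ∧ three G ⊓ M = ⊥ := by
  classical
  haveI : Fact (Nat.Prime 2) := ⟨Nat.prime_two⟩
  obtain ⟨R, _, _, _, ρ, β₀, hρ, hb₀, hβ₀⟩ := exists_rep_root hG
  have hns3 := three_not_solvable hG hns
  obtain ⟨a₀, b₀, ha₀, hb₀', hbad⟩ : ∃ a b : G, orderOf a = 3 ∧ orderOf b = 3 ∧ orderOf (a * b) = 10 := by
    by_contra h
    push Not at h
    exact hns3 (three_solvable_of_no_bad hρ hb₀ hβ₀ h)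
  obtain ⟨f, i, j, k, β, a, F, ha, hall, hker⟩ := exists_quartet_action hρ ha₀ hb₀' hbad
  have hcent : ∀ g ∈ three G, g ∈ f.ker → g = 1 ∨ ρ g = -1 := fun g hg hgk =>
    central_eq F hρ ha hall hg (hker ▸ hgk)
  have hm1 : (-1 : R) ≠ 1 := fun e => by
    have : (2 : ℚ) • (1 : R) = 0 := by
      rw [two_smul]; nth_rewrite 1 [← e]; exact neg_add_cancel 1
    exact one_ne_zero ((smul_eq_zero.mp this).resolve_left (by norm_num))
  have hord2 : ∀ g ∈ three G, g ∈ f.ker → orderOf g ∣ 2 := fun g hg hgk => by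
    refine orderOf_dvd_of_pow_eq_one ?_
    rcases hcent g hg hgk with rfl | h
    · exact one_pow 2
    · exact rho_inj hρ (by rw [map_pow, h, neg_one_sq, map_one])
  -- an element of order four
  have hmem : ∀ m, a m ∈ three G := fun m => Subgroup.subset_closure (ha m).1
  have hd : dot (ax 0) (ax 1) = -4 := by decide +kernel
  have hq4 : orderOf (a 0 * (a 1)⁻¹) = 4 := by
    have h1 : ac (xr ρ (a 0)) (xr ρ (a 1)⁻¹) = (-2 : ℚ) • (1 : R) := by
      rw [xr_inv hρ (ha 1).1, (ha 0).2, (ha 1).2, ← vect_neg, ac_vect F,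
        show dot (ax 0) (-ax 1) = 4 by decide +kernel, phi_ofNat, smul_smul]
      norm_num
    rcases ac_table hρ (ha 0).1 ((orderOf_inv _).trans (ha 1).1) with ⟨-, h⟩ | ⟨-, h⟩ | ⟨h, -⟩ | ⟨-, h⟩ | ⟨-, h⟩
    · rw [h, xr_inv hρ (ha 0).1, show ac (xr ρ (a 0)) (-xr ρ (a 0)) = -ac (xr ρ (a 0)) (xr ρ (a 0)) by
        rw [ac, ac]; noncomm_ring, ac, xr_sq hρ (ha 0).1, ← add_smul, ← neg_smul] at h1
      have := scalar_inj h1; norm_num at this
    · rw [h, ac, xr_sq hρ (ha 0).1, ← add_smul] at h1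
      have := scalar_inj h1; norm_num at this
    · exact h
    · rw [h1] at h; have := scalar_inj h; norm_num at this
    · rw [h1, smul_mul_smul_comm, mul_one] at h; have := scalar_inj h; norm_num at this
  obtain ⟨q, hq⟩ : ∃ q, q = a 0 * (a 1)⁻¹ := ⟨_, rfl⟩
  rw [← hq] at hq4
  have hq3 : q ∈ three G := hq ▸ mul_mem (hmem 0) (inv_mem (hmem 1))
  obtain ⟨z, hz⟩ : ∃ z, z = q ^ 2 := ⟨_, rfl⟩
  have hzo : orderOf z = 2 := by rw [hz, orderOf_pow_of_dvd two_ne_zero (by omega), hq4]
  have hz3 : z ∈ three G := hz ▸ pow_mem hq3 2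
  have hzR : ρ z = -1 := rho_involution hρ hzo
  have hzk : z ∈ f.ker := by
    rw [hker, Subgroup.mem_centralizer_iff]
    exact fun n _ => rho_inj hρ (by rw [map_mul, map_mul, hzR, mul_neg_one, neg_one_mul])
  have hcent' : ∀ g ∈ three G, g ∈ f.ker → g = 1 ∨ g = z := fun g hg hgk =>
    (hcent g hg hgk).imp_right fun h => rho_inj hρ (h.trans hzR.symm)
  -- the image
  have hf1 : ∀ t, orderOf t = 3 → f t ≠ 1 := fun t ht e => by
    have := hord2 t (Subgroup.subset_closure ht) (MonoidHom.mem_ker.mpr e)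
    rw [ht] at this; norm_num at this
  have hf3 : ∀ t, orderOf t = 3 → f t * f t * f t = 1 := fun t ht => by
    rw [← map_mul, ← map_mul, ← pow_two, ← pow_succ, show 2 + 1 = orderOf t from ht.symm, pow_orderOf_eq_one, map_one]
  have hfinj : ∀ s t, orderOf s = 3 → orderOf t = 3 → f s = f t → s = t := fun s t hs ht e => by
    have h1 : s⁻¹ * t ∈ f.ker := by rw [MonoidHom.mem_ker, map_mul, map_inv, e, inv_mul_cancel]
    rcases hcent' _ (mul_mem (inv_mem (Subgroup.subset_closure hs)) (Subgroup.subset_closure ht)) h1 with h | h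
    · exact inv_mul_eq_one.mp h
    exfalso
    have e2 : ρ t = -ρ s := by rw [show t = s * z by rw [← h, mul_inv_cancel_left], map_mul, hzR, mul_neg_one]
    have e3 := congrArg (· ^ 3) e2
    simp only [← map_pow, Odd.neg_pow (by decide : Odd 3)] at e3
    rw [← hs, pow_orderOf_eq_one, hs, ← ht, pow_orderOf_eq_one, map_one] at e3
    exact hm1 e3.symm
  obtain ⟨emb, hemb⟩ : ∃ emb : Fin 10 × Bool → G, emb = fun p => if p.2 then a p.1 else (a p.1)⁻¹ := ⟨_, rfl⟩
  have hemb3 : ∀ p, orderOf (emb p) = 3 := fun p => by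
    rw [hemb]; dsimp only; split
    · exact (ha p.1).1
    · rw [orderOf_inv]; exact (ha p.1).1
  have hemb_inj : Function.Injective emb := by
    have hx : ∀ p, xr ρ (emb p) = if p.2 then vect i j k β (ax p.1) else -vect i j k β (ax p.1) := fun p => by
      rw [hemb]; dsimp only; split
      · exact (ha p.1).2
      · rw [xr_inv hρ (ha p.1).1, (ha p.1).2]
    rintro ⟨m, b⟩ ⟨m', b'⟩ e
    have e' := congrArg (xr ρ) e
    rw [hx, hx] at e'
    have hm : m = m' := by
      refine vect_axes_eq F ?_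
      cases b <;> cases b' <;> simp at e'
      · exact Or.inl e'
      · exact Or.inr (by rw [← e', neg_neg])
      · exact Or.inr e'
      · exact Or.inl e'
    subst hm
    by_contra hne
    have hb : b' = !b := by cases b <;> cases b' <;> simp_all
    subst hb
    rw [hemb] at e
    cases b <;> simp at e
    all_goals
      have h2 : (a m) ^ 2 = 1 := by rw [pow_two, mul_eq_one_iff_eq_inv]; first | exact e | exact e.symm
      have h3 := orderOf_dvd_of_pow_eq_one h2
      rw [(ha m).1] at h3; norm_num at h3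
  have himage : Finset.univ.image (fun p => f (emb p)) =
      (Finset.univ.filter fun σ : Equiv.Perm (Fin 5) => σ * σ * σ = 1 ∧ σ ≠ 1) := by
    refine Finset.eq_of_subset_of_card_le (fun σ hσ => ?_) ?_
    · obtain ⟨p, -, rfl⟩ := Finset.mem_image.mp hσ
      exact Finset.mem_filter.mpr ⟨Finset.mem_univ _, hf3 _ (hemb3 p), hf1 _ (hemb3 p)⟩
    · rw [perm_five_cube_card, Finset.card_image_of_injective _
        (fun p p' e => hemb_inj (hfinj _ _ (hemb3 p) (hemb3 p') e))]
      simp
  have hmap : (three G).map f = alternatingGroup (Fin 5) := by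
    refine le_antisymm ?_ ?_
    · rw [three, MonoidHom.map_closure, Subgroup.closure_le]
      rintro _ ⟨t, ht, rfl⟩
      rw [SetLike.mem_coe, Equiv.Perm.mem_alternatingGroup]
      have h := congrArg Equiv.Perm.sign (hf3 t ht)
      rw [map_mul, map_mul, map_one] at h
      rcases Int.units_eq_one_or (Equiv.Perm.sign (f t)) with e | e
      · exact e
      · rw [e] at h; exact absurd h (by decide)
    · rw [← Equiv.Perm.closure_three_cycles_eq_alternating, Subgroup.closure_le]
      intro σ hσ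
      have ho : orderOf σ = 3 := Equiv.Perm.IsThreeCycle.orderOf hσ
      have hmemσ : σ ∈ Finset.univ.filter fun σ : Equiv.Perm (Fin 5) => σ * σ * σ = 1 ∧ σ ≠ 1 := by
        refine Finset.mem_filter.mpr ⟨Finset.mem_univ _, ?_, fun e => ?_⟩
        · rw [← pow_two, ← pow_succ, show 2 + 1 = orderOf σ from ho.symm, pow_orderOf_eq_one]
        · rw [e, orderOf_one] at ho; norm_num at ho
      rw [← himage, Finset.mem_image] at hmemσ
      obtain ⟨p, -, rfl⟩ := hmemσ
      exact ⟨emb p, Subgroup.subset_closure (hemb3 p), rfl⟩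
  -- the order
  obtain ⟨f', hf'⟩ : ∃ f' : three G →* Equiv.Perm (Fin 5), f' = f.comp (three G).subtype := ⟨_, rfl⟩
  have hrange : f'.range = alternatingGroup (Fin 5) := by
    rw [hf', MonoidHom.range_comp, Subgroup.range_subtype, hmap]
  have hker' : f'.ker = Subgroup.zpowers (⟨z, hz3⟩ : three G) := by
    refine le_antisymm (fun g hg => ?_) (Subgroup.zpowers_le.mpr ?_)
    · rcases hcent' g g.2 (by rw [hf'] at hg; exact hg) with h | h
      · rw [show g = 1 from Subtype.ext h]; exact one_mem _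
      · rw [show g = ⟨z, hz3⟩ from Subtype.ext h]; exact Subgroup.mem_zpowers _
    · rw [hf']; exact hzk
  have hcard : Nat.card (three G) = 120 := by
    have h1 := Subgroup.card_mul_index f'.ker
    rw [Subgroup.index_ker, hrange, nat_card_alternatingGroup, hker', Nat.card_zpowers, Subgroup.orderOf_mk, hzo,
      Nat.card_eq_fintype_card, Fintype.card_fin] at h1
    rw [← h1]; rfl
  have hQ8 : ∀ P : Sylow 2 (three G), Nonempty ((P : Subgroup (three G)) ≃* QuaternionGroup 2) := by
    intro P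
    have hP8 : Nat.card (P : Subgroup (three G)) = 8 := by
      rw [Sylow.card_eq_multiplicity, hcard,
        show Nat.factorization 120 2 = 3 by
          rw [show (120 : ℕ) = 2 ^ 3 * 15 from rfl, Nat.factorization_mul (by norm_num) (by norm_num),
            Finsupp.add_apply, Nat.prime_two.factorization_pow,
            Nat.factorization_eq_zero_of_not_dvd (by norm_num : ¬ 2 ∣ 15)]
          simp]
      rfl
    have hu : CfsgLib.Frob.UniqSub 2 (P : Subgroup (three G)) := ((uniqSub_two hρ).sub _).sub _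
    rcases CfsgLib.Frob.cyclic_or_quaternion_two P.isPGroup' hu with hc | ⟨n, ⟨e⟩⟩
    · exfalso
      obtain ⟨s, hs⟩ := IsCyclic.exists_ofOrder_eq_natCard (α := (P : Subgroup (three G)))
      rw [hP8] at hs
      obtain ⟨w, hw⟩ : ∃ w : G, w = ((s : three G) : G) := ⟨_, rfl⟩
      have hwo : orderOf w = 8 := by rw [hw, Subgroup.orderOf_coe, Subgroup.orderOf_coe, hs]
      have hw3 : w ∈ three G := hw ▸ (s : three G).2
      have hsgn : Equiv.Perm.sign (f w) = 1 :=
        Equiv.Perm.mem_alternatingGroup.mp (hmap ▸ Subgroup.mem_map_of_mem f hw3)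
      have h4 : f w * f w * (f w * f w) = 1 := by
        have h8 : f (w ^ 4) = 1 ∨ f (w ^ 4) ≠ 1 := em _
        have hw4 : orderOf (w ^ 4) = 2 := by rw [orderOf_pow_of_dvd (by norm_num) (by omega), hwo]
        rw [← map_mul, ← map_mul, ← pow_two, ← pow_two, ← pow_mul, ← MonoidHom.mem_ker,
          involution_unique hρ hw4 hzo]
        exact hzk
      have h2 := alt_five_no_four _ hsgn h4
      have := hord2 (w ^ 2) (pow_mem hw3 2) (by rw [MonoidHom.mem_ker, pow_two, map_mul, h2])
      rw [orderOf_pow_of_dvd (by norm_num) (by omega), hwo] at this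
      norm_num at this
    · have hn : n = 1 := by
        have h1 := Nat.card_congr e.toEquiv
        rw [hP8, Nat.card_eq_fintype_card, QuaternionGroup.card] at h1
        have : 2 ^ n = 2 ^ 1 := by omega
        exact Nat.pow_right_injective le_rfl this
      subst hn
      exact ⟨e⟩
  obtain ⟨e25⟩ := (Cfsg.Agent.S3378.result).1 (three G) hcard hns3 hQ8
  -- the centraliser
  obtain ⟨C, hC⟩ : ∃ C, C = f.ker := ⟨_, rfl⟩
  have hCcomm : ∀ c ∈ C, ∀ n ∈ three G, Commute c n := fun c hc n hn =>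
    (Subgroup.mem_centralizer_iff.mp (hker ▸ hC ▸ hc) n hn).symm
  have hno : ∀ p : ℕ, p.Prime → p = 3 ∨ p = 5 → ¬ p ∣ Nat.card C := by
    intro p hp hp35 hd
    haveI := Fact.mk hp
    obtain ⟨⟨u, huC⟩, hu⟩ := exists_prime_orderOf_dvd_card' (G := C) p hd
    obtain ⟨⟨v, hv3⟩, hv⟩ := exists_prime_orderOf_dvd_card' (G := three G) p (by
      rw [hcard]; rcases hp35 with rfl | rfl <;> norm_num)
    rw [Subgroup.orderOf_mk] at hu hv
    have hvC : v ∈ f.ker := by
      obtain ⟨e, he⟩ := cyclic_pair hρ hp hu hv (hCcomm u huC v hv3)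
      rw [← he, ← hC]; exact zpow_mem huC e
    have := hord2 v hv3 hvC
    rw [hv] at this
    rcases hp35 with rfl | rfl <;> norm_num at this
  have hno4 : ¬ 4 ∣ Nat.card C := by
    intro hd
    obtain ⟨K, hK⟩ := Sylow.exists_subgroup_card_pow_prime (G := C) 2 (n := 2) hd
    obtain ⟨c, hcK, hc1, hcz⟩ : ∃ c : C, c ∈ K ∧ (c : G) ≠ 1 ∧ (c : G) ≠ z := by
      by_contra h
      push Not at h
      have hsub : (K.map C.subtype : Set G) ⊆ {1, z} := by
        rintro _ ⟨c, hc, rfl⟩
        by_cases h1 : (c : G) = 1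
        · exact Or.inl h1
        · exact Or.inr (h c hc h1)
      have hle := Set.ncard_le_ncard hsub (Set.toFinite _)
      rw [← Nat.card_coe_set_eq, SetLike.coe_sort_coe, Subgroup.card_map_of_injective C.subtype_injective, hK] at hle
      have h2 : ({1, z} : Set G).ncard ≤ 2 := (Set.ncard_insert_le _ _).trans (by simp)
      omega
    have hco : orderOf (c : G) = 4 := by
      have h4 : orderOf (⟨c, hcK⟩ : K) ∣ 2 ^ 2 := hK ▸ orderOf_dvd_natCard _
      rw [← Subgroup.orderOf_coe, ← Subgroup.orderOf_coe] at h4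
      obtain ⟨e, he, heq⟩ := (Nat.dvd_prime_pow Nat.prime_two).mp h4
      simp only at heq
      interval_cases e
      · exact absurd (orderOf_eq_one_iff.mp heq) hc1
      · exact absurd (involution_unique hρ heq hzo) hcz
      · exact heq
    have hc2 : (c : G) ^ 2 = z := involution_unique hρ (by rw [orderOf_pow_of_dvd two_ne_zero (by omega), hco]) hzo
    have hcq : (c : G) * q ∈ three G ∧ True → False := by
      rintro ⟨h, -⟩
      have hc3 : (c : G) ∈ three G := by simpa using mul_mem h (inv_mem hq3)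
      have := hord2 c hc3 (hC ▸ c.2)
      rw [hco] at this; norm_num at this
    have h1 : ((c : G) * q) ^ 2 = 1 := by
      rw [(hCcomm c c.2 q hq3).mul_pow, hc2, ← hz, ← pow_two, show 2 = orderOf z from hzo.symm, pow_orderOf_eq_one]
    have h2 : (c : G) * q = 1 ∨ (c : G) * q = z := by
      rcases (Nat.dvd_prime Nat.prime_two).mp (orderOf_dvd_of_pow_eq_one h1) with h | h
      · exact Or.inl (orderOf_eq_one_iff.mp h)
      · exact Or.inr (involution_unique hρ h hzo)
    rcases h2 with h | h <;> exact hcq ⟨h ▸ (by first | exact one_mem _ | exact hz3), trivial⟩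
  -- the complement of the involution
  obtain ⟨P⟩ : Nonempty (Sylow 2 C) := inferInstance
  have hP2 : Nat.card (P : Subgroup C) = 2 := by
    have h2 : 2 ∣ Nat.card C := hzo ▸ Subgroup.orderOf_dvd_natCard C (hC ▸ hzk)
    rw [Sylow.card_eq_multiplicity]
    have : (Nat.card C).factorization 2 = 1 := by
      refine le_antisymm ?_ ((Nat.prime_two.dvd_iff_one_le_factorization Nat.card_pos.ne').mp h2)
      by_contra h
      exact hno4 ((pow_dvd_pow 2 (by omega : 2 ≤ _)).trans (Nat.ordProj_dvd (Nat.card C) 2))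
    rw [this, pow_one]
  obtain ⟨P', M₀, hM₀, hc⟩ := CfsgLib.HSub.hasNormalPComplement_of_cyclic (fun p hp _ => hp.two_le) P
    (isCyclic_of_prime_card hP2)
  haveI := hM₀
  have hidx : M₀.index = 2 := by
    rw [hc.symm.index_eq_card, Sylow.card_eq_multiplicity, ← Sylow.card_eq_multiplicity P, hP2]
  have hM₀odd : ¬ 2 ∣ Nat.card M₀ := by
    intro hd
    apply hno4
    rw [← M₀.card_mul_index, hidx, show (4 : ℕ) = 2 * 2 from rfl]
    exact mul_dvd_mul_right hd 2
  have hchar : ∀ c : C, Odd (orderOf c) → c ∈ M₀ := by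
    intro c hc
    by_contra h
    have hm := (Nat.odd_iff.mp hc)
    have h1 : c ^ orderOf c ∈ M₀ := by rw [pow_orderOf_eq_one]; exact one_mem _
    obtain ⟨l, hl⟩ := hc
    rw [hl, pow_succ, pow_mul] at h1
    exact h ((M₀.mul_mem_cancel_left (pow_mem (Subgroup.sq_mem_of_index_two hidx c) l)).mp h1)
  obtain ⟨M, hM⟩ : ∃ M, M = M₀.map C.subtype := ⟨_, rfl⟩
  have hMC : M ≤ f.ker := hC ▸ hM ▸ Subgroup.map_subtype_le _
  have hMcard : Nat.card M = Nat.card M₀ := by rw [hM, Subgroup.card_map_of_injective C.subtype_injective]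
  have hMn : M.Normal := by
    refine ⟨fun x hx g => ?_⟩
    rw [hM] at hx ⊢
    obtain ⟨c, hcm, rfl⟩ := hx
    have hgc : g * (c : G) * g⁻¹ ∈ C := hC.ge ((MonoidHom.normal_ker f).conj_mem (c : G) (hC.le c.2) g)
    refine ⟨⟨_, hgc⟩, hchar _ ?_, rfl⟩
    rw [← Subgroup.orderOf_coe]
    show Odd (orderOf (g * (c : G) * g⁻¹))
    rw [← MulAut.conj_apply, MulEquiv.orderOf_eq, Subgroup.orderOf_coe]
    exact Nat.not_even_iff_odd.mp fun he =>
      hM₀odd (he.two_dvd.trans (Subgroup.orderOf_dvd_natCard M₀ hcm))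
  have hcop : (Nat.card M).Coprime 30 := by
    have hd : Nat.card M₀ ∣ Nat.card C := Subgroup.card_subgroup_dvd_card _
    rw [hMcard, show (30 : ℕ) = 2 * (3 * 5) from rfl]
    exact Nat.Coprime.mul_right (Nat.coprime_comm.mp (Nat.prime_two.coprime_iff_not_dvd.mpr hM₀odd))
      (Nat.Coprime.mul_right
        (Nat.coprime_comm.mp (Nat.prime_three.coprime_iff_not_dvd.mpr fun h => hno 3 Nat.prime_three (Or.inl rfl) (h.trans hd)))
        (Nat.coprime_comm.mp ((Nat.prime_five).coprime_iff_not_dvd.mpr fun h =>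
          hno 5 Nat.prime_five (Or.inr rfl) (h.trans hd))))
  have hMZ : IsZGroup M := isZGroup_of_odd (hG.subgroup M) (by
    rw [hMcard]; exact Nat.odd_iff.mpr (Nat.two_dvd_ne_zero.mp hM₀odd))
  have hdisj : three G ⊓ M = ⊥ := by
    rw [Subgroup.eq_bot_iff_forall]
    rintro x ⟨hx3, hxM⟩
    have h2 := hord2 x hx3 (hMC hxM)
    exact orderOf_eq_one_iff.mp (Nat.eq_one_of_dvd_coprimes
      ((Nat.coprime_comm.mp (Nat.prime_two.coprime_iff_not_dvd.mpr (hMcard ▸ hM₀odd))).symm) h2
      (Subgroup.orderOf_dvd_natCard M hxM))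
  have hjoin : three G ⊔ M = (alternatingGroup (Fin 5)).comap f := by
    refine le_antisymm (sup_le (fun x hx => ?_) fun x hx => ?_) fun x hx => ?_
    · rw [Subgroup.mem_comap, ← hmap]; exact Subgroup.mem_map_of_mem f hx
    · rw [Subgroup.mem_comap, MonoidHom.mem_ker.mp (hMC hx)]; exact one_mem _
    rw [Subgroup.mem_comap, ← hmap] at hx
    obtain ⟨n, hn, hnx⟩ := hx
    have hk : n⁻¹ * x ∈ C := by rw [hC, MonoidHom.mem_ker, map_mul, map_inv, ← hnx, inv_mul_cancel]
    rw [show x = n * (n⁻¹ * x) by group]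
    refine Subgroup.mul_mem _ (Subgroup.mem_sup_left hn) ?_
    have hzM : (⟨z, hC ▸ hzk⟩ : C) ∉ M₀ := fun h => hM₀odd (by
      have := Subgroup.orderOf_dvd_natCard M₀ h
      rwa [Subgroup.orderOf_mk, hzo] at this)
    by_cases hx0 : (⟨_, hk⟩ : C) ∈ M₀
    · exact Subgroup.mem_sup_right (hM ▸ ⟨_, hx0, rfl⟩)
    · have h1 : (⟨z, hC ▸ hzk⟩ : C) * ⟨_, hk⟩ ∈ M₀ :=
        (Subgroup.mul_mem_iff_of_index_two hidx).mpr (iff_of_false hzM hx0)
      rw [show n⁻¹ * x = z⁻¹ * (z * (n⁻¹ * x)) by group]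
      exact Subgroup.mul_mem _ (Subgroup.mem_sup_left (inv_mem hz3)) (Subgroup.mem_sup_right (hM ▸ ⟨_, h1, rfl⟩))
  exact ⟨f, M, hker, hmap, ⟨e25⟩, hMn, hMC, hcop, hMZ, hjoin, hdisj⟩

end CfsgLib.ZasFC
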