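import Mathlib

/-!
Non-trivial normal subgroups of the alternating and symmetric groups of degree four and five contain a four-group.
The finite search runs over a short list of three-cycles, which keeps the kernel check small.
-/

set_option autoImplicit false

namespace CfsgLib.ZasFC

/-- A commutator. -/
def cmt {n : ℕ} (g x : Equiv.Perm (Fin n)) : Equiv.Perm (Fin n) := g * (x * g⁻¹ * x⁻¹)

/-- Some commutator with `g` is an involution with a different commuting conjugate. -/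
def FourIn {n : ℕ} (g : Equiv.Perm (Fin n)) : Prop :=
  ∃ x, Equiv.Perm.sign x = 1 ∧ cmt g x ≠ 1 ∧ cmt g x * cmt g x = 1 ∧
    ∃ y, Equiv.Perm.sign y = 1 ∧ y * cmt g x * y⁻¹ ≠ cmt g x ∧
      y * cmt g x * y⁻¹ * cmt g x = cmt g x * (y * cmt g x * y⁻¹)

/-- `FourIn` with both witnesses taken from the list `L`. -/
def FourList {n : ℕ} (L : List (Equiv.Perm (Fin n))) (g : Equiv.Perm (Fin n)) : Prop :=
  ∃ x ∈ L, cmt g x ≠ 1 ∧ cmt g x * cmt g x = 1 ∧
    ∃ y ∈ L, y * cmt g x * y⁻¹ ≠ cmt g x ∧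
      y * cmt g x * y⁻¹ * cmt g x = cmt g x * (y * cmt g x * y⁻¹)

instance {n : ℕ} (L : List (Equiv.Perm (Fin n))) : DecidablePred (FourList L) := fun g => by
  unfold FourList; infer_instance

theorem FourList.fourIn {n : ℕ} {L : List (Equiv.Perm (Fin n))} (hL : ∀ x ∈ L, Equiv.Perm.sign x = 1)
    {g : Equiv.Perm (Fin n)} : FourList L g → FourIn g := by
  rintro ⟨x, hx, h1, h2, y, hy, h3, h4⟩
  exact ⟨x, hL x hx, h1, h2, y, hL y hy, h3, h4⟩

/-- Three-cycles `(i j k)` with `i < j`. -/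
def threeList (n : ℕ) : List (Equiv.Perm (Fin n)) :=
  (List.finRange n).flatMap fun i => ((List.finRange n).filter (i < ·)).flatMap fun j =>
    ((List.finRange n).filter fun k => i < k ∧ j ≠ k).map fun k => Equiv.swap i j * Equiv.swap j k

theorem four_core : ∀ g : Equiv.Perm (Fin 4), g ≠ 1 →
    FourList (threeList 4) g ∨ ∃ x ∈ threeList 4, cmt g x ≠ 1 ∧ FourList (threeList 4) (cmt g x) := by
  decide +kernel

theorem five_core : ∀ g : Equiv.Perm (Fin 5), g ≠ 1 →
    FourList (threeList 5) g ∨ ∃ x ∈ threeList 5, cmt g x ≠ 1 ∧ FourList (threeList 5) (cmt g x) := by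
  decide +kernel

theorem fourIn_four : ∀ g : Equiv.Perm (Fin 4), g ≠ 1 →
    FourIn g ∨ ∃ x, Equiv.Perm.sign x = 1 ∧ cmt g x ≠ 1 ∧ FourIn (cmt g x) := by
  have hL : ∀ x ∈ threeList 4, Equiv.Perm.sign x = 1 := by decide +kernel
  intro g hg
  rcases four_core g hg with h | ⟨x, hx, h1, h⟩
  · exact Or.inl (h.fourIn hL)
  · exact Or.inr ⟨x, hL x hx, h1, h.fourIn hL⟩

theorem fourIn_five : ∀ g : Equiv.Perm (Fin 5), g ≠ 1 →
    FourIn g ∨ ∃ x, Equiv.Perm.sign x = 1 ∧ cmt g x ≠ 1 ∧ FourIn (cmt g x) := by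
  have hL : ∀ x ∈ threeList 5, Equiv.Perm.sign x = 1 := by decide +kernel
  intro g hg
  rcases five_core g hg with h | ⟨x, hx, h1, h⟩
  · exact Or.inl (h.fourIn hL)
  · exact Or.inr ⟨x, hL x hx, h1, h.fourIn hL⟩

end CfsgLib.ZasFC
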