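import Mathlib
import Cfsg.Agent.Lib.ZassenhausFC.Main
import Cfsg.Agent.Lib.ZassenhausFC.PermFacts

/-!
The six types of the quotient of a fixed-point-free group by its unique suitable subgroup with cyclic Sylow subgroups.
-/

set_option autoImplicit false
set_option linter.unusedSimpArgs false
set_option linter.unusedSectionVars false

namespace CfsgLib.ZasFC

universe u

/-- The list of quotients. -/
def HasType {G : Type u} [Group G] (N : Subgroup G) : Prop :=
  N = ⊤ ∨
    (∃ f : G →* DihedralGroup 2, Function.Surjective f ∧ f.ker = N) ∨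
    (∃ f : G →* alternatingGroup (Fin 4), Function.Surjective f ∧ f.ker = N) ∨
    (∃ f : G →* Equiv.Perm (Fin 4), Function.Surjective f ∧ f.ker = N) ∨
    (∃ f : G →* alternatingGroup (Fin 5), Function.Surjective f ∧ f.ker = N) ∨
    (∃ f : G →* Equiv.Perm (Fin 5), Function.Surjective f ∧ f.ker = N)

theorem four_not_cyclic {K : Type*} [Group K] [Finite K] [IsZGroup K] {a b : K} (ha1 : a ≠ 1) (ha : a * a = 1)
    (hb1 : b ≠ 1) (hb : b * b = 1) (hab : b * a = a * b) : a = b := by
  haveI : Fact (Nat.Prime 2) := ⟨Nat.prime_two⟩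
  obtain ⟨V, hV⟩ : ∃ V, V = Subgroup.closure ({a, b} : Set K) := ⟨_, rfl⟩
  have hVp : IsPGroup 2 V := by
    have hcom : ∀ x ∈ V, x * x = 1 ∧ x * a = a * x ∧ x * b = b * x := by
      intro x hx
      rw [hV] at hx
      induction hx using Subgroup.closure_induction with
      | mem x hx =>
        rcases hx with rfl | rfl
        · exact ⟨ha, rfl, hab.symm⟩
        · exact ⟨hb, hab, rfl⟩
      | one => simp
      | mul x y hxV hyV hx hy =>
        have hxy : Commute x y := by
          have : y ∈ Subgroup.centralizer {x} := by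
            refine ((Subgroup.closure_le _).mpr ?_) hyV
            rintro w (rfl | rfl)
            · exact Subgroup.mem_centralizer_singleton_iff.mpr hx.2.1.symm
            · exact Subgroup.mem_centralizer_singleton_iff.mpr hx.2.2.symm
          exact (Subgroup.mem_centralizer_singleton_iff.mp this).symm
        refine ⟨?_, ?_, ?_⟩
        · rw [← pow_two, hxy.mul_pow, pow_two, pow_two, hx.1, hy.1, one_mul]
        · rw [mul_assoc, hy.2.1, ← mul_assoc, hx.2.1, mul_assoc]
        · rw [mul_assoc, hy.2.2, ← mul_assoc, hx.2.2, mul_assoc]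
      | inv x _ hx =>
        have : x⁻¹ = x := inv_eq_of_mul_eq_one_right hx.1
        rw [this]; exact hx
    exact fun x => ⟨1, Subtype.ext (by rw [pow_one, SubgroupClass.coe_pow, pow_two]; exact (hcom x x.2).1)⟩
  obtain ⟨P, hP⟩ := hVp.exists_le_sylow
  haveI : IsCyclic (P : Subgroup K) := inferInstance
  have haP : a ∈ (P : Subgroup K) := hP (hV ▸ Subgroup.subset_closure (Or.inl rfl))
  have hbP : b ∈ (P : Subgroup K) := hP (hV ▸ Subgroup.subset_closure (Or.inr rfl))
  classical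
  haveI := Fintype.ofFinite (P : Subgroup K)
  by_contra hne
  have hcard := IsCyclic.card_pow_eq_one_le (α := (P : Subgroup K)) (n := 2) two_pos
  have h3 : ({1, ⟨a, haP⟩, ⟨b, hbP⟩} : Finset (P : Subgroup K)) ⊆
      Finset.univ.filter fun x : (P : Subgroup K) => x ^ 2 = 1 := by
    intro x hx
    simp only [Finset.mem_insert, Finset.mem_singleton] at hx
    simp only [Finset.mem_filter, Finset.mem_univ, true_and, pow_two]
    rcases hx with rfl | rfl | rfl
    · exact one_mul 1
    · exact Subtype.ext ha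
    · exact Subtype.ext hb
  have h4 := Finset.card_le_card h3
  rw [Finset.card_insert_of_notMem, Finset.card_insert_of_notMem, Finset.card_singleton] at h4
  · omega
  · simp only [Finset.mem_singleton, Subtype.mk.injEq]; exact hne
  · simp only [Finset.mem_insert, Finset.mem_singleton, not_or]
    exact ⟨fun e => ha1 (congrArg Subtype.val e).symm, fun e => hb1 (congrArg Subtype.val e).symm⟩

theorem normal_zgroup_bot {n : ℕ} (hn : ∀ g : Equiv.Perm (Fin n), g ≠ 1 →
      FourIn g ∨ ∃ x, Equiv.Perm.sign x = 1 ∧ cmt g x ≠ 1 ∧ FourIn (cmt g x))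
    {K : Subgroup (Equiv.Perm (Fin n))} (hK : alternatingGroup (Fin n) ≤ K)
    (W : Subgroup K) (hW : W.Normal) [IsZGroup W] : W = ⊥ := by
  have hmem : ∀ x, Equiv.Perm.sign x = 1 → x ∈ K := fun x hx => hK (Equiv.Perm.mem_alternatingGroup.mpr hx)
  have key : ∀ w ∈ W, ¬ FourIn (w : Equiv.Perm (Fin n)) := by
    rintro w hw ⟨x, hx, h1, h2, y, hy, h3, h4⟩
    obtain ⟨a, ha⟩ : ∃ a : K, a = w * (⟨x, hmem x hx⟩ * w⁻¹ * ⟨x, hmem x hx⟩⁻¹) := ⟨_, rfl⟩
    obtain ⟨b, hb⟩ : ∃ b : K, b = ⟨y, hmem y hy⟩ * a * ⟨y, hmem y hy⟩⁻¹ := ⟨_, rfl⟩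
    have haW : a ∈ W := ha ▸ W.mul_mem hw (hW.conj_mem _ (W.inv_mem hw) _)
    have hbW : b ∈ W := hb ▸ hW.conj_mem _ haW _
    have hac : (a : Equiv.Perm (Fin n)) = cmt (w : Equiv.Perm (Fin n)) x := by rw [ha]; rfl
    have hbc : (b : Equiv.Perm (Fin n)) = y * cmt (w : Equiv.Perm (Fin n)) x * y⁻¹ := by rw [hb]; push_cast; rw [hac]
    rw [← hac] at h1 h2
    rw [← hbc, ← hac] at h3 h4
    refine h3 (congrArg (fun z : W => ((z : K) : Equiv.Perm (Fin n)))
      (four_not_cyclic (K := W) (a := ⟨a, haW⟩) (b := ⟨b, hbW⟩) ?_ ?_ ?_ ?_ ?_)).symm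
    · exact fun e => h1 (congrArg (fun z : W => ((z : K) : Equiv.Perm (Fin n))) e)
    · exact Subtype.ext (Subtype.ext h2)
    · intro e
      have e' : b = 1 := congrArg Subtype.val e
      rw [hb, conj_eq_one_iff] at e'
      exact h1 (by rw [e']; rfl)
    · refine Subtype.ext (Subtype.ext ?_)
      show (b : Equiv.Perm (Fin n)) * b = 1
      rw [hbc, ← hac]
      calc y * (a : Equiv.Perm (Fin n)) * y⁻¹ * (y * a * y⁻¹) = y * (a * a) * y⁻¹ := by group
        _ = 1 := by rw [h2]; group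
    · exact Subtype.ext (Subtype.ext h4)
  rw [Subgroup.eq_bot_iff_forall]
  intro w hw
  by_contra hne
  rcases hn (w : Equiv.Perm (Fin n)) (fun e => hne (Subtype.ext e)) with h | ⟨x, hx, -, h⟩
  · exact key w hw h
  · exact key _ (W.mul_mem hw (hW.conj_mem _ (W.inv_mem hw) ⟨x, hmem x hx⟩)) h

variable {G : Type u} [Group G] [Finite G]

/-- A normal subgroup with cyclic Sylow subgroups lies in the kernel of a map onto one of the four large groups. -/
theorem le_of_big {n : ℕ} (hn : ∀ g : Equiv.Perm (Fin n), g ≠ 1 →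
      FourIn g ∨ ∃ x, Equiv.Perm.sign x = 1 ∧ cmt g x ≠ 1 ∧ FourIn (cmt g x))
    (f : G →* Equiv.Perm (Fin n)) (hf : alternatingGroup (Fin n) ≤ f.range) (N : Subgroup G) [N.Normal]
    [IsZGroup N] : N ≤ f.ker := by
  haveI : IsZGroup (N.map f.rangeRestrict) := IsZGroup.of_surjective (f.rangeRestrict.subgroupMap_surjective N)
  have h := normal_zgroup_bot hn hf (N.map f.rangeRestrict)
    (Subgroup.Normal.map inferInstance _ f.rangeRestrict_surjective)
  rw [Subgroup.map_eq_bot_iff, MonoidHom.ker_rangeRestrict] at h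
  exact h

theorem klein_sq : ∀ x : DihedralGroup 2, x * x = 1 := by decide

theorem klein_comm : ∀ x y : DihedralGroup 2, x * y = y * x := by decide

theorem quat_gen {m : ℕ} [NeZero m] (q : QuaternionGroup m) : ∃ e : ℕ, q = QuaternionGroup.a 1 ^ e ∨
    q = QuaternionGroup.xa 0 * QuaternionGroup.a 1 ^ e := by
  cases q with
  | a i => exact ⟨i.val, Or.inl (by rw [QuaternionGroup.a_one_pow, ZMod.natCast_zmod_val])⟩
  | xa i => exact ⟨i.val, Or.inr (by rw [QuaternionGroup.a_one_pow, ZMod.natCast_zmod_val, QuaternionGroup.xa_mul_a,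
      zero_add])⟩

/-- The types with a four-group quotient or more have a non-cyclic Sylow `2`-subgroup. -/
theorem big_or_klein {N : Subgroup G} (h : HasType N) : N = ⊤ ∨
    (∃ f : G →* DihedralGroup 2, Function.Surjective f ∧ f.ker = N) ∨
    (∃ f : G →* Equiv.Perm (Fin 4), alternatingGroup (Fin 4) ≤ f.range ∧ f.ker = N) ∨
    (∃ f : G →* Equiv.Perm (Fin 5), alternatingGroup (Fin 5) ≤ f.range ∧ f.ker = N) := by
  rcases h with h | h | ⟨f, hf, hk⟩ | ⟨f, hf, hk⟩ | ⟨f, hf, hk⟩ | ⟨f, hf, hk⟩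
  · exact Or.inl h
  · exact Or.inr (Or.inl h)
  · refine Or.inr (Or.inr (Or.inl ⟨(alternatingGroup (Fin 4)).subtype.comp f, ?_, ?_⟩))
    · rw [MonoidHom.range_comp, MonoidHom.range_eq_top.mpr hf, ← MonoidHom.range_eq_map, Subgroup.range_subtype]
    · rw [← MonoidHom.comap_ker, Subgroup.ker_subtype, MonoidHom.comap_bot, hk]
  · exact Or.inr (Or.inr (Or.inl ⟨f, (MonoidHom.range_eq_top.mpr hf).symm ▸ le_top, hk⟩))
  · refine Or.inr (Or.inr (Or.inr ⟨(alternatingGroup (Fin 5)).subtype.comp f, ?_, ?_⟩))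
    · rw [MonoidHom.range_comp, MonoidHom.range_eq_top.mpr hf, ← MonoidHom.range_eq_map, Subgroup.range_subtype]
    · rw [← MonoidHom.comap_ker, Subgroup.ker_subtype, MonoidHom.comap_bot, hk]
  · exact Or.inr (Or.inr (Or.inr ⟨f, (MonoidHom.range_eq_top.mpr hf).symm ▸ le_top, hk⟩))

theorem index_klein {N : Subgroup G} (f : G →* DihedralGroup 2) (hf : Function.Surjective f) (hk : f.ker = N) :
    N.index = 4 := by
  rw [← hk, Subgroup.index_ker, MonoidHom.range_eq_top.mpr hf, Subgroup.card_top, Nat.card_eq_fintype_card]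
  rfl

theorem index_big {N : Subgroup G} {n : ℕ} [Nontrivial (Fin n)] (f : G →* Equiv.Perm (Fin n)) (hf : alternatingGroup (Fin n) ≤ f.range)
    (hk : f.ker = N) : n.factorial / 2 ≤ N.index := by
  have h := Nat.le_of_dvd Nat.card_pos (Subgroup.card_dvd_of_le hf)
  rwa [nat_card_alternatingGroup, Nat.card_eq_fintype_card, Fintype.card_fin, ← Subgroup.index_ker, hk] at h

/-- A group with a quotient on the list other than the trivial one is not a `Z`-group. -/
theorem not_isZGroup_of_type {N : Subgroup G} (h : HasType N) (hN : N ≠ ⊤) : ¬ IsZGroup G := by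
  intro hZ
  haveI := hZ
  rcases big_or_klein h with h | ⟨f, hf, -⟩ | ⟨f, hf, -⟩ | ⟨f, hf, -⟩
  · exact hN h
  · haveI := IsZGroup.of_surjective (f := f) hf
    have := four_not_cyclic (a := DihedralGroup.r (1 : ZMod 2)) (b := DihedralGroup.sr (0 : ZMod 2))
      (by decide) (klein_sq _) (by decide) (klein_sq _) (klein_comm _ _)
    exact absurd this (by decide)
  · have h1 := le_of_big fourIn_four f hf ⊤
    have h2 := index_big f hf rfl
    rw [eq_top_iff.mpr h1, Subgroup.index_top] at h2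
    norm_num [Nat.factorial] at h2
  · have h1 := le_of_big fourIn_five f hf ⊤
    have h2 := index_big f hf rfl
    rw [eq_top_iff.mpr h1, Subgroup.index_top] at h2
    norm_num [Nat.factorial] at h2

/-- Uniqueness. -/
theorem type_unique (hG : HasFunctional G) {N₁ N₂ : Subgroup G} [N₁.Normal] [N₂.Normal] [IsZGroup N₁]
    [IsZGroup N₂] (h₁ : HasType N₁) (h₂ : HasType N₂) : N₁ = N₂ := by
  classical
  haveI : Fact (Nat.Prime 2) := ⟨Nat.prime_two⟩
  by_cases hT₂ : N₂ = ⊤
  · by_contra hne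
    refine not_isZGroup_of_type h₁ (fun e => hne (e.trans hT₂.symm)) ?_
    haveI : IsZGroup (⊤ : Subgroup G) := hT₂ ▸ (inferInstance : IsZGroup N₂)
    exact IsZGroup.of_surjective (f := (Subgroup.topEquiv (G := G)).toMonoidHom) fun x => ⟨⟨x, trivial⟩, rfl⟩
  have hnZ := not_isZGroup_of_type h₂ hT₂
  have hT₁ : N₁ ≠ ⊤ := fun e => by
    haveI : IsZGroup (⊤ : Subgroup G) := e ▸ (inferInstance : IsZGroup N₁)
    exact hnZ (IsZGroup.of_surjective (f := (Subgroup.topEquiv (G := G)).toMonoidHom) fun x => ⟨⟨x, trivial⟩, rfl⟩)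
  have big : ∀ (N M : Subgroup G) [N.Normal] [M.Normal] [IsZGroup N] [IsZGroup M], HasType N → HasType M →
      M ≠ ⊤ → N ≠ ⊤ → (¬ ∃ f : G →* DihedralGroup 2, Function.Surjective f ∧ f.ker = M) → N = M := by
    intro N M _ _ _ _ hN hM hMT hNT hMk
    have hle : N ≤ M ∧ 12 ≤ M.index := by
      rcases (big_or_klein hM).resolve_left hMT with hk | ⟨f, hf, hk⟩ | ⟨f, hf, hk⟩
      · exact absurd hk hMk
      · exact ⟨hk ▸ le_of_big fourIn_four f hf N, le_trans (by decide) (index_big f hf hk)⟩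
      · exact ⟨hk ▸ le_of_big fourIn_five f hf N, le_trans (by decide) (index_big f hf hk)⟩
    refine le_antisymm hle.1 ?_
    rcases (big_or_klein hN).resolve_left hNT with ⟨f, hf, hk⟩ | ⟨f, hf, hk⟩ | ⟨f, hf, hk⟩
    · exfalso
      have := Nat.le_of_dvd (index_klein f hf hk ▸ (by norm_num : 0 < 4)) (Subgroup.index_dvd_of_le hle.1)
      rw [index_klein f hf hk] at this
      omega
    · exact hk ▸ le_of_big fourIn_four f hf M
    · exact hk ▸ le_of_big fourIn_five f hf M
  by_cases hk₂ : ∃ f : G →* DihedralGroup 2, Function.Surjective f ∧ f.ker = N₂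
  swap
  · exact big N₁ N₂ h₁ h₂ hT₂ hT₁ hk₂
  by_cases hk₁ : ∃ f : G →* DihedralGroup 2, Function.Surjective f ∧ f.ker = N₁
  swap
  · exact (big N₂ N₁ h₂ h₁ hT₁ hT₂ hk₁).symm
  obtain ⟨f₁, hf₁, rfl⟩ := hk₁
  obtain ⟨f₂, hf₂, rfl⟩ := hk₂
  obtain ⟨F, hF⟩ : ∃ F, F = f₁.prod f₂ := ⟨_, rfl⟩
  obtain ⟨P⟩ : Nonempty (Sylow 2 G) := inferInstance
  obtain ⟨R, _, _, _, ρ, β, hρ, -, -⟩ := exists_rep_root hG
  have hgen : ∃ u w : DihedralGroup 2 × DihedralGroup 2, (F.range : Set _) ⊆ {1, u, w, w * u} := by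
    have hsurj : ∀ y ∈ F.range, ∃ x ∈ (P : Subgroup G), F x = y := by
      rintro y ⟨g, rfl⟩
      obtain ⟨k, hk⟩ := P.isPGroup'.exists_card_eq
      have hodd : Odd (P : Subgroup G).index := by
        rw [Nat.odd_iff, ← Nat.two_dvd_ne_zero]; exact P.not_dvd_index
      have hsq : ∀ z : DihedralGroup 2 × DihedralGroup 2, z ^ 2 = 1 := fun z => by
        rw [pow_two]; exact Prod.ext (klein_sq _) (klein_sq _)
      haveI : (F.range).Normal := ⟨fun a ha b => by
        have hc : b * a = a * b := Prod.ext (klein_comm _ _) (klein_comm _ _)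
        rw [hc, mul_inv_cancel_right]; exact ha⟩
      by_contra hcon
      push Not at hcon
      have hidx : ((P : Subgroup G).map F.rangeRestrict).index = 1 := by
        refine Nat.eq_one_of_dvd_coprimes (a := (P : Subgroup G).index) (b := 2 ^ 4) ?_
          ((P : Subgroup G).index_map_dvd F.rangeRestrict_surjective) ?_
        · exact hodd.coprime_two_right.pow_right 4
        · refine (Subgroup.index_dvd_card _).trans ((Subgroup.card_subgroup_dvd_card _).trans ?_)
          rw [Nat.card_prod, Nat.card_eq_fintype_card]; rfl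
      rw [Subgroup.index_eq_one] at hidx
      obtain ⟨x, hx, hxe⟩ := hidx.ge (Subgroup.mem_top (F.rangeRestrict g))
      exact hcon x hx (congrArg Subtype.val hxe)
    rcases CfsgLib.Frob.cyclic_or_quaternion_two P.isPGroup' ((uniqSub_two hρ).sub _) with hc | ⟨n, ⟨e⟩⟩
    · exfalso
      refine hnZ ⟨fun p hp S => ?_⟩
      haveI := Fact.mk hp
      rcases eq_or_ne p 2 with rfl | hp2
      · exact isCyclic_of_surjective (S.equiv P).symm (S.equiv P).symm.surjective
      · exact sylow_odd_cyclic hG hp2 S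
    haveI : NeZero (2 ^ n) := ⟨by positivity⟩
    refine ⟨F (e.symm (QuaternionGroup.a 1) : G), F (e.symm (QuaternionGroup.xa 0) : G), fun y hy => ?_⟩
    obtain ⟨x, hx, rfl⟩ := hsurj y hy
    obtain ⟨c, hc⟩ := quat_gen (e ⟨x, hx⟩)
    have hpow : ∀ (z : DihedralGroup 2 × DihedralGroup 2) (c : ℕ), z ^ c = 1 ∨ z ^ c = z := fun z c => by
      have hz : z * z = 1 := Prod.ext (klein_sq _) (klein_sq _)
      induction c with
      | zero => exact Or.inl (pow_zero z)
      | succ c ih => rcases ih with h | h <;> rw [pow_succ, h] <;> simp [hz]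
    simp only [Set.mem_insert_iff, Set.mem_singleton_iff]
    rcases hc with hc | hc <;> rw [← MulEquiv.eq_symm_apply] at hc <;> replace hc := congrArg Subtype.val hc <;>
      simp only [map_mul, map_pow, Subgroup.coe_mul, SubgroupClass.coe_pow] at hc <;> subst hc <;>
      simp only [map_mul, map_pow]
    · rcases hpow (F (e.symm (QuaternionGroup.a 1) : G)) c with h | h <;> simp [h]
    · rcases hpow (F (e.symm (QuaternionGroup.a 1) : G)) c with h | h <;> simp [h]
  obtain ⟨u, w, huw⟩ := hgen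
  have h4 : Nat.card F.range ≤ 4 := by
    refine (Set.ncard_le_ncard huw (Set.toFinite _)).trans ?_
    refine (Set.ncard_insert_le _ _).trans ?_
    have := Set.ncard_insert_le u ({w, w * u} : Set (DihedralGroup 2 × DihedralGroup 2))
    have := Set.ncard_insert_le w ({w * u} : Set (DihedralGroup 2 × DihedralGroup 2))
    rw [Set.ncard_singleton] at this
    omega
  have hkerF : F.ker = f₁.ker ⊓ f₂.ker := by rw [hF, MonoidHom.ker_prod]
  rw [← Subgroup.index_ker, hkerF] at h4
  have e₁ := Subgroup.relIndex_mul_index (inf_le_left : f₁.ker ⊓ f₂.ker ≤ f₁.ker)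
  have e₂ := Subgroup.relIndex_mul_index (inf_le_right : f₁.ker ⊓ f₂.ker ≤ f₂.ker)
  rw [index_klein f₁ hf₁ rfl] at e₁
  rw [index_klein f₂ hf₂ rfl] at e₂
  have hi : (f₁.ker ⊓ f₂.ker).index ≠ 0 := Subgroup.index_ne_zero_of_finite
  have n₁ : (f₁.ker ⊓ f₂.ker).relIndex f₁.ker ≠ 0 := fun h => hi (by rw [← e₁, h, zero_mul])
  have n₂ : (f₁.ker ⊓ f₂.ker).relIndex f₂.ker ≠ 0 := fun h => hi (by rw [← e₂, h, zero_mul])
  have r₁ : (f₁.ker ⊓ f₂.ker).relIndex f₁.ker = 1 := by omega
  have r₂ : (f₁.ker ⊓ f₂.ker).relIndex f₂.ker = 1 := by omega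
  rw [Subgroup.relIndex_eq_one] at r₁ r₂
  exact le_antisymm (r₁.trans inf_le_right) (r₂.trans inf_le_left)

/-- The map of a quaternion group onto the four-group. -/
def kleinMap (n : ℕ) : QuaternionGroup (2 ^ (n + 1)) →* DihedralGroup 2 where
  toFun q := match q with
    | QuaternionGroup.a i => DihedralGroup.r (ZMod.castHom (dvd_mul_right 2 (2 ^ (n + 1))) (ZMod 2) i)
    | QuaternionGroup.xa i => DihedralGroup.sr (ZMod.castHom (dvd_mul_right 2 (2 ^ (n + 1))) (ZMod 2) i)
  map_one' := congrArg DihedralGroup.r (map_zero (ZMod.castHom (dvd_mul_right 2 (2 ^ (n + 1))) (ZMod 2)))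
  map_mul' x y := by
    rcases x with i | i <;> rcases y with j | j
    · simp only [QuaternionGroup.a_mul_a, DihedralGroup.r_mul_r, map_add]
    · simp only [QuaternionGroup.a_mul_xa, DihedralGroup.r_mul_sr, map_sub]
    · simp only [QuaternionGroup.xa_mul_a, DihedralGroup.sr_mul_r, map_add]
    · simp only [QuaternionGroup.xa_mul_xa, DihedralGroup.sr_mul_sr, map_add, map_sub, map_natCast]
      congr 1
      rw [show ((2 ^ (n + 1) : ℕ) : ZMod 2) = 0 by rw [ZMod.natCast_eq_zero_iff]; exact dvd_pow_self 2 (Nat.succ_ne_zero n)]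
      ring

/-- Existence in the solvable case. -/
theorem exists_type_solvable (hG : HasFunctional G) (f : G →* Equiv.Perm (Fin 4)) [IsZGroup f.ker]
    (hnZ : ¬ IsZGroup G) : ∃ N : Subgroup G, N.Normal ∧ IsZGroup N ∧ HasType N := by
  classical
  haveI : Fact (Nat.Prime 2) := ⟨Nat.prime_two⟩
  have hS4 : Nat.card (Equiv.Perm (Fin 4)) = 24 := by rw [Nat.card_perm, Nat.card_eq_fintype_card, Fintype.card_fin]; rfl
  by_cases h12 : 12 ∣ Nat.card f.range
  · refine ⟨f.ker, inferInstance, inferInstance, ?_⟩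
    obtain ⟨d, hd⟩ := h12
    have h24 : Nat.card f.range ∣ 24 := hS4 ▸ Subgroup.card_subgroup_dvd_card _
    have hd2 : d = 1 ∨ d = 2 := by
      rw [hd, show (24 : ℕ) = 12 * 2 from rfl] at h24
      exact (Nat.dvd_prime Nat.prime_two).mp (Nat.dvd_of_mul_dvd_mul_left (by norm_num) h24)
    have hmul := Subgroup.card_mul_index f.range
    rw [hd, hS4] at hmul
    rcases hd2 with rfl | rfl
    · have hr := Equiv.Perm.eq_alternatingGroup_of_index_eq_two (G := f.range) (by omega)
      refine Or.inr (Or.inr (Or.inl ⟨f.codRestrict (alternatingGroup (Fin 4)) (fun g => hr ▸ ⟨g, rfl⟩), ?_, ?_⟩))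
      · rintro ⟨y, hy⟩
        obtain ⟨g, rfl⟩ : y ∈ f.range := hr.symm ▸ hy
        exact ⟨g, rfl⟩
      · rw [MonoidHom.ker_codRestrict]
    · refine Or.inr (Or.inr (Or.inr (Or.inl ⟨f, MonoidHom.range_eq_top.mp (Subgroup.index_eq_one.mp (by omega)), rfl⟩)))
  have hcrit : CfsgLib.FrobeniusCond 2 G := by
    intro Q hQ g hg hgp
    by_contra hgC
    obtain ⟨R, _, _, _, ρ, β, hρ, -, -⟩ := exists_rep_root hG
    obtain ⟨e⟩ := CfsgLib.QuatSection.q8_of_moved hQ ((uniqSub_two hρ).sub Q) hg hgC (Nat.coprime_two_right.1 hgp)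
    obtain ⟨φ, hinj, hr, hrot⟩ := CfsgLib.QuatSection.exists_param e hg hgC (Nat.coprime_two_right.1 hgp)
    obtain ⟨ψ, hψ⟩ : ∃ ψ, ψ = f.comp φ := ⟨_, rfl⟩
    have hstable : ∀ q ∈ ψ.ker, CfsgLib.Quat.rotFun q ∈ ψ.ker := by
      intro q hq
      rw [hψ, MonoidHom.mem_ker, MonoidHom.comp_apply] at hq ⊢
      rw [← hrot, map_mul, map_mul, hq, mul_one, map_inv, mul_inv_cancel]
    have hkerψ : ∀ q ∈ ψ.ker, q * q = 1 := by
      intro q hq
      by_contra hne
      have hgenq : ∀ q : QuaternionGroup 2, q * q ≠ 1 →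
          CfsgLib.Quat.rotFun q * q ≠ q * CfsgLib.Quat.rotFun q := by decide
      have h1 : φ (CfsgLib.Quat.rotFun q) * φ q = φ q * φ (CfsgLib.Quat.rotFun q) := by
        haveI : IsZGroup f.ker := inferInstance
        obtain ⟨W, hW⟩ : ∃ W, W = (ψ.ker.map φ).subgroupOf f.ker := ⟨_, rfl⟩
        have hWp : IsPGroup 2 W := by
          rw [hW]
          refine ((hQ.to_le (?_ : ψ.ker.map φ ≤ Q)).of_equiv (Subgroup.subgroupOfEquivOfLe ?_).symm)
          · rw [← hr]; exact Subgroup.map_le_range φ _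
          · rintro _ ⟨x, hx, rfl⟩
            rw [hψ] at hx; exact hx
        obtain ⟨T, hT⟩ := hWp.exists_le_sylow
        haveI : IsCyclic (T : Subgroup f.ker) := inferInstance
        have m1 : (⟨φ q, by rw [hψ] at hq; exact hq⟩ : f.ker) ∈ (T : Subgroup f.ker) :=
          hT (hW ▸ ⟨q, hq, rfl⟩)
        have m2 : (⟨φ (CfsgLib.Quat.rotFun q), by have := hstable q hq; rw [hψ] at this; exact this⟩ : f.ker) ∈
            (T : Subgroup f.ker) := hT (hW ▸ ⟨_, hstable q hq, rfl⟩)
        have := (IsCyclic.commGroup (α := (T : Subgroup f.ker))).mul_comm ⟨_, m2⟩ ⟨_, m1⟩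
        exact congrArg (fun x : (T : Subgroup f.ker) => (((x : f.ker)) : G)) this
      rw [← map_mul, ← map_mul] at h1
      exact hgenq q hne (hinj h1)
    have h4 : 4 ∣ Nat.card f.range := by
      refine (?_ : 4 ∣ Nat.card ψ.range).trans (Subgroup.card_dvd_of_le fun y hy => by
        obtain ⟨x, rfl⟩ := hy; rw [hψ]; exact ⟨φ x, rfl⟩)
      have h1 := Subgroup.card_mul_index ψ.ker
      rw [Subgroup.index_ker, Nat.card_eq_fintype_card (α := QuaternionGroup 2), QuaternionGroup.card] at h1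
      have h2 : Nat.card ψ.ker ≤ 2 := by
        refine (Nat.card_le_card_of_injective
          (fun q : ψ.ker => (⟨q.1, hkerψ q.1 q.2⟩ : {q : QuaternionGroup 2 // q * q = 1}))
          fun a b h => Subtype.ext (by simpa using h)).trans ?_
        rw [Nat.card_eq_fintype_card]; decide
      interval_cases hK : Nat.card ψ.ker
      · exact absurd hK Nat.card_pos.ne'
      · exact ⟨2, by omega⟩
      · exact ⟨1, by omega⟩
    have h3 : 3 ∣ Nat.card f.range := by
      have hfg : f g ≠ 1 := by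
        intro h
        have hfix : ψ (CfsgLib.Quat.rotFun (QuaternionGroup.a 1)) = ψ (QuaternionGroup.a 1) := by
          rw [hψ, MonoidHom.comp_apply, MonoidHom.comp_apply, ← hrot, map_mul, map_mul, map_inv, h]; simp
        have := hkerψ (CfsgLib.Quat.rotFun (QuaternionGroup.a 1) * (QuaternionGroup.a 1)⁻¹)
          (by rw [MonoidHom.mem_ker, map_mul, map_inv, hfix, mul_inv_cancel])
        exact absurd this (by decide)
      have hodd : Odd (orderOf (f g)) := Odd.of_dvd_nat (Nat.coprime_two_right.1 hgp) (orderOf_map_dvd f g)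
      have hd : orderOf (f g) ∣ 2 ^ 3 * 3 := by
        rw [show 2 ^ 3 * 3 = 24 from rfl, ← hS4]; exact orderOf_dvd_natCard _
      have hd3 : orderOf (f g) ∣ 3 := (hodd.coprime_two_right.pow_right 3).dvd_of_dvd_mul_left hd
      rcases (Nat.dvd_prime Nat.prime_three).mp hd3 with h | h
      · exact absurd (orderOf_eq_one_iff.mp h) hfg
      · exact h ▸ Subgroup.orderOf_dvd_natCard f.range ⟨g, rfl⟩
    exact h12 (Nat.Coprime.mul_dvd_of_dvd_of_dvd (by norm_num : Nat.Coprime 4 3) h4 h3)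
  obtain ⟨P, O, hO, hc⟩ := (CfsgLib.hasNormalPComplement_iff_frobeniusCond (p := 2) (G := G)).mpr hcrit
  haveI := hO
  obtain ⟨R, _, _, _, ρ, β, hρ, -, -⟩ := exists_rep_root hG
  have hnc : ¬ IsCyclic (P : Subgroup G) := fun hcyc => hnZ ⟨fun p hp S => by
    haveI := Fact.mk hp
    rcases eq_or_ne p 2 with rfl | hp2
    · exact isCyclic_of_surjective (S.equiv P).symm (S.equiv P).symm.surjective
    · exact sylow_odd_cyclic hG hp2 S⟩
  obtain ⟨n, ⟨e⟩⟩ : ∃ n : ℕ, Nonempty ((P : Subgroup G) ≃* QuaternionGroup (2 ^ (n + 1))) := by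
    rcases CfsgLib.Frob.cyclic_or_quaternion_two P.isPGroup' ((uniqSub_two hρ).sub _) with hcyc | ⟨n, ⟨e⟩⟩
    · exact absurd hcyc hnc
    · cases n with
      | zero => exact absurd (e.isCyclic.mpr QuaternionGroup.quaternionGroup_one_isCyclic) hnc
      | succ n => exact ⟨n, ⟨e⟩⟩
  obtain ⟨π, hπ⟩ : ∃ π : (P : Subgroup G) →* G ⧸ O, π = (QuotientGroup.mk' O).comp (P : Subgroup G).subtype := ⟨_, rfl⟩
  have hπb : Function.Bijective π := by
    refine ⟨(injective_iff_map_eq_one π).mpr fun x hx => ?_, fun q => ?_⟩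
    · rw [hπ] at hx
      exact Subtype.ext (Subgroup.disjoint_def.mp hc.disjoint ((QuotientGroup.eq_one_iff (x : G)).mp hx) x.2)
    · obtain ⟨x, rfl⟩ := QuotientGroup.mk_surjective q
      obtain ⟨⟨⟨o, ho⟩, p⟩, rfl⟩ := hc.2 x
      refine ⟨p, ?_⟩
      rw [hπ]
      show ((p : G) : G ⧸ O) = ((o * p : G) : G ⧸ O)
      rw [QuotientGroup.mk_mul, (QuotientGroup.eq_one_iff o).mpr ho, one_mul]
  obtain ⟨κ, hκ⟩ : ∃ κ : G →* DihedralGroup 2,
      κ = (kleinMap n).comp ((e.toMonoidHom.comp (MulEquiv.ofBijective π hπb).symm.toMonoidHom).comp (QuotientGroup.mk' O)) :=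
    ⟨_, rfl⟩
  haveI : NeZero (2 ^ (n + 1)) := ⟨by positivity⟩
  have hκs : Function.Surjective κ := by
    have hkl : Function.Surjective (kleinMap n) := by
      rintro (i | i)
      · exact ⟨QuaternionGroup.a (i.val : ZMod (2 * 2 ^ (n + 1))), by
          show DihedralGroup.r (ZMod.castHom (dvd_mul_right 2 (2 ^ (n + 1))) (ZMod 2) _) = _
          rw [map_natCast, ZMod.natCast_zmod_val]⟩
      · exact ⟨QuaternionGroup.xa (i.val : ZMod (2 * 2 ^ (n + 1))), by
          show DihedralGroup.sr (ZMod.castHom (dvd_mul_right 2 (2 ^ (n + 1))) (ZMod 2) _) = _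
          rw [map_natCast, ZMod.natCast_zmod_val]⟩
    rw [hκ, MonoidHom.coe_comp, MonoidHom.coe_comp]
    exact hkl.comp ((e.surjective.comp (MulEquiv.ofBijective π hπb).symm.surjective).comp
      (QuotientGroup.mk'_surjective O))
  refine ⟨κ.ker, inferInstance, ⟨fun p hp S => ?_⟩, Or.inr (Or.inl ⟨κ, hκs, rfl⟩)⟩
  haveI := Fact.mk hp
  rcases eq_or_ne p 2 with rfl | hp2
  · obtain ⟨h, hh⟩ : ∃ h : κ.ker →* QuaternionGroup (2 ^ (n + 1)),
        h = ((e.toMonoidHom.comp (MulEquiv.ofBijective π hπb).symm.toMonoidHom).comp (QuotientGroup.mk' O)).comp κ.ker.subtype :=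
      ⟨_, rfl⟩
    refine isCyclic_of_injective ((h.comp (S : Subgroup κ.ker).subtype).codRestrict
      (Subgroup.zpowers (QuaternionGroup.a 1)) fun x => ?_) ?_
    · have hx : kleinMap n (h x.1) = 1 := by
        rw [hh]
        exact (DFunLike.congr_fun hκ ((x.1 : κ.ker) : G)).symm.trans (MonoidHom.mem_ker.mp x.1.2)
      obtain ⟨c, hc⟩ := quat_gen (h x.1)
      show h x.1 ∈ Subgroup.zpowers (QuaternionGroup.a 1)
      rcases hc with hc | hc
      · rw [hc]; exact pow_mem (Subgroup.mem_zpowers _) _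
      · exfalso
        rw [hc, QuaternionGroup.a_one_pow, QuaternionGroup.xa_mul_a] at hx
        cases hx
    · refine (injective_iff_map_eq_one _).mpr fun x hx => ?_
      have hx' : h x.1 = 1 := congrArg Subtype.val hx
      rw [hh] at hx'
      simp only [MonoidHom.comp_apply, MulEquiv.coe_toMonoidHom, map_eq_one_iff _ e.injective,
        map_eq_one_iff _ (MulEquiv.ofBijective π hπb).symm.injective, Subgroup.coe_subtype, QuotientGroup.mk'_apply,
        QuotientGroup.eq_one_iff] at hx'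
      obtain ⟨k, hk⟩ := S.isPGroup' x
      have ho : orderOf ((x.1 : κ.ker) : G) ∣ 2 ^ k := orderOf_dvd_of_pow_eq_one (by
        have := congrArg (fun z : (S : Subgroup κ.ker) => ((z : κ.ker) : G)) hk
        simpa using this)
      have hoO : orderOf ((x.1 : κ.ker) : G) ∣ Nat.card O := Subgroup.orderOf_dvd_natCard O hx'
      have hOodd : ¬ 2 ∣ Nat.card O := fun hd => by
        have h3 : 2 ^ ((Nat.card G).factorization 2 + 1) ∣ Nat.card G := by
          rw [pow_succ, ← P.card_eq_multiplicity, ← hc.card_mul, mul_comm (Nat.card O)]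
          exact mul_dvd_mul_left _ hd
        exact absurd h3 (Nat.pow_succ_factorization_not_dvd (Nat.card_pos (α := G)).ne' Nat.prime_two)
      have := orderOf_eq_one_iff.mp (Nat.eq_one_of_dvd_coprimes
        ((Nat.prime_two.coprime_iff_not_dvd.mpr hOodd).symm.pow_right k).symm ho hoO)
      exact Subtype.ext (Subtype.ext this)
  · exact sylow_odd_cyclic (hG.subgroup κ.ker) hp2 S

/-- The kernel of the quartet action has cyclic Sylow subgroups. -/
theorem isZGroup_ker (hG : HasFunctional G) (f : G →* Equiv.Perm (Fin 5)) (M : Subgroup G)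
    (hker : f.ker = Subgroup.centralizer ((three G : Subgroup G) : Set G)) (hMC : M ≤ f.ker)
    (e25 : three G ≃* Matrix.SpecialLinearGroup (Fin 2) (ZMod 5)) (hcop : (Nat.card M).Coprime 30)
    (hjoin : three G ⊔ M = (alternatingGroup (Fin 5)).comap f) : IsZGroup f.ker := by
  classical
  haveI : Fact (Nat.Prime 2) := ⟨Nat.prime_two⟩
  obtain ⟨R, _, _, _, ρ, β, hρ, -, -⟩ := exists_rep_root hG
  refine ⟨fun p hp S => ?_⟩
  haveI := Fact.mk hp
  rcases eq_or_ne p 2 with rfl | hp2
  swap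
  · exact sylow_odd_cyclic (hG.subgroup f.ker) hp2 S
  have hu : CfsgLib.Frob.UniqSub 2 (S : Subgroup f.ker) := ((uniqSub_two hρ).sub _).sub _
  rcases CfsgLib.Frob.cyclic_or_quaternion_two S.isPGroup' hu with h | ⟨n, ⟨e⟩⟩
  · exact h
  haveI : NeZero (2 ^ n) := ⟨by positivity⟩
  -- an element of order four in the kernel lies in `three ⊔ M`, hence is a central element times an odd one
  exfalso
  obtain ⟨c, hc⟩ : ∃ c : G, c = (((e.symm (QuaternionGroup.xa 0) : (S : Subgroup f.ker)) : f.ker) : G) := ⟨_, rfl⟩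
  have hco : orderOf c = 4 := by
    rw [hc, Subgroup.orderOf_coe, Subgroup.orderOf_coe, MulEquiv.orderOf_eq, QuaternionGroup.orderOf_xa]
  have hck : c ∈ f.ker := hc ▸ (((e.symm (QuaternionGroup.xa 0) : (S : Subgroup f.ker)) : f.ker)).2
  have hjoin' : c ∈ three G ⊔ M := by
    rw [hjoin, Subgroup.mem_comap, MonoidHom.mem_ker.mp hck]; exact one_mem _
  obtain ⟨a, ha, m, hm, ham⟩ := Subgroup.mem_sup_of_normal_left.mp hjoin'
  have hak : a ∈ f.ker := by
    have : a = c * m⁻¹ := eq_mul_inv_of_mul_eq ham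
    rw [this]; exact mul_mem hck (inv_mem (hMC hm))
  have hcomm : Commute a m := Subgroup.mem_centralizer_iff.mp (hker ▸ hMC hm) a ha
  have h2 : orderOf a ∣ 2 := by
    have hcen : e25 ⟨a, ha⟩ ∈ Subgroup.center (Matrix.SpecialLinearGroup (Fin 2) (ZMod 5)) := by
      rw [Subgroup.mem_center_iff]
      intro y
      obtain ⟨w, rfl⟩ := e25.surjective y
      rw [← map_mul, ← map_mul]
      exact congrArg e25 (Subtype.ext (Subgroup.mem_centralizer_iff.mp (hker.le hak) w w.2))
    obtain ⟨r, hr, hra⟩ := Matrix.SpecialLinearGroup.mem_center_iff.mp hcen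
    rw [Fintype.card_fin] at hr
    have h1 : e25 ⟨a, ha⟩ * e25 ⟨a, ha⟩ = 1 := by
      apply Subtype.ext
      show (e25 ⟨a, ha⟩ : Matrix (Fin 2) (Fin 2) (ZMod 5)) * (e25 ⟨a, ha⟩ : Matrix (Fin 2) (Fin 2) (ZMod 5)) = 1
      rw [← hra, ← map_mul, ← pow_two, hr, map_one]
    rw [← map_mul, map_eq_one_iff _ e25.injective] at h1
    exact orderOf_dvd_of_pow_eq_one (by rw [pow_two]; exact congrArg Subtype.val h1)
  have hm2 : ¬ 2 ∣ orderOf m := fun hd =>
    absurd (Nat.eq_one_of_dvd_coprimes hcop (hd.trans (Subgroup.orderOf_dvd_natCard M hm)) (by norm_num)) (by norm_num)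
  have hd := hcomm.orderOf_mul_dvd_lcm
  rw [ham, hco] at hd
  have h4 : 4 ∣ Nat.lcm 2 (orderOf m) := hd.trans (Nat.lcm_dvd (h2.trans (Nat.dvd_lcm_left _ _)) (Nat.dvd_lcm_right _ _))
  have h4' : 2 * 2 ∣ 2 * orderOf m := h4.trans (Nat.lcm_dvd_mul _ _)
  exact hm2 (Nat.dvd_of_mul_dvd_mul_left two_pos h4')

end CfsgLib.ZasFC
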