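import Mathlib
import Cfsg.Agent.Lib.ZassenhausFC.SixTypes

/-!
The automorphism group of a solvable fixed-point-free group is solvable.
-/

set_option autoImplicit false
set_option linter.unusedSimpArgs false
set_option linter.unusedSectionVars false

namespace CfsgLib.ZasFC

universe u

variable {G : Type u} [Group G] [Finite G]

theorem aut_solvable_of_cyclic [IsCyclic G] : Group.IsSolvable (MulAut G) :=
  Group.isSolvable_of_comm fun a b => (IsCyclic.mulAutMulEquiv G).injective (by rw [map_mul, map_mul, mul_comm])

theorem aut_solvable_of_card_le_four (h : Nat.card G ≤ 4) : Group.IsSolvable (MulAut G) := by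
  classical
  haveI := Fintype.ofFinite G
  obtain ⟨e⟩ : Nonempty (G ↪ Fin 4) := by
    refine Function.Embedding.nonempty_of_card_le ?_
    rw [Fintype.card_fin, ← Nat.card_eq_fintype_card]; exact h
  haveI := isSolvable_perm_four
  let f : MulAut G →* Equiv.Perm (Fin 4) := (Equiv.Perm.viaEmbeddingHom e).comp
    { toFun := fun φ => φ.toEquiv
      map_one' := rfl
      map_mul' := fun _ _ => rfl }
  refine Group.isSolvable_of_isSolvable_injective (f := f) ?_
  exact (Equiv.Perm.viaEmbeddingHom_injective e).comp fun a b h => MulEquiv.ext fun x => congrArg (fun p : Equiv.Perm G => p x) h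

theorem aut_solvable_congr {H : Type*} [Group H] (e : G ≃* H) (h : Group.IsSolvable (MulAut H)) :
    Group.IsSolvable (MulAut G) :=
  Group.isSolvable_of_isSolvable_injective (f := (MulAut.congr e).toMonoidHom) (MulAut.congr e).injective

/-- Extensions. -/
theorem aut_solvable_ext (N : Subgroup G) [N.Normal] (hchar : ∀ φ : MulAut G, N.map φ.toMonoidHom = N)
    (hN : Group.IsSolvable (MulAut N)) (hQ : Group.IsSolvable (MulAut (G ⧸ N))) : Group.IsSolvable (MulAut G) := by
  classical
  have hmem : ∀ (φ : MulAut G) (n : G), n ∈ N → φ n ∈ N := fun φ n hn => (hchar φ).le ⟨n, hn, rfl⟩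
  let r : MulAut G → MulAut N := fun φ =>
    { toFun := fun n => ⟨φ n, hmem φ n n.2⟩
      invFun := fun n => ⟨φ.symm n, hmem φ.symm n n.2⟩
      left_inv := fun n => Subtype.ext (φ.symm_apply_apply n)
      right_inv := fun n => Subtype.ext (φ.apply_symm_apply n)
      map_mul' := fun a b => Subtype.ext (map_mul φ (a : G) b) }
  let q : MulAut G → MulAut (G ⧸ N) := fun φ => QuotientGroup.congr N N φ (hchar φ)
  have hq : ∀ (φ : MulAut G) (g : G), q φ (g : G ⧸ N) = ((φ g : G) : G ⧸ N) := fun φ g => rfl
  let F : MulAut G →* MulAut N × MulAut (G ⧸ N) :=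
    { toFun := fun φ => (r φ, q φ)
      map_one' := Prod.ext (MulEquiv.ext fun n => rfl) (MulEquiv.ext fun x => by
        obtain ⟨g, rfl⟩ := QuotientGroup.mk_surjective x
        rfl)
      map_mul' := fun a b => Prod.ext (MulEquiv.ext fun n => rfl) (MulEquiv.ext fun x => by
        obtain ⟨g, rfl⟩ := QuotientGroup.mk_surjective x
        rfl) }
  haveI : Group.IsSolvable F.ker := by
    refine Group.isSolvable_of_comm fun a b => Subtype.ext (MulEquiv.ext fun x => ?_)
    have hfix : ∀ c : F.ker, ∀ n ∈ N, (c : MulAut G) n = n := fun c n hn =>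
      congrArg Subtype.val (DFunLike.congr_fun (congrArg Prod.fst (MonoidHom.mem_ker.mp c.2)) (⟨n, hn⟩ : N))
    have hmod : ∀ c : F.ker, ∀ x, x⁻¹ * (c : MulAut G) x ∈ N := fun c x => by
      have h := DFunLike.congr_fun (congrArg Prod.snd (MonoidHom.mem_ker.mp c.2)) (x : G ⧸ N)
      rw [show F (c : MulAut G) = (r c, q c) from rfl] at h
      exact QuotientGroup.eq.mp h.symm
    obtain ⟨c, hc⟩ : ∃ c, c = x⁻¹ * (a : MulAut G) x := ⟨_, rfl⟩
    obtain ⟨d, hd⟩ : ∃ d, d = x⁻¹ * (b : MulAut G) x := ⟨_, rfl⟩
    have hcN : c ∈ N := hc ▸ hmod a x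
    have hdN : d ∈ N := hd ▸ hmod b x
    have ea : (a : MulAut G) x = x * c := by rw [hc]; group
    have eb : (b : MulAut G) x = x * d := by rw [hd]; group
    have hcd : c * d = d * c := by
      have hn : x * d * x⁻¹ ∈ N := (inferInstance : N.Normal).conj_mem d hdN x
      have h := hfix a _ hn
      rw [map_mul, map_mul, map_inv, ea, hfix a d hdN] at h
      have h' : c * d * c⁻¹ = d := by
        calc c * d * c⁻¹ = x⁻¹ * (x * c * d * (x * c)⁻¹) * x := by group
          _ = x⁻¹ * (x * d * x⁻¹) * x := by rw [h]
          _ = d := by group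
      exact mul_inv_eq_iff_eq_mul.mp h'
    show (a : MulAut G) ((b : MulAut G) x) = (b : MulAut G) ((a : MulAut G) x)
    rw [eb, ea, map_mul, map_mul, ea, eb, hfix a d hdN, hfix b c hcN, mul_assoc, hcd, ← mul_assoc]
  haveI := hN; haveI := hQ
  exact Group.isSolvable_of_ker_le_range F.ker.subtype F (le_of_eq F.ker.range_subtype.symm)

theorem commutator_map_aut (φ : MulAut G) : (commutator G).map φ.toMonoidHom = commutator G := by
  rw [commutator_def, Subgroup.map_commutator, Subgroup.map_top_of_surjective _ φ.surjective]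

theorem aut_solvable_of_zgroup [IsZGroup G] : Group.IsSolvable (MulAut G) := by
  haveI := IsZGroup.isCyclic_commutator G
  refine aut_solvable_ext (commutator G) commutator_map_aut aut_solvable_of_cyclic ?_
  haveI : Group.IsNilpotent (G ⧸ commutator G) := by
    letI : CommGroup (G ⧸ commutator G) := (inferInstance : CommGroup (Abelianization G))
    infer_instance
  haveI : IsCyclic (G ⧸ commutator G) := inferInstance
  exact aut_solvable_of_cyclic

theorem commutator_alt_four_card : Nat.card (commutator (alternatingGroup (Fin 4))) ≤ 4 := by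
  have hle : commutator (alternatingGroup (Fin 4)) ≤
      Subgroup.closure {x : alternatingGroup (Fin 4) | x * x = 1} := by
    rw [commutator_eq_closure, Subgroup.closure_le]
    rintro _ ⟨a, b, rfl⟩
    refine Subgroup.subset_closure ?_
    revert a b
    decide +kernel
  have hset : ((Subgroup.closure {x : alternatingGroup (Fin 4) | x * x = 1} : Subgroup (alternatingGroup (Fin 4))) :
      Set (alternatingGroup (Fin 4))) ⊆ {x | x * x = 1} := by
    intro x hx
    induction hx using Subgroup.closure_induction with
    | mem x hx => exact hx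
    | one => exact one_mul 1
    | mul x y _ _ hx hy =>
      have key : ∀ x y : alternatingGroup (Fin 4), x * x = 1 → y * y = 1 → x * y * (x * y) = 1 := by decide +kernel
      exact key x y hx hy
    | inv x _ hx => rw [inv_eq_of_mul_eq_one_right hx]; exact hx
  refine (Nat.card_mono (Set.toFinite _) ((SetLike.coe_subset_coe.mpr hle).trans hset)).trans ?_
  rw [Nat.card_eq_fintype_card]
  decide +kernel

theorem aut_solvable_alt_four : Group.IsSolvable (MulAut (alternatingGroup (Fin 4))) := by
  refine aut_solvable_ext (commutator _) commutator_map_aut (aut_solvable_of_card_le_four commutator_alt_four_card) ?_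
  refine aut_solvable_of_card_le_four ?_
  by_contra h
  have h1 := (commutator (alternatingGroup (Fin 4))).card_mul_index
  have h12 : Nat.card (alternatingGroup (Fin 4)) = 12 := by
    rw [nat_card_alternatingGroup, Nat.card_eq_fintype_card, Fintype.card_fin]; rfl
  rw [h12] at h1
  have h3 : Nat.card (commutator (alternatingGroup (Fin 4))) ≠ 1 := by
    intro e
    rw [Subgroup.card_eq_one, commutator_eq_bot_iff_center_eq_top] at e
    have : ∀ a b : alternatingGroup (Fin 4), a * b = b * a := fun a b =>
      Subgroup.mem_center_iff.mp (e ▸ Subgroup.mem_top b) a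
    revert this
    decide +kernel
  rw [← Subgroup.index_eq_card] at h
  have h4 := commutator_alt_four_card
  interval_cases hc : Nat.card (commutator (alternatingGroup (Fin 4)))
  · omega
  · exact h3 rfl
  · have h2 : (commutator (alternatingGroup (Fin 4))).index = 6 := by omega
    obtain ⟨w, hw⟩ := exists_prime_orderOf_dvd_card' (G := commutator (alternatingGroup (Fin 4))) 2 (hc.symm ▸ dvd_rfl)
    haveI : Fact (Nat.Prime 2) := ⟨Nat.prime_two⟩
    have hcent : ∀ g, g * (w : alternatingGroup (Fin 4)) * g⁻¹ = w := fun g => by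
      have hm : g * (w : alternatingGroup (Fin 4)) * g⁻¹ ∈ commutator (alternatingGroup (Fin 4)) :=
        (inferInstance : (commutator (alternatingGroup (Fin 4))).Normal).conj_mem _ w.2 g
      have := (Nat.card_eq_two_iff' (1 : commutator (alternatingGroup (Fin 4)))).mp hc
      obtain ⟨u, hu, huniq⟩ := this
      have e1 : w = u := huniq w (fun e => by rw [e, orderOf_one] at hw; norm_num at hw)
      have e2 : (⟨_, hm⟩ : commutator (alternatingGroup (Fin 4))) = u := huniq _ fun e => by
        have e' := congrArg Subtype.val e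
        simp only [Subgroup.coe_one] at e'
        rw [conj_eq_one_iff] at e'
        rw [show w = 1 from Subtype.ext e', orderOf_one] at hw; norm_num at hw
      exact congrArg Subtype.val (e2.trans e1.symm)
    have hz : ∀ x : alternatingGroup (Fin 4), (∀ g, g * x * g⁻¹ = x) → x = 1 := by decide +kernel
    have h5 := hz _ hcent
    rw [← Subgroup.orderOf_coe, h5, orderOf_one] at hw
    norm_num at hw
  all_goals omega

theorem commutator_perm_four : commutator (Equiv.Perm (Fin 4)) = alternatingGroup (Fin 4) :=
  le_antisymm (by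
      rw [commutator_eq_closure, Subgroup.closure_le]
      rintro _ ⟨a, b, rfl⟩
      rw [SetLike.mem_coe, Equiv.Perm.mem_alternatingGroup]
      simp only [commutatorElement_def, map_mul, map_inv]
      rcases Int.units_eq_one_or (Equiv.Perm.sign a) with h | h <;>
        rcases Int.units_eq_one_or (Equiv.Perm.sign b) with h' | h' <;> rw [h, h'] <;> decide) (by
      rw [← Equiv.Perm.closure_three_cycles_eq_alternating, Subgroup.closure_le]
      intro σ hσ
      have key : ∀ σ : Equiv.Perm (Fin 4), σ * σ * σ = 1 → ∃ a b : Equiv.Perm (Fin 4), a * b * a⁻¹ * b⁻¹ = σ := by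
        decide +kernel
      obtain ⟨a, b, h⟩ := key σ (by
        rw [← pow_two, ← pow_succ, show 2 + 1 = orderOf σ from (Equiv.Perm.IsThreeCycle.orderOf hσ).symm,
          pow_orderOf_eq_one])
      rw [← h]
      exact Subgroup.commutator_mem_commutator (Subgroup.mem_top a) (Subgroup.mem_top b))

theorem aut_solvable_perm_four : Group.IsSolvable (MulAut (Equiv.Perm (Fin 4))) := by
  refine aut_solvable_ext (commutator _) commutator_map_aut
    (aut_solvable_congr (MulEquiv.subgroupCongr commutator_perm_four) aut_solvable_alt_four) ?_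
  refine aut_solvable_of_card_le_four ?_
  rw [← Subgroup.index_eq_card, commutator_perm_four, alternatingGroup.index_eq_two]
  norm_num

/-- The main statement. -/
theorem aut_solvable (hG : HasFunctional G) (hsol : Group.IsSolvable G)
    (h358 : ¬ IsZGroup G → ∃ f : G →* Equiv.Perm (Fin 4), IsZGroup f.ker) : Group.IsSolvable (MulAut G) := by
  by_cases hZ : IsZGroup G
  · exact aut_solvable_of_zgroup
  obtain ⟨f, hf⟩ := h358 hZ
  haveI := hf
  obtain ⟨N, hN, hNZ, hT⟩ := exists_type_solvable hG f hZ
  haveI := hN
  haveI := hNZ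
  have hchar : ∀ φ : MulAut G, N.map φ.toMonoidHom = N := by
    intro φ
    haveI : (N.map φ.toMonoidHom).Normal := hN.map _ φ.surjective
    haveI : IsZGroup (N.map φ.toMonoidHom) := IsZGroup.of_surjective (φ.toMonoidHom.subgroupMap_surjective N)
    refine type_unique hG ?_ hT
    have hk : ∀ {X : Type} [Group X] (g : G →* X), Function.Surjective g → g.ker = N →
        Function.Surjective (g.comp φ.symm.toMonoidHom) ∧ (g.comp φ.symm.toMonoidHom).ker = N.map φ.toMonoidHom := by
      intro X _ g hg hgk
      refine ⟨hg.comp φ.symm.surjective, ?_⟩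
      rw [← hgk, ← MonoidHom.comap_ker]
      exact (Subgroup.map_equiv_eq_comap_symm' φ g.ker).symm
    rcases hT with h | ⟨g, hg, hgk⟩ | ⟨g, hg, hgk⟩ | ⟨g, hg, hgk⟩ | ⟨g, hg, hgk⟩ | ⟨g, hg, hgk⟩
    · exact Or.inl (by rw [h, Subgroup.map_top_of_surjective _ φ.surjective])
    · exact Or.inr (Or.inl ⟨_, hk g hg hgk⟩)
    · exact Or.inr (Or.inr (Or.inl ⟨_, hk g hg hgk⟩))
    · exact Or.inr (Or.inr (Or.inr (Or.inl ⟨_, hk g hg hgk⟩)))
    · exact Or.inr (Or.inr (Or.inr (Or.inr (Or.inl ⟨_, hk g hg hgk⟩))))
    · exact Or.inr (Or.inr (Or.inr (Or.inr (Or.inr ⟨_, hk g hg hgk⟩))))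
  refine aut_solvable_ext N hchar aut_solvable_of_zgroup ?_
  haveI := hsol
  rcases hT with h | ⟨g, hg, rfl⟩ | ⟨g, hg, rfl⟩ | ⟨g, hg, rfl⟩ | ⟨g, hg, rfl⟩ | ⟨g, hg, rfl⟩
  · refine aut_solvable_of_card_le_four ?_
    rw [← Subgroup.index_eq_card, h, Subgroup.index_top]; norm_num
  · refine aut_solvable_of_card_le_four ?_
    rw [← Subgroup.index_eq_card, index_klein g hg rfl]
  · exact aut_solvable_congr (QuotientGroup.quotientKerEquivOfSurjective g hg) aut_solvable_alt_four
  · exact aut_solvable_congr (QuotientGroup.quotientKerEquivOfSurjective g hg) aut_solvable_perm_four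
  · exfalso
    haveI := Group.isSolvable_of_surjective hg
    have h5 : ¬ Group.IsSolvable (alternatingGroup (Fin 5)) := fun _ =>
      Equiv.Perm.not_isSolvable_fin_5 (Group.isSolvable_of_ker_le_range (alternatingGroup (Fin 5)).subtype
        Equiv.Perm.sign (fun x hx => ⟨⟨x, Equiv.Perm.mem_alternatingGroup.mpr hx⟩, rfl⟩))
    exact h5 inferInstance
  · exact absurd (Group.isSolvable_of_surjective hg) Equiv.Perm.not_isSolvable_fin_5

end CfsgLib.ZasFC
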