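import Mathlib
import Cfsg.Agent.S3358
import Cfsg.Agent.Lib.ZassenhausFC.AutSolvable

/-!
Frobenius complements in a larger universe.
-/

set_option autoImplicit false

namespace CfsgLib.ZasFC

open scoped commutatorElement Pointwise

universe u

theorem hFC_of_complement {G : Type*} [Group G] {F : Type u} [Group F] [Finite F] (C : Subgroup F)
    (hC : Cfsg.IsFrobeniusComplement C) (e : G ≃* C) :
    ∃ (L : Type) (_ : Group L) (_ : Finite L) (H : Subgroup L), Cfsg.IsFrobeniusComplement H ∧ Nonempty (G ≃* H) := by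
  obtain ⟨h1, h2, h3⟩ := hC
  haveI : Finite (Shrink.{0} F) := Finite.of_equiv _ (equivShrink.{0} F)
  obtain ⟨φ, -⟩ : ∃ φ : F ≃* Shrink.{0} F, True := ⟨Shrink.mulEquiv.symm, trivial⟩
  refine ⟨Shrink.{0} F, inferInstance, inferInstance, C.map φ.toMonoidHom, ⟨?_, ?_, ?_⟩,
    ⟨e.trans (C.equivMapOfInjective _ φ.injective)⟩⟩
  · rwa [Ne, Subgroup.map_eq_bot_iff_of_injective _ φ.injective]
  · intro h
    refine h2 (top_unique fun x _ => ?_)
    obtain ⟨y, hy, hyx⟩ := h.ge (Subgroup.mem_top (φ x))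
    exact (φ.injective hyx : y = x) ▸ hy
  · intro g hg
    obtain ⟨g, rfl⟩ := φ.surjective g
    have hgC : g ∉ C := fun h => hg (Subgroup.mem_map_of_mem φ.toMonoidHom h)
    rw [Subgroup.eq_bot_iff_forall]
    intro x hx
    obtain ⟨⟨y, hy, rfl⟩, hx2⟩ := hx
    replace hx2 := Subgroup.mem_pointwise_smul_iff_inv_smul_mem.mp hx2
    rw [MulAut.smul_def, MulAut.conj_inv_apply] at hx2
    obtain ⟨w, hw, hwe⟩ := hx2
    have hwe' : w = g⁻¹ * y * g := φ.injective (by simpa using hwe)
    have : y ∈ C ⊓ (MulAut.conj g • C) := ⟨hy, by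
      refine Subgroup.mem_pointwise_smul_iff_inv_smul_mem.mpr ?_
      rw [MulAut.smul_def, MulAut.conj_inv_apply, ← hwe']; exact hw⟩
    rw [h3 g hgC, Subgroup.mem_bot] at this
    subst this
    exact map_one φ

theorem aut_solvable_of_complement {G : Type*} [Group G] [Finite G] {F : Type u} [Group F] [Finite F]
    (C : Subgroup F) (hC : Cfsg.IsFrobeniusComplement C) (e : G ≃* C) (hsol : Group.IsSolvable G) :
    Group.IsSolvable (MulAut G) := by
  have hFC := hFC_of_complement C hC e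
  refine aut_solvable (hasFunctional_of_hFC hFC) hsol fun _ => ?_
  obtain ⟨G₀, -, ⟨f, hf⟩, hcyc, -⟩ := Cfsg.Agent.S3358.result hsol hFC
  exact ⟨f, hf.symm ▸ (⟨fun p hp P => @hcyc p ⟨hp⟩ P⟩ : IsZGroup G₀)⟩

/-- Without a subgroup `SL(2,5)` a fixed-point-free group is solvable. -/
theorem isSolvable_of_no_sl25 {G : Type*} [Group G] [Finite G] (hG : HasFunctional G)
    (hno : ∀ K : Subgroup G, ¬ Nonempty (K ≃* Matrix.SpecialLinearGroup (Fin 2) (ZMod 5))) : Group.IsSolvable G := by
  by_contra hns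
  obtain ⟨f, M, -, -, he, -⟩ := main hG hns
  exact hno _ he

/-- An upper transvection. -/
def uM : Matrix.SpecialLinearGroup (Fin 2) (ZMod 5) := ⟨!![1, 1; 0, 1], by decide⟩

/-- A lower transvection. -/
def lM : Matrix.SpecialLinearGroup (Fin 2) (ZMod 5) := ⟨!![1, 0; 1, 1], by decide⟩

/-- A diagonal element. -/
def dM : Matrix.SpecialLinearGroup (Fin 2) (ZMod 5) := ⟨!![2, 0; 0, 3], by decide⟩

theorem sl25_not_solvable : ¬ Group.IsSolvable (Matrix.SpecialLinearGroup (Fin 2) (ZMod 5)) := by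
  intro h
  have key : ∀ n, uM ∈
      derivedSeries (Matrix.SpecialLinearGroup (Fin 2) (ZMod 5)) n ∧
    lM ∈
      derivedSeries (Matrix.SpecialLinearGroup (Fin 2) (ZMod 5)) n := by
    intro n
    induction n with
    | zero => exact ⟨trivial, trivial⟩
    | succ n ih =>
      obtain ⟨hu, hl⟩ := ih
      have hd : dM ∈
          derivedSeries (Matrix.SpecialLinearGroup (Fin 2) (ZMod 5)) n := by
        rw [show dM = uM ^ 2 * lM ^ 2 * uM * lM * uM ^ 4 by decide +kernel]
        exact mul_mem (mul_mem (mul_mem (mul_mem (pow_mem hu 2) (pow_mem hl 2)) hu) hl) (pow_mem hu 4)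
      constructor <;> rw [derivedSeries_succ]
      · rw [show uM =
          ⁅dM,
           uM ^ 2⁆ by decide +kernel]
        exact Subgroup.commutator_mem_commutator hd (pow_mem hu 2)
      · rw [show lM =
          ⁅dM,
           lM ^ 2⁆ by decide +kernel]
        exact Subgroup.commutator_mem_commutator hd (pow_mem hl 2)
  obtain ⟨⟨n, hn⟩⟩ := h
  have := (key n).1
  rw [hn, Subgroup.mem_bot] at this
  exact absurd this (by decide +kernel)

end CfsgLib.ZasFC
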